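import Cfsg.Agent.Mrg.Omega.NO1.AB.Beta
import Cfsg.Agent.Mrg.Omega.NO1.Alpha.Trick
import Cfsg.Agent.Mrg.Omega.NO1.HE.Base

section


/-!
# N1: no subgroup lies in no point (`HH = {}`; bb OMEGA 20641, helper367)

`Emp V U T M q` : the setting `Amb`, no `Bad` subgroup, `|V : E_B| = q` and (TR) (the fields of `World`).
`Emp.one` : a subgroup containing a member lies in at most one point.  `Emp.trick` : the TRICK.
`Emp.inf_eq` : if every Sylow 2-subgroup `T'` normalises `E_B` for some member `B ≤ T'` then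
`B ∩ M₂ = 1` for every member `B` and every point `M₂` not containing `B`.  `Emp.plus` : (+).
-/

set_option autoImplicit false
set_option linter.unusedSectionVars false

namespace Cfsg.Agent.Omega.NO1.TH

open Subgroup Cfsg.Agent.Omega.NO1.AB
open scoped Pointwise

universe u

variable {Y : Type u} [Group Y] {V : Type u} [AddCommGroup V] [DistribMulAction Y V]

theorem EX_eq (B : Subgroup Y) : Alpha.EX V B = Ee V B := rfl

theorem FX_eq (B : Subgroup Y) : Alpha.FX V B = fx V B := rfl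

/-- The setting `HH = {}`. -/
structure Emp (V : Type u) [AddCommGroup V] [DistribMulAction Y V] (U : Set (Subgroup Y)) (T : Sylow 2 Y)
    (M : Subgroup Y) (q : ℕ) : Prop where
  amb : Amb V U T M
  ind : ∀ B ∈ U, (Ee V B).index = q
  line : ∀ B ∈ U, ∀ x ∈ Ee V B, x ∉ fx V B → ∃ A₁ : Subgroup Y, Line V B x A₁
  none : ∀ X : Subgroup Y, ¬ Bad U M X
  ex : ∃ B, B ∈ U

theorem World.emp {U : Set (Subgroup Y)} {T : Sylow 2 Y} {M : Subgroup Y} {a : ℕ} (w : World V U T M a)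
    (he : ∀ X : Subgroup Y, ¬ Bad U M X) (hU : ∃ B, B ∈ U) : Emp V U T M a :=
  ⟨w.toAmb, w.ind, w.line, he, hU⟩

/-- a Sylow 2-subgroup of `X` over `R` -/
theorem exists_max [Finite Y] {X R : Subgroup Y} (hR : IsPGroup 2 R)
    (hRX : R ≤ X) : ∃ S : Subgroup Y, R ≤ S ∧ S ≤ X ∧ IsPGroup 2 S ∧
      ∀ S' ≤ X, IsPGroup 2 S' → Nat.card S' ≤ Nat.card S := by
  have : Fact (Nat.Prime 2) := ⟨Nat.prime_two⟩
  obtain ⟨P, hP⟩ := (hR.comap_of_injective X.subtype X.subtype_injective).exists_le_sylow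
  refine ⟨(P : Subgroup X).map X.subtype, ?_, map_subtype_le _, P.2.map _, ?_⟩
  · intro r hr
    exact ⟨⟨r, hRX hr⟩, hP (by rw [mem_comap]; exact hr), rfl⟩
  · intro S' hS' hS'2
    obtain ⟨P', hP'⟩ := (hS'2.comap_of_injective X.subtype X.subtype_injective).exists_le_sylow
    have h1 : Nat.card (P' : Subgroup X) = Nat.card (P : Subgroup X) :=
      Nat.card_congr (Sylow.equiv P' P).toEquiv
    rw [Nat.card_congr (Subgroup.equivMapOfInjective (P : Subgroup X) X.subtype X.subtype_injective).toEquiv.symm,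
      ← h1]
    refine Nat.card_le_card_of_injective (fun s : S' => (⟨⟨s, hS' s.2⟩, hP' (by
      rw [mem_comap]; exact s.2)⟩ : P')) ?_
    intro s s' hss
    exact Subtype.ext (congrArg (fun z : (P' : Subgroup X) => ((z : X) : Y)) hss)

namespace Emp

variable {U : Set (Subgroup Y)} {T : Sylow 2 Y} {M : Subgroup Y} {q : ℕ} (h : Emp V U T M q)
include h

/-- `C_Y(v) ≠ Y` -/
theorem stab_ne {v : V} (hv : v ≠ 0) : MulAction.stabilizer Y v ≠ ⊤ := by
  intro h1
  have h2 : v ∈ fx V (⊤ : Subgroup Y) := fun y hy => by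
    rw [← h1] at hy; exact hy
  obtain ⟨B, hB⟩ := h.ex
  rw [h.amb.fx_top_of hB] at h2
  exact hv h2

theorem exists_z [Finite V] : ∃ z : V, z ≠ 0 ∧ z ∈ fx V (T : Subgroup Y) := by
  have hne : ∃ w ∈ (⊤ : AddSubgroup V), w ≠ 0 := by
    obtain ⟨B, hB⟩ := h.ex
    obtain ⟨v, hv⟩ := (h.amb.cls.mem B hB).ne
    exact ⟨v, AddSubgroup.mem_top v, fun h1 => hv (by rw [h1]; exact zero_mem _)⟩
  obtain ⟨w, _, hw0, hw⟩ := HE.exists_fixed h.amb.two (R := (T : Subgroup Y)) T.2 ⊤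
    (fun _ _ _ _ => AddSubgroup.mem_top _) hne
  exact ⟨w, hw0, hw⟩

theorem pt {X : Subgroup Y} (hX : X ≠ ⊤) {B : Subgroup Y} (hB : B ∈ U) (hBX : B ≤ X) :
    ∃ y : Y, X ≤ MulAut.conj y • M := by
  by_contra hcon
  push Not at hcon
  exact h.none X ⟨hX, ⟨B, hB, hBX⟩, hcon⟩

theorem one [Finite Y] {B : Subgroup Y} (hB : B ∈ U) {x y : Y} (hx : B ≤ MulAut.conj x • M)
    (hy : B ≤ MulAut.conj y • M) : MulAut.conj x • M = MulAut.conj y • M :=
  h.amb.one_of_max (n := 0) (fun X hX => absurd hX (h.none X)) _ B rfl (h.amb.cls.mem B hB).isPGroup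
    ⟨B, hB, le_rfl⟩ (Nat.zero_le _) x y hx hy

/-- a proper subgroup containing `B` lies in the point of `B` -/
theorem le_pt [Finite Y] {B : Subgroup Y} (hB : B ∈ U) {y : Y} (hy : B ≤ MulAut.conj y • M) {X : Subgroup Y}
    (hX : X ≠ ⊤) (hBX : B ≤ X) : X ≤ MulAut.conj y • M := by
  obtain ⟨x, hx⟩ := h.pt hX hB hBX
  rwa [h.one hB (hBX.trans hx) hy] at hx

theorem mem_top [Finite Y] {B : Subgroup Y} (hB : B ∈ U) : B ≠ ⊤ := by
  intro h1
  have h2 := (h.amb.cls.mem B hB).isPGroup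
  rw [h1] at h2
  have h3 := h.amb.core ⊤ inferInstance h2
  exact Mem.ne_bot (h.amb.cls.mem B hB) (h1.trans h3)

theorem exists_pt [Finite Y] {B : Subgroup Y} (hB : B ∈ U) : ∃ y : Y, B ≤ MulAut.conj y • M :=
  h.pt (h.mem_top hB) hB le_rfl

/-- `C_Y(v) ≤ M_B` for `0 ≠ v ∈ F_B` -/
theorem stab_le [Finite Y] {B : Subgroup Y} (hB : B ∈ U) {y : Y} (hy : B ≤ MulAut.conj y • M) {v : V}
    (hv : v ∈ fx V B) (hv0 : v ≠ 0) : MulAction.stabilizer Y v ≤ MulAut.conj y • M :=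
  h.le_pt hB hy (h.stab_ne hv0) fun b hb => hv b hb

theorem fx_ne [Finite Y] [Finite V] {B : Subgroup Y} (hB : B ∈ U) : ∃ v ∈ fx V B, v ≠ 0 := by
  obtain ⟨k, _, hk⟩ := sylow_conj T (K := ⊤) le_top (h.amb.cls.mem B hB).isPGroup le_top
  obtain ⟨z, hz0, hz⟩ := h.exists_z
  refine ⟨k • z, ?_, fun h1 => hz0 ((smul_eq_zero_iff_eq k).1 h1)⟩
  intro b hb
  have := hz _ (hk b hb)
  rw [mul_smul, mul_smul, inv_smul_eq_iff] at this
  exact this

theorem Ee_ne_top {B : Subgroup Y} (hB : B ∈ U) : Ee V B ≠ ⊤ := by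
  intro h1
  obtain ⟨v, hv⟩ := (h.amb.cls.mem B hB).ne
  exact hv (by rw [h1]; exact AddSubgroup.mem_top _)

/-- `N_Y(E_B) ≤ M_B` -/
theorem stb_le [Finite Y] [Finite V] {B : Subgroup Y} (hB : B ∈ U) {y : Y} (hy : B ≤ MulAut.conj y • M) :
    (stb (Ee V B) : Subgroup Y) ≤ MulAut.conj y • M := by
  apply h.le_pt hB hy
  · intro h1
    have h2 := h.amb.irr_of (W := Ee V B) (fun y w hw => by
      have h2 : y ∈ (stb (Ee V B) : Subgroup Y) := by rw [h1]; exact Subgroup.mem_top _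
      exact (h2 w).2 hw) hB le_rfl
    obtain ⟨v, hv, hv0⟩ := h.fx_ne hB
    have h3 := (h.amb.cls.mem B hB).FE hv
    rw [h2] at h3
    exact hv0 (AddSubgroup.mem_bot.1 h3)
  · exact nm_iff.1 (h.amb.cls.mem B hB).nm

theorem sup_top [Finite Y] {B C : Subgroup Y} (hB : B ∈ U) (hC : C ∈ U) {x y : Y} (hx : B ≤ MulAut.conj x • M)
    (hy : C ≤ MulAut.conj y • M) (hne : MulAut.conj x • M ≠ MulAut.conj y • M) : B ⊔ C = ⊤ := by
  by_contra h1
  have h2 := h.le_pt hB hx h1 le_sup_left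
  exact hne (h.one hC (le_sup_right.trans h2) hy)

theorem fx_disj [Finite Y] {B C : Subgroup Y} (hB : B ∈ U) (hC : C ∈ U) {x y : Y} (hx : B ≤ MulAut.conj x • M)
    (hy : C ≤ MulAut.conj y • M) (hne : MulAut.conj x • M ≠ MulAut.conj y • M) {v : V} (h1 : v ∈ fx V B)
    (h2 : v ∈ fx V C) : v = 0 := by
  by_contra h0
  have h3 : C ≤ MulAction.stabilizer Y v := fun c hc => h2 c hc
  exact hne (h.one hC (h3.trans (h.stab_le hB hx h1 h0)) hy)

/-- one-sided TRICK -/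
theorem tr [Finite Y] [Finite V] {B C : Subgroup Y} (hB : B ∈ U) (hC : C ∈ U) {x : V} (hx : x ∈ Ee V B)
    (hN : ∀ b ∈ B, b • x = x → ∀ v ∈ Ee V C, b • v ∈ Ee V C) {b : Y} (hb : b ∈ B) : b • x + x ∈ Ee V C := by
  by_cases hxF : x ∈ fx V B
  · rw [hxF b hb, h.amb.two]
    exact (Ee V C).zero_mem
  · obtain ⟨A₁, hA₁⟩ := h.line B hB x hx hxF
    refine hA₁.tr (Ee V C) (fun s hs v hv => hN s (hA₁.le hs) (hA₁.fix s hs) v hv) ?_ b hb
    have h1 := hA₁.card
    rw [h.ind B hB] at h1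
    have h2 : 0 < Nat.card A₁ := Nat.card_pos
    rw [h.ind C hC]
    omega

/-- the TRICK -/
theorem trick [Finite Y] [Finite V] {B C : Subgroup Y} (hB : B ∈ U) (hC : C ∈ U) (htop : B ⊔ C = ⊤)
    (h1 : ∀ x ∈ fx V C, x ∈ Ee V B → x ≠ 0 → ∀ b ∈ B, b • x = x → ∀ v ∈ Ee V C, b • v ∈ Ee V C)
    (h2 : ∀ x ∈ fx V B, x ∈ Ee V C → x ≠ 0 → ∀ c ∈ C, c • x = x → ∀ v ∈ Ee V B, c • v ∈ Ee V B) {x : V}
    (hx : x ∈ fx V C) (hxE : x ∈ Ee V B) : x = 0 := by
  set P := (fx V B ⊓ Ee V C) ⊔ (fx V C ⊓ Ee V B) with hP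
  have hmB := h.amb.cls.mem B hB
  have hmC := h.amb.cls.mem C hC
  have key : ∀ {B C : Subgroup Y}, B ∈ U → C ∈ U →
      (∀ x ∈ fx V C, x ∈ Ee V B → x ≠ 0 → ∀ b ∈ B, b • x = x → ∀ v ∈ Ee V C, b • v ∈ Ee V C) →
      Nm B ((fx V B ⊓ Ee V C) ⊔ (fx V C ⊓ Ee V B)) := by
    intro B C hB hC h1 b hb v hv
    obtain ⟨y, hy, x, hx, rfl⟩ := AddSubgroup.mem_sup.1 hv
    rw [smul_add, hy.1 b hb]
    refine AddSubgroup.add_mem _ (AddSubgroup.mem_sup_left hy) ?_
    have h3 : b • x + x ∈ fx V B ⊓ Ee V C := by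
      refine ⟨hx.2 b hb, ?_⟩
      by_cases hx0 : x = 0
      · rw [hx0, smul_zero, add_zero]; exact (Ee V C).zero_mem
      · exact h.tr hB hC hx.2 (h1 x hx.1 hx.2 hx0) hb
    have h4 := AddSubgroup.sub_mem _ (AddSubgroup.mem_sup_left (T := fx V C ⊓ Ee V B) h3)
      (AddSubgroup.mem_sup_right (S := fx V B ⊓ Ee V C) hx)
    rwa [add_sub_cancel_right] at h4
  have hNB : Nm B P := key hB hC h1
  have hNC : Nm C P := by
    rw [hP, sup_comm]
    exact key hC hB h2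
  have hN := hNB.sup hNC
  rw [htop] at hN
  have h3 := h.amb.irr_of (W := P) (fun y w hw => hN y (Subgroup.mem_top _) w hw) hB
    (sup_le (inf_le_left.trans hmB.FE) inf_le_right)
  have h4 : x ∈ P := AddSubgroup.mem_sup_right ⟨hx, hxE⟩
  rw [h3] at h4
  exact AddSubgroup.mem_bot.1 h4

/-- (SY) for the Sylow 2-subgroup `T` -/
theorem sy_conj (hSY : ∃ B ∈ U, B ≤ (T : Subgroup Y) ∧ Nm (T : Subgroup Y) (Ee V B)) (k : Y) :
    ∃ B ∈ U, B ≤ MulAut.conj k • (T : Subgroup Y) ∧ Nm (MulAut.conj k • (T : Subgroup Y)) (Ee V B) := by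
  obtain ⟨B, hB, hBT, hN⟩ := hSY
  refine ⟨_, h.amb.cls.conj B hB k, conj_le_conj k hBT, ?_⟩
  intro t ht v hv
  rw [mem_conj] at ht
  rw [Ee_conj, AddSubgroup.mem_pointwise_smul_iff_inv_smul_mem] at hv ⊢
  have h1 := hN _ ht _ hv
  rw [← mul_smul] at h1 ⊢
  have e : k⁻¹ * t * k * k⁻¹ = k⁻¹ * t := by group
  rwa [e] at h1

/-- **#20641 (1).** -/
theorem claim [Finite Y] [Finite V]
    (hSY : ∃ B ∈ U, B ≤ (T : Subgroup Y) ∧ Nm (T : Subgroup Y) (Ee V B)) {x y : Y}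
    (hne : MulAut.conj x • M ≠ MulAut.conj y • M) {R : Subgroup Y} (hR : IsPGroup 2 R)
    (hRx : R ≤ MulAut.conj x • M) (hRy : R ≤ MulAut.conj y • M)
    (hmax : ∀ S' ≤ MulAut.conj x • M ⊓ MulAut.conj y • M, IsPGroup 2 S' → Nat.card S' ≤ Nat.card R)
    {B : Subgroup Y} (hB : B ∈ U) (hBx : B ≤ MulAut.conj x • M) (hRB : Nm R (Ee V B)) {b : Y} (hb : b ∈ B)
    (hby : b ∈ MulAut.conj y • M) : b = 1 := by
  by_contra hb1
  -- move `B ∩ M₂` into `R`
  have hNx := h.stb_le hB hBx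
  have hD : B ⊓ MulAut.conj y • M ≤ stb (Ee V B) ⊓ MulAut.conj y • M :=
    inf_le_inf_right _ (nm_iff.1 (h.amb.cls.mem B hB).nm)
  obtain ⟨g, hg, hgR⟩ := conj_into (X := stb (Ee V B) ⊓ MulAut.conj y • M) (R := R)
    (le_inf (nm_iff.1 hRB) hRy) hR (fun R' hR' h1 => hmax R' (hR'.trans (inf_le_inf_right _ hNx)) h1) hD
    ((h.amb.cls.mem B hB).isPGroup.to_le inf_le_left)
  set B₁ := MulAut.conj g • B with hB₁
  have hB₁U : B₁ ∈ U := h.amb.cls.conj B hB g
  have hE₁ : Ee V B₁ = Ee V B := by rw [hB₁, Ee_conj, stb_eq hg.1]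
  have hB₁x : B₁ ≤ MulAut.conj x • M := (nm_iff.1 (by
    rw [← hE₁]; exact (h.amb.cls.mem _ hB₁U).nm) : B₁ ≤ stb (Ee V B)).trans hNx
  have hB₁R : B₁ ⊓ MulAut.conj y • M ≤ R := by
    intro r hr
    apply hgR
    rw [mem_conj]
    refine ⟨?_, (MulAut.conj y • M).mul_mem ((MulAut.conj y • M).mul_mem
      ((MulAut.conj y • M).inv_mem hg.2) hr.2) hg.2⟩
    have h1 : r ∈ MulAut.conj g • B := hr.1
    exact mem_conj.1 h1
  -- `T₂`
  obtain ⟨k, hRk, hky⟩ := h.amb.exists_sylow hR hRy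
  obtain ⟨C, hC, hCT, hNC⟩ := h.sy_conj hSY k
  have hCy : C ≤ MulAut.conj y • M := hCT.trans hky
  have hTx : MulAut.conj k • (T : Subgroup Y) ⊓ MulAut.conj x • M = R := by
    symm
    apply eq_of_le_of_card_ge (le_inf hRk hRx)
    exact hmax _ (le_inf inf_le_right (inf_le_left.trans hky))
      ((conj_isPGroup (y := k) T.2).to_le inf_le_left)
  have htop := h.sup_top hB₁U hC hB₁x hCy hne
  -- the TRICK
  have htr : ∀ v ∈ fx V C, v ∈ Ee V B₁ → v = 0 := by
    intro v hv hvE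
    refine h.trick hB₁U hC htop ?_ ?_ hv hvE
    · intro v hv _ hv0 c hc hcv
      exact hNC c (hRk (hB₁R ⟨hc, h.stab_le hC hCy hv hv0 hcv⟩))
    · intro v hv _ hv0 c hc hcv
      have h1 : c ∈ MulAut.conj x • M := h.stab_le hB₁U hB₁x hv hv0 hcv
      have h2 : c ∈ R := by rw [← hTx]; exact ⟨hCT hc, h1⟩
      rw [hE₁]
      exact hRB c h2
  obtain ⟨z, hz0, hz⟩ := h.exists_z
  have hz1 : ∀ t ∈ MulAut.conj k • (T : Subgroup Y), t • k • z = k • z := by
    intro t ht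
    rw [mem_conj] at ht
    have := hz _ ht
    rw [mul_smul, mul_smul, inv_smul_eq_iff] at this
    exact this
  refine hz0 ((smul_eq_zero_iff_eq k).1 (htr (k • z) (fun c hc => hz1 c (hCT hc)) ?_))
  -- `b₁ ∈ B₁ ∩ M₂`
  have hb₁ : g * b * g⁻¹ ∈ B₁ := conj_mem_conj hb
  have hb₁y : g * b * g⁻¹ ∈ MulAut.conj y • M := (MulAut.conj y • M).mul_mem ((MulAut.conj y • M).mul_mem
      hg.2 hby) ((MulAut.conj y • M).inv_mem hg.2)
  refine (h.amb.cls.mem _ hB₁U).mem_of_fix h.amb.two hb₁ ?_ (hz1 _ (hRk (hB₁R ⟨hb₁, hb₁y⟩)))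
  intro h1
  apply hb1
  have e : g⁻¹ * (g * b * g⁻¹) * g = b := by group
  rw [← e, h1]
  group

/-- **#20641 (2).** -/
theorem inf_eq [Finite Y] [Finite V]
    (hSY : ∃ B ∈ U, B ≤ (T : Subgroup Y) ∧ Nm (T : Subgroup Y) (Ee V B)) {x y : Y}
    (hne : MulAut.conj x • M ≠ MulAut.conj y • M) {B : Subgroup Y} (hB : B ∈ U)
    (hBx : B ≤ MulAut.conj x • M) {b : Y} (hb : b ∈ B) (hby : b ∈ MulAut.conj y • M) : b = 1 := by
  by_contra hb1
  have hm := h.amb.cls.mem B hB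
  obtain ⟨R, hR1, hR2, hR, hmax⟩ := exists_max (hm.isPGroup.to_le inf_le_left)
    (inf_le_inf_right (MulAut.conj y • M) hBx)
  obtain ⟨k, hRk, hky⟩ := h.amb.exists_sylow hR (hR2.trans inf_le_right)
  obtain ⟨C, hC, hCT, hNC⟩ := h.sy_conj hSY k
  have hCy : C ≤ MulAut.conj y • M := hCT.trans hky
  obtain ⟨z, hz0, hz⟩ := h.exists_z
  have hz1 : ∀ t ∈ MulAut.conj k • (T : Subgroup Y), t • k • z = k • z := by
    intro t ht
    rw [mem_conj] at ht
    have := hz _ ht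
    rw [mul_smul, mul_smul, inv_smul_eq_iff] at this
    exact this
  have hk0 : k • z ≠ 0 := fun h1 => hz0 ((smul_eq_zero_iff_eq k).1 h1)
  -- `z ∈ E_B`, `z ∉ F_B`
  have hzE : k • z ∈ Ee V B := hm.mem_of_fix h.amb.two hb hb1 (hz1 b (hRk (hR1 ⟨hb, hby⟩)))
  have hzC : k • z ∈ fx V C := fun c hc => hz1 c (hCT hc)
  have hzF : k • z ∉ fx V B := fun h1 => hk0 (h.fx_disj hB hC hBx hCy hne h1 hzC)
  -- `[z, B] ≤ E_C`
  have h1 : ∀ c ∈ B, c • k • z + k • z ∈ Ee V C := fun c hc => h.tr hB hC hzE (fun d hd hdz =>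
    hNC d (hRk (hR1 ⟨hd, h.stab_le hC hCy hzC hk0 hdz⟩))) hc
  obtain ⟨u, hu, huz⟩ : ∃ u ∈ B, u • k • z ≠ k • z := by
    by_contra hcon
    push Not at hcon
    exact hzF hcon
  set v := u • k • z + k • z with hv
  have hv0 : v ≠ 0 := by
    intro h2
    apply huz
    have h3 := h.amb.two (k • z)
    exact add_right_cancel (h2.trans h3.symm)
  have hvF : v ∈ fx V B := hzE u hu
  have hvE : v ∈ Ee V C := h1 u hu
  have hvC : v ∉ fx V C := fun h2 => hv0 (h.fx_disj hB hC hBx hCy hne hvF h2)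
  -- `1 ≠ s_v ∈ C ∩ M₁`
  have hmC := h.amb.cls.mem C hC
  obtain ⟨w, hw⟩ := hmC.ne
  obtain ⟨s, hs, hsv⟩ := hmC.surj w hw v hvE
  have hs1 : s ≠ 1 := by
    rintro rfl
    rw [one_smul, h.amb.two, zero_add] at hsv
    exact hvC hsv
  have hsfix : s • v = v := by
    have h2 : s • (s • w + w + v) = s • w + w + v := hsv s hs
    rw [smul_add, smul_add, ← mul_smul, hmC.sq s hs, one_smul, add_comm w (s • w)] at h2
    exact add_left_cancel h2
  refine hs1 (h.claim hSY hne.symm hR (hR2.trans inf_le_right) (hR2.trans inf_le_left) ?_ hC hCy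
    (hNC.mono hRk) hs (h.stab_le hB hBx hvF hv0 hsfix))
  intro S' hS'
  exact hmax S' (by rw [inf_comm]; exact hS')

/-- **#20641 (3)**: (+). -/
theorem plus [Finite Y] [Finite V]
    (hSY : ∃ B ∈ U, B ≤ (T : Subgroup Y) ∧ Nm (T : Subgroup Y) (Ee V B)) {y : Y} {B : Subgroup Y} (hB : B ∈ U)
    (hBy : B ≤ MulAut.conj y • M) {x : Y} {v : V} (hv : v ∈ Ee V B) (hv0 : v ≠ 0)
    (hT : ∀ t ∈ MulAut.conj x • (T : Subgroup Y), t • v = v) :
    MulAut.conj x • (T : Subgroup Y) ≤ MulAut.conj y • M := by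
  have hTx : MulAut.conj x • (T : Subgroup Y) ≤ MulAut.conj x • M := conj_le_conj x h.amb.TM
  have hstab : MulAction.stabilizer Y v ≤ MulAut.conj x • M := by
    have h1 : MulAut.conj x⁻¹ • MulAction.stabilizer Y v ≤ M := by
      apply h.amb.max
      · rw [← conj_le_iff]
        exact fun t ht => hT t ht
      · intro h1
        exact h.stab_ne hv0 (conj_eq_top h1)
    rw [conj_le_iff, inv_inv] at h1
    exact h1
  by_cases hvF : v ∈ fx V B
  · have h1 : MulAut.conj x • (T : Subgroup Y) ≤ MulAction.stabilizer Y v := fun t ht => hT t ht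
    exact h1.trans (h.stab_le hB hBy hvF hv0)
  · have hm := h.amb.cls.mem B hB
    obtain ⟨w, hw⟩ := hm.ne
    obtain ⟨s, hs, hsv⟩ := hm.surj w hw v hv
    have hs1 : s ≠ 1 := by
      rintro rfl
      rw [one_smul, h.amb.two, zero_add] at hsv
      exact hvF hsv
    have hsfix : s • v = v := by
      have h2 : s • (s • w + w + v) = s • w + w + v := hsv s hs
      rw [smul_add, smul_add, ← mul_smul, hm.sq s hs, one_smul, add_comm w (s • w)] at h2
      exact add_left_cancel h2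
    by_cases hne : MulAut.conj y • M = MulAut.conj x • M
    · rw [hne]; exact hTx
    · exact absurd (h.inf_eq hSY hne hB hBy hs (hstab hsfix)) hs1

/-- (SY) holds if `T` contains no pair of COR 3 -/
theorem sy_of_no_cor3 [Finite Y] [Finite V]
    (hno : ∀ B ∈ U, ∀ C ∈ U, B ≤ (T : Subgroup Y) → C ≤ (T : Subgroup Y) → ¬ Cor3 V B C) (hex : ∃ B, B ∈ U) :
    ∃ B ∈ U, B ≤ (T : Subgroup Y) ∧ Nm (T : Subgroup Y) (Ee V B) := by
  obtain ⟨B, hB⟩ := hex
  obtain ⟨k, _, hk⟩ := sylow_conj T (K := ⊤) le_top (h.amb.cls.mem B hB).isPGroup le_top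
  have h1 : MulAut.conj k⁻¹ • B ≤ (T : Subgroup Y) := by
    intro b hb
    rw [mem_conj, inv_inv] at hb
    have := hk _ hb
    have e : k⁻¹ * (k * b * k⁻¹) * k = b := by group
    rwa [e] at this
  exact ⟨_, h.amb.cls.conj B hB k⁻¹, h1, h.amb.cls.nm_of_no_cor3 T.2 hno (h.amb.cls.conj B hB k⁻¹) h1⟩

end Emp

end Cfsg.Agent.Omega.NO1.TH

end

section


/-!
# N1-ONE, `HH = {}`: a Sylow 2-subgroup normalises `E_A` (bb OMEGA 21281, helper301)

Module level, every `a ≥ 2`, no torus, no (TR).  Inputs: (H1) `|V / C_V(t)| ≥ |F|` for involutions `t`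
(a consequence of `HH = {}`), COR 2, COR 3, and

`SocN V U` : members `A`, `B` with `0 ≠ w ∈ F_A ∩ F_B`: some `S ≤ B` with `|S| ≥ |V : E_A|` normalises `A` and
centralises `V / E_A`.

`cen_le` : an involution `z` commuting with the member `A`, `z ∉ A`, has `|C_F(z)| ≤ |V : E|` and centralises
`[E, A]`.  `cent_of`, `cor3_false` : no pair of COR 3.  `Emp.sy_socN` : (SY).
-/

set_option autoImplicit false
set_option linter.unusedSectionVars false

namespace Cfsg.Agent.Omega.NO1.TH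

open Subgroup Cfsg.Agent.Omega.NO1.AB
open Cfsg.Agent.Omega.NO1.HE (dl dl_apply dl_one dl_eq_zero dl_comm dl_mul dl_self)
open scoped Pointwise

universe u

variable {Y : Type u} [Group Y] {V : Type u} [AddCommGroup V] [DistribMulAction Y V]

/-- **(SOC-N)** -/
def SocN (V : Type u) [AddCommGroup V] [DistribMulAction Y V] (U : Set (Subgroup Y)) : Prop :=
  ∀ A ∈ U, ∀ B ∈ U, ∀ w : V, w ≠ 0 → w ∈ fx V A → w ∈ fx V B → ∃ S : Subgroup Y, S ≤ B ∧
    (Ee V A).index ≤ Nat.card S ∧ S ≤ normalizer (A : Set Y) ∧ ∀ s ∈ S, ∀ v : V, s • v + v ∈ Ee V A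

/-- (H1) -/
def HOne (V : Type u) [AddCommGroup V] [DistribMulAction Y V] (U : Set (Subgroup Y)) : Prop :=
  ∀ t : Y, t ≠ 1 → t * t = 1 → ∀ B ∈ U, Nat.card ↥(fx V B) ≤ Nat.card ↥(dl t : V →+ V).range

theorem card_map_mul {W : Type*} [AddCommGroup W] [Finite V] (φ : V →+ W) (X : AddSubgroup V) :
    Nat.card ↥(X.map φ) * Nat.card ↥(X ⊓ φ.ker : AddSubgroup V) = Nat.card X := by
  have h1 := (φ.comp X.subtype).ker.index_mul_card
  rw [AddSubgroup.index_ker] at h1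
  have h2 : (φ.comp X.subtype).range = X.map φ := by
    rw [AddMonoidHom.range_comp, AddSubgroup.range_subtype]
  have h3 : Nat.card ↥(φ.comp X.subtype).ker = Nat.card ↥(X ⊓ φ.ker : AddSubgroup V) := by
    refine Nat.card_congr ⟨fun x => ⟨x.1.1, x.1.2, x.2⟩, fun x => ⟨⟨x.1, x.2.1⟩, x.2.2⟩, fun _ => rfl, fun _ => rfl⟩
  rw [h2, h3] at h1
  exact h1

/-- `|φ(V)| ≤ |V : E| |φ(E)|` -/
theorem card_range_le [Finite V] (φ : V →+ V) (E : AddSubgroup V) :
    Nat.card ↥φ.range ≤ E.index * Nat.card ↥(E.map φ) := by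
  have h1 := φ.ker.index_mul_card
  rw [AddSubgroup.index_ker] at h1
  have h2 := card_map_mul φ E
  have h3 := E.index_mul_card
  have h4 : Nat.card ↥(E ⊓ φ.ker : AddSubgroup V) ≤ Nat.card ↥φ.ker :=
    Nat.card_le_card_of_injective (fun x => (⟨x.1, x.2.2⟩ : φ.ker)) fun x y hxy =>
      Subtype.ext (congrArg (fun z : φ.ker => (z : V)) hxy)
  have h5 : 0 < Nat.card ↥φ.ker := Nat.card_pos
  refine Nat.le_of_mul_le_mul_right ?_ h5
  calc Nat.card ↥φ.range * Nat.card ↥φ.ker = E.index * Nat.card E := by rw [h1, h3]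
    _ = E.index * (Nat.card ↥(E.map φ) * Nat.card ↥(E ⊓ φ.ker : AddSubgroup V)) := by rw [h2]
    _ ≤ E.index * (Nat.card ↥(E.map φ) * Nat.card ↥φ.ker) :=
        Nat.mul_le_mul_left _ (Nat.mul_le_mul_left _ h4)
    _ = E.index * Nat.card ↥(E.map φ) * Nat.card ↥φ.ker := by ring

theorem smul_fx_of {A : Subgroup Y} {g : Y} (hg : g ∈ normalizer (A : Set Y)) {v : V} (hv : v ∈ fx V A) :
    g • v ∈ fx V A := by
  have h1 : v ∈ Alpha.FX V A := hv
  exact Alpha.smul_FX_of hg h1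

theorem smul_Ee_of {A : Subgroup Y} {g : Y} (hg : g ∈ normalizer (A : Set Y)) {v : V} (hv : v ∈ Ee V A) :
    g • v ∈ Ee V A := by
  have h1 : v ∈ Alpha.EX V A := hv
  exact Alpha.smul_EX_of hg h1

/-- **(i)** an involution commuting with the member `A`, not in `A` -/
theorem cen_le [Finite V] {U : Set (Subgroup Y)} (hc : Cls V U) (h1 : HOne V U) {A : Subgroup Y} (hA : A ∈ U)
    {z : Y} (hz2 : z * z = 1) (hzA : z ∉ A) (hcom : ∀ b ∈ A, b * z = z * b) :
    Nat.card ↥(fx V A ⊓ (dl z : V →+ V).ker : AddSubgroup V) ≤ (Ee V A).index ∧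
      ∀ b ∈ A, ∀ e ∈ Ee V A, z • (b • e + e) = b • e + e := by
  have hm := hc.mem A hA
  have hzN : z ∈ normalizer (A : Set Y) := by
    rw [mem_normalizer_iff]
    intro y
    constructor
    · intro hy
      rw [← hcom y hy]
      simpa using hy
    · intro hy
      have h3 := hcom _ hy
      have e : y = z * y * z⁻¹ := by
        have e1 : z * y * z⁻¹ * z = z * (z * y * z⁻¹) := h3
        have e2 : z * y = z * (z * y * z⁻¹) := by simpa [mul_assoc] using e1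
        exact mul_left_cancel e2
      rw [e]; exact hy
  -- `v₀`
  obtain ⟨v₀, hv₀, hzv⟩ : ∃ v₀ : V, v₀ ∉ Ee V A ∧ dl z v₀ ∈ Ee V A := by
    obtain ⟨v, hv⟩ := hm.ne
    by_cases h3 : dl z v ∈ Ee V A
    · exact ⟨v, hv, h3⟩
    · exact ⟨dl z v, h3, by rw [dl_self hc.two hz2]; exact zero_mem _⟩
  obtain ⟨u, hu, huv⟩ := hm.surj v₀ hv₀ _ hzv
  set d := u * z with hd
  have hdcom : ∀ b ∈ A, b * d = d * b := by
    intro b hb
    rw [hd, ← mul_assoc, hm.comm b hb u hu, mul_assoc, hcom b hb, mul_assoc]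
  have hdd : d * d = 1 := by
    rw [hd]
    calc u * z * (u * z) = u * (z * u) * z := by group
      _ = u * (u * z) * z := by rw [hcom u hu]
      _ = (u * u) * (z * z) := by group
      _ = 1 := by rw [hm.sq u hu, hz2, one_mul]
  have hd1 : d ≠ 1 := by
    intro h3
    apply hzA
    have : z = u⁻¹ := by rw [eq_inv_iff_mul_eq_one, ← hcom u hu]; exact h3
    rw [this]; exact A.inv_mem hu
  have hdv : dl d v₀ ∈ fx V A := by
    rw [hd, dl_mul hc.two]
    refine AddSubgroup.add_mem _ ?_ (hm.EB u hu _ hzv)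
    exact huv
  have hdu : ∀ b ∈ A, dl d (dl b v₀) = 0 := by
    intro b hb
    rw [dl_comm (hdcom b hb).symm]
    exact (dl_eq_zero hc.two).2 (hdv b hb)
  have hrep : ∀ e ∈ Ee V A, ∃ b ∈ A, dl b v₀ + e ∈ fx V A := fun e he => hm.surj v₀ hv₀ e he
  -- `d` and `z` agree on `F`
  have hdz : ∀ x ∈ fx V A, d • x = z • x := by
    intro x hx
    rw [hd, hcom u hu, mul_smul, hx u hu]
  have hmap : (Ee V A).map (dl d : V →+ V) = (fx V A).map (dl d : V →+ V) := by
    apply le_antisymm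
    · rintro _ ⟨e, he, rfl⟩
      obtain ⟨b, hb, hbe⟩ := hrep e he
      refine ⟨_, hbe, ?_⟩
      rw [map_add, hdu b hb, zero_add]
    · exact AddSubgroup.map_mono hm.FE
  refine ⟨?_, ?_⟩
  · have h3 := h1 d hd1 hdd A hA
    have h4 := card_range_le (dl d : V →+ V) (Ee V A)
    rw [hmap] at h4
    have h5 := card_map_mul (dl d : V →+ V) (fx V A)
    have h6 : (fx V A ⊓ (dl z : V →+ V).ker : AddSubgroup V) = fx V A ⊓ (dl d : V →+ V).ker := by
      ext x
      constructor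
      · rintro ⟨hx, hx2⟩
        refine ⟨hx, ?_⟩
        have h7 : dl z x = 0 := hx2
        rw [dl_apply, ← hdz x hx] at h7
        exact h7
      · rintro ⟨hx, hx2⟩
        refine ⟨hx, ?_⟩
        have h7 : dl d x = 0 := hx2
        rw [dl_apply, hdz x hx] at h7
        exact h7
    rw [h6]
    set k := Nat.card ↥(fx V A ⊓ (dl d : V →+ V).ker : AddSubgroup V)
    set m := Nat.card ↥((fx V A).map (dl d : V →+ V))
    have h8 : 0 < m := Nat.card_pos
    have h9 : m * k ≤ (Ee V A).index * m := by rw [h5]; exact h3.trans h4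
    rw [mul_comm m k] at h9
    exact Nat.le_of_mul_le_mul_right h9 h8
  · intro b hb e he
    have hbe : b • e + e ∈ fx V A := hm.EB b hb e he
    rw [← hdz _ hbe]
    obtain ⟨c, hc', hce⟩ := hrep e he
    have h3 : dl b e = dl b (dl c v₀) := by
      have h4 : dl b (dl c v₀ + e) = 0 := (dl_eq_zero hc.two).2 (hce b hb)
      rw [map_add] at h4
      exact ((HE.add_eq_zero' hc.two).1 h4).symm
    apply (dl_eq_zero hc.two).1
    change dl d (dl b e) = 0
    rw [h3, dl_comm (hdcom b hb).symm, hdu c hc', map_zero]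

/-- **(iii)** -/
theorem cent_of [Finite V] {U : Set (Subgroup Y)} (hc : Cls V U) {A : Subgroup Y} (hA : A ∈ U) {b : Y}
    (hbn : b ∈ normalizer (A : Set Y)) (hbV : ∀ v : V, dl b v ∈ Ee V A) (C : AddSubgroup V)
    (hC : Nat.card C ≤ (Ee V A).index) {w : V} (hw0 : w ≠ 0) (hwC : w ∈ C) (hwF : w ∈ fx V A)
    (hbE : ∀ e ∈ Ee V A, ∃ c ∈ C, dl b e + c ∈ fx V A) : ∀ e ∈ Ee V A, dl b e ∈ fx V A := by
  have hm := hc.mem A hA
  intro e₀ he₀
  by_contra hcon
  obtain ⟨v₀, hv₀⟩ := hm.ne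
  obtain ⟨s, hs, hsv⟩ := hm.surj v₀ hv₀ e₀ he₀
  have hsv' : dl s v₀ + e₀ ∈ fx V A := hsv
  set s' := b * s * b⁻¹ with hs'
  have hs'A : s' ∈ A := (mem_normalizer_iff.1 hbn s).1 hs
  set t := s' * s with ht
  have htA : t ∈ A := A.mul_mem hs'A hs
  -- `[v,t] = [v,s,b]` mod `F`
  have key : ∀ v : V, dl b (dl s v) + dl t v ∈ fx V A := by
    intro v
    have e1 : b • dl s v = dl s' v + dl s' (dl b v) := by
      rw [← map_add]
      have e2 : v + dl b v = b • v := (HE.smul_eq hc.two b v).symm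
      rw [e2, dl_apply, dl_apply, smul_add, hs', ← mul_smul, ← mul_smul]
      simp
    have e3 : dl b (dl s v) = dl s' v + dl s' (dl b v) + dl s v := by
      rw [dl_apply b, e1]
    have e4 : dl t v = dl s' v + dl s v + dl s' (dl s v) := by rw [ht, dl_mul hc.two]
    rw [e3, e4]
    have e5 : dl s' v + dl s' (dl b v) + dl s v + (dl s' v + dl s v + dl s' (dl s v)) =
        (dl s' v + dl s' v) + (dl s v + dl s v) + (dl s' (dl b v) + dl s' (dl s v)) := by abel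
    rw [e5, hc.two, hc.two, zero_add, zero_add]
    exact AddSubgroup.add_mem _ (hm.EB s' hs'A _ (hbV v)) (hm.EB s' hs'A _ (hm.VB s hs v))
  have ht1 : t ≠ 1 := by
    intro h1
    apply hcon
    have h2 := key v₀
    rw [h1, dl_one hc.two, add_zero] at h2
    have h3 : dl b (dl s v₀ + e₀) ∈ fx V A := by
      rw [dl_apply]
      exact AddSubgroup.add_mem _ (smul_fx_of hbn hsv') hsv'
    rw [map_add] at h3
    have h4 := AddSubgroup.sub_mem _ h3 h2
    rwa [add_sub_cancel_left] at h4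
  let ψ : V →+ V ⧸ fx V A := (QuotientAddGroup.mk' (fx V A)).comp (dl t : V →+ V)
  have hker : ψ.ker = Ee V A := by
    ext v
    have h1 : v ∈ ψ.ker ↔ dl t v ∈ fx V A := by
      rw [AddMonoidHom.mem_ker]
      exact QuotientAddGroup.eq_zero_iff _
    rw [h1]
    constructor
    · intro h2
      by_contra h3
      exact ht1 (hm.inj v h3 t htA h2)
    · intro h2
      exact hm.EB t htA v h2
  have hrange : ψ.range ≤ C.map (QuotientAddGroup.mk' (fx V A)) := by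
    rintro _ ⟨v, rfl⟩
    obtain ⟨c, hcC, hcv⟩ := hbE (dl s v) (hm.VB s hs v)
    refine ⟨c, hcC, ?_⟩
    change (QuotientAddGroup.mk' (fx V A)) c = (QuotientAddGroup.mk' (fx V A)) (dl t v)
    rw [QuotientAddGroup.mk'_eq_mk']
    refine ⟨c + dl t v, ?_, ?_⟩
    · have h1 := AddSubgroup.add_mem _ (key v) hcv
      have e5 : dl b (dl s v) + dl t v + (dl b (dl s v) + c) =
          (dl b (dl s v) + dl b (dl s v)) + (c + dl t v) := by abel
      rwa [e5, hc.two, zero_add] at h1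
    · rw [← add_assoc, hc.two, zero_add]
  have h1 : Nat.card ↥ψ.range = (Ee V A).index := by rw [← hker, AddSubgroup.index_ker]
  have h2 : Nat.card ↥ψ.range ≤ Nat.card ↥(C.map (QuotientAddGroup.mk' (fx V A))) :=
    Nat.card_le_card_of_injective _ (AddSubgroup.inclusion_injective hrange)
  have h3 := card_map_mul (QuotientAddGroup.mk' (fx V A)) C
  have h4 : 2 ≤ Nat.card ↥(C ⊓ (QuotientAddGroup.mk' (fx V A)).ker : AddSubgroup V) := by
    have h5 : w ∈ (C ⊓ (QuotientAddGroup.mk' (fx V A)).ker : AddSubgroup V) := by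
      refine ⟨hwC, ?_⟩
      rw [QuotientAddGroup.ker_mk']
      exact hwF
    have : Nontrivial ↥(C ⊓ (QuotientAddGroup.mk' (fx V A)).ker : AddSubgroup V) :=
      ⟨⟨⟨w, h5⟩, 0, fun h6 => hw0 (congrArg Subtype.val h6)⟩⟩
    exact Finite.one_lt_card
  have h5 : 0 < (Ee V A).index := Nat.pos_of_ne_zero AddSubgroup.index_ne_zero_of_finite
  rw [h1] at h2
  have h6 : (Ee V A).index * 2 ≤ Nat.card C := by
    rw [← h3]
    exact Nat.mul_le_mul h2 h4
  omega

/-- `E_B = (E_A ∩ E_B) + F_B` if `B` normalises `E_A ≰ E_B` -/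
theorem exists_add [Finite V] {U : Set (Subgroup Y)} (hc : Cls V U) {A B : Subgroup Y} (hB : B ∈ U)
    (hn : Nm B (Ee V A)) (hE : ¬ Ee V A ≤ Ee V B) {e : V} (he : e ∈ Ee V B) :
    ∃ x ∈ Ee V A, x ∈ Ee V B ∧ x + e ∈ fx V B := by
  obtain ⟨w, hwA, hwB⟩ := SetLike.not_le_iff_exists.1 hE
  have hm := hc.mem B hB
  obtain ⟨b, hb, hbe⟩ := hm.surj w hwB e he
  exact ⟨b • w + w, (Ee V A).add_mem (hn b hb w hwA) hwA, hm.VB b hb w, hbe⟩

/-- **There is no pair of COR 3** in the 2-group `T` if `z` is an involution of `Z(T)` in no member `≤ T`. -/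
theorem cor3_false [Finite V] {U : Set (Subgroup Y)} (hc : Cls V U) (h1 : HOne V U) (hS : SocN V U)
    {T : Subgroup Y} {z : Y} (hz2 : z * z = 1) (hzT : ∀ t ∈ T, t * z = z * t)
    (hzU : ∀ A ∈ U, A ≤ T → z ∉ A) {w : V} (hw0 : w ≠ 0) (hw : ∀ t ∈ T, t • w = w) (hzw : z • w = w)
    {A B : Subgroup Y} (hA : A ∈ U) (hB : B ∈ U) (hAT : A ≤ T) (hBT : B ≤ T) (h : Cor3 V A B) : False := by
  have hmA := hc.mem A hA
  have hmB := hc.mem B hB
  have hwA : w ∈ fx V A := fun a ha => hw a (hAT ha)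
  have hwB : w ∈ fx V B := fun b hb => hw b (hBT hb)
  have hEi : (Ee V A).index = (Ee V B).index := by
    have e1 := (Ee V A).index_mul_card
    have e2 := (Ee V B).index_mul_card
    rw [hc.card_Ee hA hB, ← e2] at e1
    exact Nat.eq_of_mul_eq_mul_right Nat.card_pos e1
  obtain ⟨S, hSB, hScard, hSn, hSV⟩ := hS A hA B hB w hw0 hwA hwB
  obtain ⟨hCcard, hCG⟩ := cen_le hc h1 hB hz2 (hzU B hB hBT) (fun b hb => hzT b (hBT hb))
  have hEAB : ¬ Ee V A ≤ Ee V B := fun h2 => h.notB (hmA.FE.trans h2)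
  have hEBA : ¬ Ee V B ≤ Ee V A := fun h2 => h.notC (hmB.FE.trans h2)
  -- `S` centralises `E_A / F_A`
  have hcent : ∀ s ∈ S, ∀ e ∈ Ee V A, dl s e ∈ fx V A := by
    intro s hs
    refine cent_of hc hA (hSn hs) (hSV s hs) (fx V B ⊓ (dl z : V →+ V).ker) (hCcard.trans_eq hEi.symm) hw0
      ⟨hwB, (dl_eq_zero hc.two).2 hzw⟩ hwA ?_
    intro e he
    obtain ⟨x, hxB, hxA, hxe⟩ := exists_add hc hA h.nB hEBA he
    refine ⟨dl s x, ⟨hmB.EB s (hSB hs) x hxB, ?_⟩, ?_⟩
    · exact (dl_eq_zero hc.two).2 (hCG s (hSB hs) x hxB)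
    · rw [← map_add, add_comm e x]
      rw [dl_apply]
      exact AddSubgroup.add_mem _ (smul_fx_of (hSn hs) hxe) hxe
  -- `|F| ≤ a |D|`
  have ha2 : 2 ≤ (Ee V A).index := by
    have h2 : (Ee V A).index ≠ 1 := fun h3 => by
      obtain ⟨v, hv⟩ := hmA.ne
      apply hv
      rw [AddSubgroup.index_eq_one.1 h3]; exact AddSubgroup.mem_top v
    have h3 : (Ee V A).index ≠ 0 := AddSubgroup.index_ne_zero_of_finite
    omega
  obtain ⟨b, hbS, hb1⟩ : ∃ b ∈ S, b ≠ 1 := by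
    by_contra hcon
    push Not at hcon
    have : S = ⊥ := by
      rw [eq_bot_iff]
      intro x hx
      rw [mem_bot]; exact hcon x hx
    rw [this, Subgroup.card_bot] at hScard
    omega
  set D : AddSubgroup V := fx V A ⊓ fx V B with hD
  have hFD : Nat.card ↥(fx V A) ≤ (Ee V A).index * Nat.card D := by
    have h2 := h1 b hb1 (hmB.sq b (hSB hbS)) A hA
    have h3 := card_range_le (dl b : V →+ V) (Ee V B)
    rw [← hEi] at h3
    refine h2.trans (h3.trans (Nat.mul_le_mul_left _ ?_))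
    have h4 : (Ee V B).map (dl b : V →+ V) ≤ D := by
      rintro _ ⟨e, he, rfl⟩
      obtain ⟨x, hxA, hxB, hxe⟩ := exists_add hc hB h.nC hEAB he
      have h5 : dl b e = dl b x := by
        have h6 : dl b (x + e) = 0 := (dl_eq_zero hc.two).2 (hxe b (hSB hbS))
        rw [map_add] at h6
        exact ((HE.add_eq_zero' hc.two).1 h6).symm
      rw [h5]
      exact ⟨hcent b hbS x hxA, hmB.EB b (hSB hbS) x hxB⟩
    exact Nat.card_le_card_of_injective _ (AddSubgroup.inclusion_injective h4)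
  -- `|Φ| ≥ |S| |D|`
  obtain ⟨x, hxA, hxB⟩ := SetLike.not_le_iff_exists.1 h.notB
  set P : AddSubgroup V := fx V A ⊓ Ee V B with hP
  have hPS : Nat.card S * Nat.card D ≤ Nat.card P := by
    rw [← Nat.card_prod]
    have hDP : D ≤ P := inf_le_inf_left _ hmB.FE
    refine Nat.card_le_card_of_injective (fun p : S × D => (⟨dl (p.1 : Y) x + (p.2 : V),
      P.add_mem ⟨?_, hmB.VB _ (hSB p.1.2) x⟩ (hDP p.2.2)⟩ : P)) ?_
    · rw [dl_apply]
      exact AddSubgroup.add_mem _ (smul_fx_of (hSn p.1.2) hxA) hxA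
    · rintro ⟨⟨s, hs⟩, ⟨d, hd⟩⟩ ⟨⟨s', hs'⟩, ⟨d', hd'⟩⟩ hss
      have h2 : dl s x + d = dl s' x + d' := congrArg (fun z : P => (z : V)) hss
      have h3 : dl s x + dl s' x ∈ fx V B := by
        have e1 : dl s x + dl s' x = d + d' := by
          have e2 : dl s x + dl s' x = (dl s x + d) + (dl s' x + d) := by
            have e3 : (dl s x + d) + (dl s' x + d) = (dl s x + dl s' x) + (d + d) := by abel
            rw [e3, hc.two, add_zero]
          rw [e2, h2]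
          have e3 : (dl s' x + d') + (dl s' x + d) = (dl s' x + dl s' x) + (d + d') := by abel
          rw [e3, hc.two, zero_add]
        rw [e1]
        exact AddSubgroup.add_mem _ hd.2 hd'.2
      have h4 : dl (s * s') x ∈ fx V B := by
        rw [dl_mul hc.two]
        exact AddSubgroup.add_mem _ h3 (hmB.EB s (hSB hs) _ (hmB.VB s' (hSB hs') x))
      have h5 := hmB.inj x hxB _ (B.mul_mem (hSB hs) (hSB hs')) h4
      have h6 : s = s' := by
        have h7 : s * s' * s' = s' := by rw [h5, one_mul]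
        rwa [mul_assoc, hmB.sq s' (hSB hs'), mul_one] at h7
      subst h6
      have h8 : d = d' := add_left_cancel h2
      subst h8
      rfl
  have hF2 : 2 * Nat.card P ≤ Nat.card ↥(fx V A) := by
    have h2 : Nat.card P ∣ Nat.card ↥(fx V A) := AddSubgroup.card_dvd_of_le inf_le_left
    obtain ⟨k, hk⟩ := h2
    have hk0 : k ≠ 0 := by
      rintro rfl
      rw [mul_zero] at hk
      exact Nat.card_pos.ne' hk
    have hk1 : k ≠ 1 := by
      rintro rfl
      rw [mul_one] at hk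
      have h3 : P = fx V A := AB.eq_of_le_as inf_le_left hk.le
      apply hxB
      have h4 : x ∈ P := by rw [h3]; exact hxA
      exact h4.2
    rw [hk, mul_comm]
    exact Nat.mul_le_mul_left _ (by omega)
  have hpos : 0 < Nat.card ↥(fx V A) := Nat.card_pos
  have h7 : Nat.card ↥(fx V A) ≤ Nat.card P :=
    hFD.trans ((Nat.mul_le_mul_right _ hScard).trans hPS)
  omega

/-- the 2-part of the intersection of all points is trivial -/
theorem Amb.exists_not_mem_inv [Finite Y] {U : Set (Subgroup Y)} {T : Sylow 2 Y} {M : Subgroup Y} (h : Amb V U T M)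
    {t : Y} (ht1 : t ≠ 1) (ht2 : t * t = 1) : ∃ y : Y, t ∉ MulAut.conj y • M := by
  by_contra hcon
  push Not at hcon
  set N := M.normalCore with hN
  have hNn : N.Normal := M.normalCore_normal
  have htN : t ∈ N := by
    intro g
    have := hcon g⁻¹
    rw [mem_conj] at this
    simpa using this
  have h2 := frattini_inf T N
  have h3 : normalizer (((T : Subgroup Y) ⊓ N : Subgroup Y) : Set Y) = ⊤ := by
    by_contra h4
    have hle : (T : Subgroup Y) ≤ normalizer (((T : Subgroup Y) ⊓ N : Subgroup Y) : Set Y) := by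
      intro r hr
      rw [mem_normalizer_iff]
      intro y
      constructor
      · rintro ⟨hy1, hy2⟩
        exact ⟨(T : Subgroup Y).mul_mem ((T : Subgroup Y).mul_mem hr hy1) ((T : Subgroup Y).inv_mem hr),
          hNn.conj_mem y hy2 r⟩
      · rintro ⟨hy1, hy2⟩
        refine ⟨?_, ?_⟩
        · have := (T : Subgroup Y).mul_mem ((T : Subgroup Y).mul_mem ((T : Subgroup Y).inv_mem hr) hy1) hr
          have e : r⁻¹ * (r * y * r⁻¹) * r = y := by group
          rwa [e] at this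
        · have := hNn.conj_mem _ hy2 r⁻¹
          have e : r⁻¹ * (r * y * r⁻¹) * r⁻¹⁻¹ = y := by group
          rwa [e] at this
    have h5 := h.max _ hle h4
    apply h.Mne
    rw [eq_top_iff, ← h2]
    exact sup_le h5 (M.normalCore_le)
  have h4 : ((T : Subgroup Y) ⊓ N).Normal := normalizer_eq_top_iff.1 h3
  have h5 := h.core _ h4 (T.2.to_le inf_le_left)
  obtain ⟨k, _, hk⟩ := sylow_conj T (K := ⊤) le_top (isPGroup_zpowers_of_sq ht2) le_top
  have h6 : k⁻¹ * t * k ∈ (T : Subgroup Y) ⊓ N := by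
    refine ⟨hk t (mem_zpowers t), ?_⟩
    have := hNn.conj_mem t htN k⁻¹
    rwa [inv_inv] at this
  rw [h5, mem_bot] at h6
  apply ht1
  have e : t = k * (k⁻¹ * t * k) * k⁻¹ := by group
  rw [e, h6]
  group

/-- an involution of the centre of a nontrivial 2-group -/
theorem exists_central [Finite Y] {T : Subgroup Y} (hT : IsPGroup 2 T) (hne : T ≠ ⊥) :
    ∃ z ∈ T, z ≠ 1 ∧ z * z = 1 ∧ ∀ t ∈ T, t * z = z * t := by
  have : Fact (Nat.Prime 2) := ⟨Nat.prime_two⟩
  have : Nontrivial T := (Subgroup.nontrivial_iff_ne_bot T).2 hne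
  have h1 : Nontrivial (Subgroup.center T) := hT.center_nontrivial
  have h2 : 2 ∣ Nat.card (Subgroup.center T) := by
    obtain ⟨n, hn⟩ := IsPGroup.iff_card.1 (hT.to_subgroup (Subgroup.center T))
    have h3 : 1 < Nat.card (Subgroup.center T) := Finite.one_lt_card
    rw [hn] at h3 ⊢
    rcases n with _ | n
    · simp at h3
    · exact dvd_pow_self 2 (by omega)
  obtain ⟨z, hz⟩ := exists_prime_orderOf_dvd_card' 2 h2
  have hz1 : z ≠ 1 := by
    rintro rfl
    rw [orderOf_one] at hz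
    omega
  have hz2 : z * z = 1 := by
    have := pow_orderOf_eq_one z
    rwa [hz, pow_two] at this
  refine ⟨z.1.1, z.1.2, ?_, ?_, ?_⟩
  · intro h3
    exact hz1 (Subtype.ext (Subtype.ext h3))
  · have := congrArg (fun x : Subgroup.center T => ((x : T) : Y)) hz2
    exact this
  · intro t ht
    have := (Subgroup.mem_center_iff.1 z.2) ⟨t, ht⟩
    exact congrArg Subtype.val this

namespace Emp

variable {U : Set (Subgroup Y)} {T : Sylow 2 Y} {M : Subgroup Y} {q : ℕ} (h : Emp V U T M q)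
include h

/-- a member in `T` -/
theorem exists_le [Finite Y] : ∃ B ∈ U, B ≤ (T : Subgroup Y) := by
  obtain ⟨B, hB⟩ := h.ex
  obtain ⟨k, _, hk⟩ := sylow_conj T (K := ⊤) le_top (h.amb.cls.mem B hB).isPGroup le_top
  refine ⟨_, h.amb.cls.conj B hB k⁻¹, ?_⟩
  intro b hb
  rw [mem_conj, inv_inv] at hb
  have := hk _ hb
  have e : k⁻¹ * (k * b * k⁻¹) * k = b := by group
  rwa [e] at this

/-- **(H1)** (#20790 (1), helper620) -/
theorem hOne [Finite Y] [Finite V] : HOne V U := by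
  intro t ht1 ht2 B hB
  obtain ⟨y, hy⟩ := h.amb.exists_not_mem_inv ht1 ht2
  obtain ⟨C₀, hC₀, hC₀T⟩ := h.exists_le
  set C := MulAut.conj y • C₀ with hC
  have hCU : C ∈ U := h.amb.cls.conj C₀ hC₀ y
  have hCM : C ≤ MulAut.conj y • M := conj_le_conj y (hC₀T.trans h.amb.TM)
  rw [h.amb.cls.card_fx hB hCU]
  have htop : C ⊔ zpowers t = ⊤ := by
    by_contra h1
    apply hy
    exact h.le_pt hCU hCM h1 le_sup_left (mem_sup_right (mem_zpowers t))
  have hdis : ∀ v ∈ fx V C, v ∈ (dl t : V →+ V).ker → v = 0 := by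
    intro v hv1 hv2
    by_contra hv0
    apply h.stab_ne hv0
    rw [eq_top_iff, ← htop]
    refine sup_le (fun c hc => hv1 c hc) (zpowers_le.2 ?_)
    exact (dl_eq_zero h.amb.two).1 hv2
  have h1 := (dl t : V →+ V).ker.index_mul_card
  rw [AddSubgroup.index_ker] at h1
  have h2 := card_map_mul (dl t : V →+ V) (fx V C)
  have h3 : Nat.card ↥(fx V C ⊓ (dl t : V →+ V).ker : AddSubgroup V) = 1 := by
    have : (fx V C ⊓ (dl t : V →+ V).ker : AddSubgroup V) = ⊥ := by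
      rw [eq_bot_iff]
      rintro v ⟨hv1, hv2⟩
      rw [AddSubgroup.mem_bot]
      exact hdis v hv1 hv2
    rw [this, AddSubgroup.card_bot]
  rw [h3, mul_one] at h2
  rw [← h2]
  exact Nat.card_le_card_of_injective _ (AddSubgroup.inclusion_injective (by
    rintro _ ⟨v, _, rfl⟩
    exact ⟨v, rfl⟩))

/-- **(SY)**: `T` normalises `E_B` for some member `B ≤ T` (#21281). -/
theorem sy_socN [Finite Y] [Finite V] (hS : SocN V U) :
    ∃ B ∈ U, B ≤ (T : Subgroup Y) ∧ Nm (T : Subgroup Y) (Ee V B) := by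
  by_contra hcon
  push Not at hcon
  have hTne : (T : Subgroup Y) ≠ ⊥ := by
    obtain ⟨B, hB, hBT⟩ := h.exists_le
    intro h1
    rw [h1, le_bot_iff] at hBT
    exact Mem.ne_bot (h.amb.cls.mem B hB) hBT
  obtain ⟨z, hzT, hz1, hz2, hzc⟩ := exists_central T.2 hTne
  obtain ⟨w, hw0, hw⟩ := h.exists_z
  have hzU : ∀ A ∈ U, A ≤ (T : Subgroup Y) → z ∉ A := fun A hA hAT hzA =>
    hcon A hA hAT (h.amb.cls.cor2 hA T.2 hAT hzA hz1 hzc)
  obtain ⟨B, hB, hBT, hN⟩ := h.sy_of_no_cor3 (fun A hA B hB hAT hBT h1 =>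
    cor3_false h.amb.cls h.hOne hS hz2 hzc hzU hw0 hw (hw z hzT) hA hB hAT hBT h1) h.ex
  exact hcon B hB hBT hN

/-- **(+)** -/
theorem plus_socN [Finite Y] [Finite V] (hS : SocN V U) {y : Y} {B : Subgroup Y} (hB : B ∈ U)
    (hBy : B ≤ MulAut.conj y • M) {x : Y} {v : V} (hv : v ∈ Ee V B) (hv0 : v ≠ 0)
    (hT : ∀ t ∈ MulAut.conj x • (T : Subgroup Y), t • v = v) :
    MulAut.conj x • (T : Subgroup Y) ≤ MulAut.conj y • M :=
  h.plus (h.sy_socN hS) hB hBy hv hv0 hT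

end Emp

end Cfsg.Agent.Omega.NO1.TH

end
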