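import Cfsg.Agent.Mrg.Omega.NO1.AB.Beta
import Cfsg.Agent.Mrg.Omega.FFBr.Final
import Cfsg.Agent.Mrg.Omega.NatPair.Quad

section


/-!
# N1, BETA: the amalgam, the FF theorem for `H` on `W` (bb OMEGA 19584 (2), helper874)

`XH V H R` : the group induced by `H` on `W = WW V H R`; `pr : H →* XH V H R`.
`Amal.abs` : `FFBr.Abs` for `XH V H R` acting on `Multiplicative W`.
`Amal.ff` : for a member `B ≤ R`, `B ≰ Q`, `W ≤ E_B`, no over-offenders and the conclusion of the FF theorem.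
-/

set_option autoImplicit false
set_option linter.unusedSectionVars false

namespace Cfsg.Agent.Omega.NO1.TH

open Subgroup Cfsg.Agent.Omega.NO1.AB Cfsg.Agent.Omega.FFBr
open scoped Pointwise

universe u

variable {Y : Type u} [Group Y] {V : Type u} [AddCommGroup V] [DistribMulAction Y V]

section act

variable (V : Type u) [AddCommGroup V] [DistribMulAction Y V] (H R : Subgroup Y)

/-- `W` multiplicatively -/
abbrev Wm : Type u := Multiplicative (WW V H R)

/-- the action of `H` on `W` -/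
def actH : H →* MulAut (Wm V H R) where
  toFun x :=
    { toFun := fun m => Multiplicative.ofAdd (⟨(x : Y) • ((Multiplicative.toAdd m : WW V H R) : V),
        smul_mem_WW x.2 (Multiplicative.toAdd m).2⟩ : WW V H R)
      invFun := fun m => Multiplicative.ofAdd (⟨(x : Y)⁻¹ • ((Multiplicative.toAdd m : WW V H R) : V),
        smul_mem_WW (H.inv_mem x.2) (Multiplicative.toAdd m).2⟩ : WW V H R)
      left_inv := fun m => by
        apply congrArg Multiplicative.ofAdd
        apply Subtype.ext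
        exact inv_smul_smul (x : Y) _
      right_inv := fun m => by
        apply congrArg Multiplicative.ofAdd
        apply Subtype.ext
        exact smul_inv_smul (x : Y) _
      map_mul' := fun m n => by
        apply congrArg Multiplicative.ofAdd
        apply Subtype.ext
        exact smul_add (x : Y) _ _ }
  map_one' := by
    apply MulEquiv.ext
    intro m
    apply congrArg Multiplicative.ofAdd
    apply Subtype.ext
    exact one_smul Y _
  map_mul' x y := by
    apply MulEquiv.ext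
    intro m
    apply congrArg Multiplicative.ofAdd
    apply Subtype.ext
    exact mul_smul (x : Y) (y : Y) _

/-- the group induced by `H` on `W` -/
abbrev XH : Subgroup (MulAut (Wm V H R)) := (actH V H R).range

/-- the projection -/
def pr : H →* XH V H R := (actH V H R).rangeRestrict

theorem pr_surjective : Function.Surjective (pr V H R) := (actH V H R).rangeRestrict_surjective

/-- the vector of an element of `Wm` -/
def vl (m : Wm V H R) : V := ((Multiplicative.toAdd m : WW V H R) : V)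

end act

section

variable {H R : Subgroup Y}

theorem vl_mem (m : Wm V H R) : vl V H R m ∈ WW V H R := (Multiplicative.toAdd m).2

theorem vl_mul (m n : Wm V H R) : vl V H R (m * n) = vl V H R m + vl V H R n := rfl

theorem vl_one : vl V H R 1 = 0 := rfl

theorem vl_inj {m n : Wm V H R} (h : vl V H R m = vl V H R n) : m = n := by
  apply Multiplicative.toAdd.injective
  exact Subtype.ext h

theorem exists_vl {w : V} (hw : w ∈ WW V H R) : ∃ m : Wm V H R, vl V H R m = w :=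
  ⟨Multiplicative.ofAdd ⟨w, hw⟩, rfl⟩

theorem vl_smul (x : H) (m : Wm V H R) : vl V H R (pr V H R x • m) = (x : Y) • vl V H R m := rfl

theorem pr_fix {x : H} {m : Wm V H R} : pr V H R x • m = m ↔ (x : Y) • vl V H R m = vl V H R m := by
  rw [← vl_smul]
  exact ⟨fun h => congrArg _ h, vl_inj⟩

theorem pr_eq_one {x : H} : pr V H R x = 1 ↔ ∀ w ∈ WW V H R, (x : Y) • w = w := by
  constructor
  · intro h w hw
    obtain ⟨m, rfl⟩ := exists_vl hw
    rw [← pr_fix, h, one_smul]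
  · intro h
    apply Subtype.ext
    apply MulEquiv.ext
    intro m
    exact vl_inj (h _ (vl_mem m))

theorem pr_faith (x : XH V H R) (hx : ∀ m : Wm V H R, x • m = m) : x = 1 := by
  apply Subtype.ext
  apply MulEquiv.ext
  exact hx

end

namespace Amal

variable {U : Set (Subgroup Y)} {T : Sylow 2 Y} {M H R : Subgroup Y} {t : Y}

variable (a : Amal U T M H R t)
include a

/-- `R` as a Sylow subgroup of `H` -/
theorem exists_syl [Finite Y] : ∃ P : Sylow 2 H, (P : Subgroup H) = R.subgroupOf H := by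
  have : Fact (Nat.Prime 2) := ⟨Nat.prime_two⟩
  have hRp : IsPGroup 2 (R.subgroupOf H) := a.R2.comap_of_injective H.subtype H.subtype_injective
  obtain ⟨P, hP⟩ := hRp.exists_le_sylow
  refine ⟨P, ?_⟩
  symm
  apply eq_of_le_of_card_ge hP
  have h2 := a.card_le a.bad.ne le_rfl (map_subtype_le (P : Subgroup H)) (P.2.map H.subtype)
  rw [Nat.card_congr ((P : Subgroup H).equivMapOfInjective _ H.subtype_injective).symm.toEquiv] at h2
  rwa [Nat.card_congr (subgroupOfEquivOfLe a.RH).toEquiv]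

variable (h : Amb V U T M)
include h

/-- `H` moves a vector of `V₀` -/
theorem exists_moved [Finite V] : ∃ v ∈ fx V R, ∃ x ∈ H, x • v ≠ v := by
  by_contra hcon
  push Not at hcon
  exact H_not_le a h (ker_le_M a h fun x hx v hv => hcon v hv x hx)

/-- **the FF theorem's hypotheses for `H` on `W`** -/
theorem abs [Finite Y] [Finite V] : ∃ (P : Sylow 2 (XH V H R)) (M₁ : Subgroup (XH V H R)),
    Abs (XH V H R) (Wm V H R) P M₁ ∧ ∀ x : XH V H R, x ∈ P ↔ ∃ r : H, (r : Y) ∈ R ∧ pr V H R r = x := by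
  have : Fact (Nat.Prime 2) := ⟨Nat.prime_two⟩
  obtain ⟨P, hP⟩ := a.exists_syl
  have hmem : ∀ x : XH V H R, x ∈ P.mapSurjective (pr_surjective V H R) ↔
      ∃ r : H, (r : Y) ∈ R ∧ pr V H R r = x := by
    intro x
    constructor
    · rintro ⟨r, hr, rfl⟩
      have h1 : r ∈ (P : Subgroup H) := hr
      rw [hP] at h1
      exact ⟨r, h1, rfl⟩
    · rintro ⟨r, hr, rfl⟩
      have h1 : r ∈ (P : Subgroup H) := by rw [hP]; exact hr
      exact ⟨r, h1, rfl⟩
  have hker : ∀ x : H, pr V H R x = 1 → (x : Y) ∈ M := by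
    intro x hx
    rw [pr_eq_one] at hx
    have h1 := ker_le_M a h (X := zpowers (x : Y)) (by
      intro y hy v hv
      have h2 : zpowers (x : Y) ≤ MulAction.stabilizer Y v := by
        rw [zpowers_le, MulAction.mem_stabilizer_iff]
        exact hx v (fx_le_WW hv)
      exact h2 hy)
    exact h1 (mem_zpowers _)
  -- a proper subgroup of `H` over `R` and the kernel
  have key : ∀ N : Subgroup H, R.subgroupOf H ≤ N → N ≠ ⊤ → ∀ x ∈ N, (x : Y) ∈ M := by
    intro N hN hNt x hx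
    have hlt : N.map H.subtype < H := by
      refine lt_of_le_of_ne (map_subtype_le _) fun h5 => hNt ?_
      rw [eq_top_iff]
      intro x _
      have h6 : (x : Y) ∈ N.map H.subtype := by rw [h5]; exact x.2
      obtain ⟨n, hn, hnx⟩ := h6
      have : n = x := Subtype.ext hnx
      rwa [← this]
    have hle : R ≤ N.map H.subtype := by
      intro r hr
      exact ⟨⟨r, a.RH hr⟩, hN (mem_subgroupOf.2 hr), rfl⟩
    exact a.uniq _ hle hlt ⟨x, hx, rfl⟩
  have hHM : ¬ ∀ x ∈ H, x ∈ M := H_not_le a h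
  refine ⟨P.mapSurjective (pr_surjective V H R), (M.subgroupOf H).map (pr V H R), ?_, hmem⟩
  exact
    { comm := fun v w => vl_inj (by rw [vl_mul, vl_mul, add_comm])
      sq := fun v => vl_inj (by rw [vl_mul, h.two, vl_one])
      faith := pr_faith
      core := by
        intro N hN hN2
        have h1 : N ≤ (P.mapSurjective (pr_surjective V H R) : Subgroup (XH V H R)) := hN2.le_sylow_of_normal _
        set N' := N.comap (pr V H R) with hN'
        have hN'n : N'.Normal := hN.comap _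
        have h2 := frattini_inf P N'
        have h3 : normalizer (((P : Subgroup H) ⊓ N' : Subgroup H) : Set H) = ⊤ := by
          by_contra h4
          apply hHM
          have h5 := key _ (by
            intro r hr
            rw [mem_normalizer_iff]
            have hrP : r ∈ (P : Subgroup H) := by rw [hP]; exact hr
            intro y
            constructor
            · rintro ⟨hy1, hy2⟩
              exact ⟨(P : Subgroup H).mul_mem ((P : Subgroup H).mul_mem hrP hy1) ((P : Subgroup H).inv_mem hrP),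
                hN'n.conj_mem y hy2 _⟩
            · rintro ⟨hy1, hy2⟩
              refine ⟨?_, ?_⟩
              · have := (P : Subgroup H).mul_mem ((P : Subgroup H).mul_mem ((P : Subgroup H).inv_mem hrP) hy1) hrP
                have e : r⁻¹ * (r * y * r⁻¹) * r = y := by group
                rwa [e] at this
              · have := hN'n.conj_mem _ hy2 r⁻¹
                have e : r⁻¹ * (r * y * r⁻¹) * r⁻¹⁻¹ = y := by group
                rwa [e] at this) h4
          have h6 : N' ≤ M.subgroupOf H := by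
            intro y hy
            obtain ⟨p, hp, hpy⟩ := h1 hy
            have h7 : p ∈ N' := by
              rw [hN', mem_comap]
              change pr V H R p = pr V H R y at hpy
              rw [hpy]
              exact hy
            have h8 : (p : Y) ∈ M := h5 p (le_normalizer ⟨hp, h7⟩)
            have h9 : pr V H R (p⁻¹ * y) = 1 := by
              change pr V H R p = pr V H R y at hpy
              rw [map_mul, map_inv, hpy, inv_mul_cancel]
            have h10 := hker _ h9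
            have h11 := M.mul_mem h8 h10
            rw [mem_subgroupOf]
            have e : (p : Y) * ((p⁻¹ * y : H) : Y) = y := by
              rw [Subgroup.coe_mul, Subgroup.coe_inv, mul_inv_cancel_left]
            rwa [e] at h11
          intro x hx
          have h7 : (⟨x, hx⟩ : H) ∈ normalizer (((P : Subgroup H) ⊓ N' : Subgroup H) : Set H) ⊔ N' := by
            rw [h2]; exact mem_top _
          have h8 : normalizer (((P : Subgroup H) ⊓ N' : Subgroup H) : Set H) ⊔ N' ≤ M.subgroupOf H :=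
            sup_le (fun y hy => h5 y hy) h6
          exact h8 h7
        have h4 : ((P : Subgroup H) ⊓ N').Normal := normalizer_eq_top_iff.1 h3
        rw [eq_bot_iff]
        intro x hx
        obtain ⟨p, hp, rfl⟩ := h1 hx
        have hpR : (p : Y) ∈ R := by
          have : p ∈ (P : Subgroup H) := hp
          rw [hP] at this
          exact this
        have hpN : p ∈ (P : Subgroup H) ⊓ N' := ⟨hp, hx⟩
        rw [mem_bot]
        change pr V H R p = 1
        rw [pr_eq_one]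
        intro w hw
        apply QQ_fix a h (q := (p : Y)) _ hw
        intro y hy
        have h5 := (h4.conj_mem p hpN ⟨y, hy⟩).1
        rw [hP] at h5
        exact h5
      TM := by
        rintro _ ⟨r, hr, rfl⟩
        refine ⟨r, ?_, rfl⟩
        have h1 : r ∈ (P : Subgroup H) := hr
        rw [hP] at h1
        exact h.TM (a.RT h1)
      Mne := by
        intro h1
        apply hHM
        intro x hx
        have h2 : pr V H R ⟨x, hx⟩ ∈ (M.subgroupOf H).map (pr V H R) := by rw [h1]; exact mem_top _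
        obtain ⟨m, hm, hmx⟩ := h2
        have h3 : pr V H R (m⁻¹ * ⟨x, hx⟩) = 1 := by
          rw [map_mul, map_inv, hmx, inv_mul_cancel]
        have h4 := M.mul_mem (show (m : Y) ∈ M from hm) (hker _ h3)
        have e : (m : Y) * ((m⁻¹ * ⟨x, hx⟩ : H) : Y) = x := by
          rw [Subgroup.coe_mul, Subgroup.coe_inv, mul_inv_cancel_left]
        rwa [e] at h4
      max := by
        intro K hK
        by_cases h1 : K.comap (pr V H R) = ⊤
        · right
          rw [eq_top_iff]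
          intro x _
          obtain ⟨y, rfl⟩ := pr_surjective V H R x
          have : y ∈ K.comap (pr V H R) := by rw [h1]; exact mem_top _
          exact this
        · left
          have h2 := key _ (by
            intro r hr
            rw [mem_comap]
            apply hK
            exact (hmem _).2 ⟨r, hr, rfl⟩) h1
          intro x hx
          obtain ⟨y, rfl⟩ := pr_surjective V H R x
          exact ⟨y, h2 y hx, rfl⟩
      gen := by
        intro W' hW'
        let W₂ : AddSubgroup V :=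
          { carrier := {v | ∃ m ∈ W', vl V H R m = v}
            add_mem' := by
              rintro _ _ ⟨m, hm, rfl⟩ ⟨n, hn, rfl⟩
              exact ⟨m * n, W'.mul_mem hm hn, vl_mul m n⟩
            zero_mem' := ⟨1, W'.one_mem, vl_one⟩
            neg_mem' := by
              rintro _ ⟨m, hm, rfl⟩
              exact ⟨m⁻¹, W'.inv_mem hm, rfl⟩ }
        have h1 : WW V H R ≤ W₂ := by
          apply WW_le
          intro x hx w hw
          obtain ⟨m, hm⟩ := exists_vl (fx_le_WW (H := H) hw)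
          refine ⟨pr V H R ⟨x, hx⟩ • m, hW' m ?_ _, ?_⟩
          · intro p hp
            obtain ⟨r, hr, rfl⟩ := (hmem p).1 hp
            rw [pr_fix, hm]
            exact hw r hr
          · rw [vl_smul, hm]
        rw [eq_top_iff]
        intro m _
        obtain ⟨n, hn, hnm⟩ := h1 (vl_mem m)
        rwa [← vl_inj hnm]
      nfix := by
        obtain ⟨v, hv, x, hx, hne⟩ := exists_moved a h
        obtain ⟨m, hm⟩ := exists_vl (fx_le_WW (H := H) hv)
        refine ⟨m, fun p hp => ?_, pr V H R ⟨x, hx⟩, fun h1 => hne ?_⟩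
        · obtain ⟨r, hr, rfl⟩ := (hmem p).1 hp
          rw [pr_fix, hm]
          exact hv r hr
        · rw [pr_fix, hm] at h1
          exact h1 }

end Amal

section count

variable {H R : Subgroup Y}

/-- the pointwise stabiliser of `W` -/
def CW (V : Type u) [AddCommGroup V] [DistribMulAction Y V] (H R : Subgroup Y) : Subgroup Y where
  carrier := {y | ∀ w ∈ WW V H R, y • w = w}
  one_mem' := fun w _ => one_smul Y w
  mul_mem' := fun {x y} hx hy w hw => by rw [mul_smul, hy w hw, hx w hw]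
  inv_mem' := fun {x} hx w hw => by rw [inv_smul_eq_iff, hx w hw]

theorem mem_CW {y : Y} : y ∈ CW V H R ↔ ∀ w ∈ WW V H R, y • w = w := Iff.rfl

/-- `|A| |B ∩ C(W)| = |B|`, `A` the image of `B` -/
theorem card_im {B : Subgroup Y} (hB : B ≤ H) :
    Nat.card ↥((B.subgroupOf H).map (pr V H R)) * Nat.card ↥(B ⊓ CW V H R) = Nat.card B := by
  let f : B →* XH V H R := (pr V H R).comp (inclusion hB)
  have h1 : f.range = (B.subgroupOf H).map (pr V H R) := by
    ext x
    constructor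
    · rintro ⟨b, rfl⟩
      exact ⟨inclusion hB b, mem_subgroupOf.2 b.2, rfl⟩
    · rintro ⟨b, hb, rfl⟩
      exact ⟨⟨b, hb⟩, rfl⟩
  have h2 : f.ker.map B.subtype = B ⊓ CW V H R := by
    ext x
    constructor
    · rintro ⟨b, hb, rfl⟩
      refine ⟨b.2, ?_⟩
      have h3 : pr V H R (inclusion hB b) = 1 := hb
      rw [pr_eq_one] at h3
      exact h3
    · rintro ⟨h3, h4⟩
      refine ⟨⟨x, h3⟩, ?_, rfl⟩
      change pr V H R (inclusion hB ⟨x, h3⟩) = 1
      rw [pr_eq_one]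
      exact h4
  rw [← h1, ← h2, Nat.card_congr (f.ker.equivMapOfInjective _ B.subtype_injective).symm.toEquiv]
  have h3 := f.ker.card_mul_index
  rw [index_ker] at h3
  rw [← h3, mul_comm]

/-- `|W : C_W(B)|` -/
theorem card_cv [Finite V] {B : Subgroup Y} (hB : B ≤ H) :
    (ClassTwoFusion.Quad.cv (Wm V H R) (((B.subgroupOf H).map (pr V H R) : Subgroup (XH V H R)) : Set (XH V H R))).index
      * Nat.card ↥(WW V H R ⊓ fx V B) = Nat.card ↥(WW V H R) := by
  set K := ClassTwoFusion.Quad.cv (Wm V H R)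
    (((B.subgroupOf H).map (pr V H R) : Subgroup (XH V H R)) : Set (XH V H R)) with hK
  have h1 : Nat.card K = Nat.card ↥(WW V H R ⊓ fx V B) := by
    refine Nat.card_congr
      { toFun := fun m => ⟨vl V H R m, vl_mem _, ?_⟩
        invFun := fun w => ⟨Multiplicative.ofAdd ⟨w, w.2.1⟩, ?_⟩
        left_inv := fun m => rfl
        right_inv := fun w => rfl }
    · intro b hb
      have h2 := m.2 (pr V H R ⟨b, hB hb⟩) ⟨⟨b, hB hb⟩, hb, rfl⟩
      exact pr_fix.1 h2
    · rintro _ ⟨b, hb, rfl⟩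
      exact pr_fix.2 (w.2.2 b hb)
  rw [← h1, mul_comm, K.card_mul_index]
  rfl

/-- (MU) for `C_B(W)`: `|W| |C_B(W)| ≤ |B| |C_W(B)|` -/
theorem mu_W [Finite Y] [Finite V] {B : Subgroup Y} (h2 : ∀ v : V, v + v = 0) (hm : Mem B (Ee V B) (fx V B))
    (hmu : ∀ A₀ ≤ B, Nat.card A₀ * Nat.card ↥(fx V A₀ ⊓ Ee V B) ≤ Nat.card (Ee V B))
    (hW : WW V H R ≤ Ee V B) :
    Nat.card ↥(WW V H R) * Nat.card ↥(B ⊓ CW V H R) ≤ Nat.card B * Nat.card ↥(WW V H R ⊓ fx V B) := by
  have h3 := hmu (B ⊓ CW V H R) inf_le_left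
  have h4 : WW V H R ⊔ fx V B ≤ fx V (B ⊓ CW V H R) ⊓ Ee V B := by
    refine sup_le (le_inf ?_ hW) (le_inf (fx_mono inf_le_left) hm.FE)
    intro w hw b hb
    exact hb.2 w hw
  have h5 : Nat.card ↥(WW V H R ⊔ fx V B) ≤ Nat.card ↥(fx V (B ⊓ CW V H R) ⊓ Ee V B) :=
    Nat.card_le_card_of_injective _ (AddSubgroup.inclusion_injective h4)
  have h6 := card_sup_as (WW V H R) (fx V B)
  rw [hm.card_E h2] at h3
  have h7 : 0 < Nat.card ↥(fx V B) := Nat.card_pos
  have h8 : Nat.card ↥(B ⊓ CW V H R) * Nat.card ↥(WW V H R ⊔ fx V B) ≤ Nat.card ↥(fx V B) * Nat.card B :=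
    (Nat.mul_le_mul_left _ h5).trans h3
  have h9 := Nat.mul_le_mul_right (Nat.card ↥(WW V H R ⊓ fx V B)) h8
  rw [mul_assoc, h6] at h9
  have h10 : Nat.card ↥(fx V B) * (Nat.card ↥(WW V H R) * Nat.card ↥(B ⊓ CW V H R)) ≤
      Nat.card ↥(fx V B) * (Nat.card B * Nat.card ↥(WW V H R ⊓ fx V B)) := by
    calc _ = Nat.card ↥(B ⊓ CW V H R) * (Nat.card ↥(WW V H R) * Nat.card ↥(fx V B)) := by ring
      _ ≤ _ := h9
      _ = _ := by ring
  exact Nat.le_of_mul_le_mul_left h10 h7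

end count

namespace Amal

variable {U : Set (Subgroup Y)} {T : Sylow 2 Y} {M H R : Subgroup Y} {t : Y}

variable (a : Amal U T M H R t) (h : Amb V U T M)
include a h

/-- for `B ≤ R`: `B ∩ C(W) = B ∩ Q` -/
theorem inf_CW [Finite Y] [Finite V] {B : Subgroup Y} (hB : B ≤ R) : B ⊓ CW V H R = B ⊓ QQ H R := by
  ext b
  constructor
  · rintro ⟨h1, h2⟩
    exact ⟨h1, (mem_QQ_iff a h (hB h1)).2 h2⟩
  · rintro ⟨h1, h2⟩
    exact ⟨h1, fun w hw => QQ_fix a h h2 hw⟩

/-- the image of a member -/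
theorem aOff [Finite Y] [Finite V] {B : Subgroup Y} (hB : B ∈ U) (hBH : B ≤ H) (hBQ : ¬ B ≤ CW V H R)
    (hW : WW V H R ≤ Ee V B) : AOff (Wm V H R) ((B.subgroupOf H).map (pr V H R)) where
  comm := by
    rintro _ ⟨x, hx, rfl⟩ _ ⟨y, hy, rfl⟩
    rw [← map_mul, ← map_mul]
    congr 1
    exact Subtype.ext ((h.cls.mem B hB).comm x hx y hy)
  sq := by
    rintro _ ⟨x, hx, rfl⟩
    rw [← map_mul]
    have : x * x = 1 := Subtype.ext ((h.cls.mem B hB).sq x hx)
    rw [this, map_one]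
  ne := by
    intro h1
    apply hBQ
    intro b hb w hw
    have h2 : pr V H R ⟨b, hBH hb⟩ ∈ (B.subgroupOf H).map (pr V H R) := ⟨_, hb, rfl⟩
    rw [h1, mem_bot, pr_eq_one] at h2
    exact h2 w hw
  le := by
    have h1 := mu_W h.two (h.cls.mem B hB) (h.cls.mu B hB) hW
    have h2 := card_im (V := V) (R := R) hBH
    have h3 := card_cv (V := V) (R := R) hBH
    rw [← h2, ← h3] at h1
    have h4 : 0 < Nat.card ↥(B ⊓ CW V H R) := Nat.card_pos
    have h5 : 0 < Nat.card ↥(WW V H R ⊓ fx V B) := Nat.card_pos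
    have h6 := Nat.mul_pos h4 h5
    apply Nat.le_of_mul_le_mul_right _ h6
    calc _ = _ := (mul_assoc _ _ _).symm
      _ = _ := by rw [mul_right_comm]
      _ ≤ _ := h1
      _ = _ := mul_assoc _ _ _

/-- **the FF theorem for `H` on `W`** -/
theorem ff [Finite Y] [Finite V] {B : Subgroup Y} (hB : B ∈ U) (hBH : B ≤ H) (hBQ : ¬ B ≤ CW V H R)
    (hW : WW V H R ≤ Ee V B) : ∃ (P : Sylow 2 (XH V H R)) (M₁ : Subgroup (XH V H R)),
      Abs (XH V H R) (Wm V H R) P M₁ ∧ (∀ x : XH V H R, x ∈ P ↔ ∃ r : H, (r : Y) ∈ R ∧ pr V H R r = x) ∧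
        ANoOver (XH V H R) (Wm V H R) ∧ AConcl (P : Subgroup (XH V H R)) (Wm V H R) := by
  obtain ⟨P, M₁, h1, h2⟩ := a.abs h
  obtain ⟨h3, h4⟩ := aStmt (XH V H R) (Wm V H R) P M₁ h1 ⟨_, aOff a h hB hBH hBQ hW⟩
  exact ⟨P, M₁, h1, h2, h3, h4⟩

/-- **exactness**: `|W| |C_B(W)| = |B| |C_W(B)|` -/
theorem exact [Finite Y] [Finite V] (hno : ANoOver (XH V H R) (Wm V H R)) {B : Subgroup Y} (hB : B ∈ U)
    (hBH : B ≤ H) (hW : WW V H R ≤ Ee V B) :
    Nat.card ↥(WW V H R) * Nat.card ↥(B ⊓ CW V H R) = Nat.card B * Nat.card ↥(WW V H R ⊓ fx V B) := by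
  apply le_antisymm (mu_W h.two (h.cls.mem B hB) (h.cls.mu B hB) hW)
  have h1 := hno ((B.subgroupOf H).map (pr V H R)) (by
    rintro _ ⟨x, hx, rfl⟩ _ ⟨y, hy, rfl⟩
    rw [← map_mul, ← map_mul]
    congr 1
    exact Subtype.ext ((h.cls.mem B hB).comm x hx y hy)) (by
    rintro _ ⟨x, hx, rfl⟩
    rw [← map_mul]
    have : x * x = 1 := Subtype.ext ((h.cls.mem B hB).sq x hx)
    rw [this, map_one])
  have h2 := card_im (V := V) (R := R) hBH
  have h3 := card_cv (V := V) (R := R) hBH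
  rw [← h2, ← h3]
  calc _ = Nat.card ↥((B.subgroupOf H).map (pr V H R)) *
        (Nat.card ↥(B ⊓ CW V H R) * Nat.card ↥(WW V H R ⊓ fx V B)) := mul_assoc _ _ _
    _ ≤ _ := Nat.mul_le_mul_right _ h1
    _ = _ := by ring

end Amal

end Cfsg.Agent.Omega.NO1.TH

end

section


/-!
# A regular vector for an offender (bb OMEGA 19584 (2), 19978 (r3))

`exists_reg` : `X`, `V`, `T` as in the abstract FF theorem, `A ≤ T` an offender: some `v ∈ V` has `C_A(v) = 1`.
-/

set_option autoImplicit false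
set_option linter.unusedSectionVars false

namespace Cfsg.Agent.Omega.NO1.TH

open Subgroup Cfsg.Agent.Omega.FFBr
open Cfsg.Agent.Omega.NatPair (ap)
open Cfsg.Agent.Lib.SL2Mat

universe u

variable {X V : Type u} [Group X] [Group V] [MulDistribMulAction X V]

/-- an element which is trivial on `V / C_V(O²(X))` and on `C_V(O²(X))` -/
theorem eq_one_of_triv {T : Sylow 2 X} {M : Subgroup X} (hA : Abs X V T M) {x : X}
    (h1 : ∀ v : V, (x • v) * v ∈ odd X V) (h2 : ∀ d ∈ odd X V, x • d = d) : x = 1 := by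
  have hodd : ∀ (g : X) (d : V), d ∈ odd X V → g • d ∈ odd X V := by
    intro g d hd y hy
    have h3 := hd (g⁻¹ * y * g) (by
      have : orderOf (g⁻¹ * y * g) = orderOf y := by
        have := orderOf_injective (MulAut.conj g⁻¹).toMonoidHom (MulAut.conj g⁻¹).injective y
        simpa using this
      rw [this]; exact hy)
    rw [mul_smul, mul_smul, inv_smul_eq_iff] at h3
    exact h3
  let N : Subgroup X :=
    { carrier := {y | (∀ v : V, (y • v) * v ∈ odd X V) ∧ ∀ d ∈ odd X V, y • d = d}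
      one_mem' := ⟨fun v => by rw [one_smul, hA.sq]; exact one_mem _, fun d _ => one_smul X d⟩
      mul_mem' := by
        rintro y z ⟨hy1, hy2⟩ ⟨hz1, hz2⟩
        refine ⟨fun v => ?_, fun d hd => by rw [mul_smul, hz2 d hd, hy2 d hd]⟩
        have h3 := mul_mem (hy1 (z • v)) (hz1 v)
        have e : y • z • v * (z • v) * (z • v * v) = y • z • v * ((z • v) * (z • v)) * v := by
          simp only [mul_assoc]
        rw [e, hA.sq, mul_one] at h3
        rwa [mul_smul]
      inv_mem' := by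
        rintro y ⟨hy1, hy2⟩
        refine ⟨fun v => ?_, fun d hd => by rw [inv_smul_eq_iff, hy2 d hd]⟩
        have h3 := hodd y⁻¹ _ (hy1 v)
        rw [smul_mul', inv_smul_smul] at h3
        rwa [hA.comm] at h3 }
  have hN : N.Normal := by
    refine ⟨fun y hy g => ?_⟩
    refine ⟨fun v => ?_, fun d hd => ?_⟩
    · have h3 := hodd g _ (hy.1 (g⁻¹ • v))
      rw [smul_mul', smul_inv_smul] at h3
      rwa [mul_smul, mul_smul]
    · rw [mul_smul, mul_smul, hy.2 _ (hodd g⁻¹ d hd), smul_inv_smul]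
  have hN2 : IsPGroup 2 N := by
    rintro ⟨y, hy⟩
    refine ⟨1, Subtype.ext ?_⟩
    rw [pow_one]
    change y ^ 2 = 1
    apply hA.faith
    intro v
    rw [pow_two, mul_smul]
    have h3 := hy.1 v
    obtain ⟨D, hD⟩ : ∃ D, D = y • v * v := ⟨_, rfl⟩
    have h4 : y • v = D * v := by rw [hD, mul_assoc, hA.sq, mul_one]
    rw [← hD] at h3
    rw [h4, smul_mul', hy.2 _ h3, h4, ← mul_assoc, hA.sq, one_mul]
  have h3 := hA.core N hN hN2
  have h4 : x ∈ N := ⟨h1, h2⟩
  rw [h3, mem_bot] at h4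
  exact h4

theorem ap_up'' {F : Type} [Field F] (b : F) (w : Fin 2 → F) : ap (up b) w = ![w 0 + b * w 1, w 1] := by
  rw [NatPair.ap, up]
  funext i
  fin_cases i <;> simp [Cfsg.Agent.Lib.SL2Mat.mk, Cfsg.Agent.Lib.SL2Mat.ent]

theorem reg_nat {T : Sylow 2 X} {M : Subgroup X} (hA : Abs X V T M) {F : Type} [Field F] {k : ℕ}
    (N : AbsNat F (T : Subgroup X) V k) {A : Subgroup X} (hAT : A ≤ T) (hO : AOff V A) :
    ∃ v : V, ∀ a ∈ A, a • v = v → a = 1 := by
  obtain ⟨v, hv⟩ := N.surj fun _ => ![0, 1]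
  obtain ⟨I, hI, _⟩ := N.off A hAT hO
  refine ⟨v, fun a ha hav => ?_⟩
  obtain ⟨b, _, hb2, hb3⟩ := hI a ha
  have hb : ∀ i, b i = 0 := by
    intro i
    have h1 := hb2 v i
    rw [hav, ap_up'', hv] at h1
    have h2 := congrFun h1 0
    simp at h2
    exact h2.symm
  apply eq_one_of_triv hA _ hb3
  intro w
  rw [← N.ker, N.mul]
  funext i
  have h1 : N.e (a • w) i = ap (up (b i)) (N.e w i) := hb2 w i
  rw [hb i, ap_up''] at h1
  rw [Pi.add_apply, h1]
  have h2 := congrFun (congrFun (by rw [← N.mul, hA.sq] : N.e w + N.e w = N.e 1) i)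
  have h3 : N.e 1 = 0 := (N.ker 1).2 (one_mem _)
  rw [h3] at h2
  funext j
  have h4 := h2 j
  fin_cases j
  · simpa using h4
  · simpa using h4

section sym

variable {k m : ℕ}

theorem reg_sym {T : Sylow 2 X} {M : Subgroup X} (hA : Abs X V T M) (hm : 2 ≤ m)
    (N : AbsSym (T : Subgroup X) V k m) {A : Subgroup X} (hAT : A ≤ T) (hO : AOff V A) :
    ∃ v : V, ∀ a ∈ A, a • v = v → a = 1 := by
  classical
  obtain ⟨hD, hI⟩ := N.off A hAT hO
  have h4 : 4 ≤ 2 ^ m := by
    calc 4 = 2 ^ 2 := by norm_num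
      _ ≤ 2 ^ m := Nat.pow_le_pow_right (by norm_num) hm
  -- pairs
  let Pr : Fin k → Fin (2 ^ m + 1) → Fin (2 ^ m + 1) → Prop := fun i x y =>
    x ≠ y ∧ ∃ b ∈ A, AActsSym N.e b 1 (Function.update 1 i (Equiv.swap x y))
  have hsymm : ∀ i x y, Pr i x y → Pr i y x := by
    rintro i x y ⟨h1, b, hb, hb2⟩
    refine ⟨h1.symm, b, hb, ?_⟩
    rw [Equiv.swap_comm]
    exact hb2
  have hval : ∀ (i : Fin k) (x y : Fin (2 ^ m + 1)) (b : X), AActsSym N.e b 1 (Function.update 1 i (Equiv.swap x y)) →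
      ∀ v w, N.e (b • v) i w = N.e v i (Equiv.swap x y w) := by
    intro i x y b hb v w
    have h1 := hb v i (Equiv.swap x y w)
    rw [Function.update_self, Equiv.swap_apply_self] at h1
    exact h1
  have huniq : ∀ i x y z, Pr i x y → Pr i x z → y = z := by
    rintro i x y z ⟨hxy, b, hb, hb2⟩ ⟨hxz, c, hc, hc2⟩
    by_contra hyz
    -- a vector separating `y` and `z`
    obtain ⟨w, hwy, hwz⟩ : ∃ w : Fin (2 ^ m + 1), w ≠ y ∧ w ≠ z := by
      by_contra hcon
      push Not at hcon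
      have h5 : (Finset.univ : Finset (Fin (2 ^ m + 1))) ⊆ {y, z} := by
        intro w _
        rw [Finset.mem_insert, Finset.mem_singleton]
        by_cases h6 : w = y
        · exact Or.inl h6
        · exact Or.inr (hcon w h6)
      have h6 := Finset.card_le_card h5
      rw [Finset.card_univ, Fintype.card_fin] at h6
      have h7 := Finset.card_insert_le y {z}
      rw [Finset.card_singleton] at h7
      omega
    obtain ⟨v, hv⟩ := N.surj (fun j => if j = i then (Pi.single y 1 + Pi.single w 1) else 0) (by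
      intro j
      by_cases hj : j = i
      · rw [if_pos hj]
        simp only [Pi.add_apply, Finset.sum_add_distrib, Finset.sum_pi_single', Finset.mem_univ, if_true]
        exact CharTwo.add_self_eq_zero 1
      · rw [if_neg hj]; simp)
    have h5 : N.e (b • c • v) i x = N.e (c • b • v) i x := by
      rw [← mul_smul, ← mul_smul, hO.comm b hb c hc]
    rw [hval i x y b hb2, hval i x z c hc2, hval i x z c hc2, hval i x y b hb2, Equiv.swap_apply_left,
      Equiv.swap_apply_left, Equiv.swap_apply_of_ne_of_ne hxy.symm hyz,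
      Equiv.swap_apply_of_ne_of_ne hxz.symm (Ne.symm hyz), hv] at h5
    simp only [if_true, Pi.add_apply] at h5
    rw [Pi.single_eq_same, Pi.single_eq_of_ne hwy.symm, Pi.single_eq_of_ne (Ne.symm hyz),
      Pi.single_eq_of_ne hwz.symm] at h5
    simp at h5
  have h0 : ∀ i x, ¬ Pr i 0 x := by
    rintro i x ⟨h1, b, hb, hb2⟩
    have h2 := N.fix0 b (hAT hb) _ _ hb2 i
    rw [Function.update_self, Equiv.swap_apply_left] at h2
    exact h1 h2.symm
  -- the vector
  let f : Fin k → Fin (2 ^ m + 1) → ZMod 2 := fun i x => if ∃ y, Pr i x y ∧ x < y then 1 else 0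
  let g : Fin k → Fin (2 ^ m + 1) → ZMod 2 := fun i => f i + Pi.single 0 (∑ x, f i x)
  obtain ⟨v, hv⟩ := N.surj g (by
    intro i
    have h5 : ∑ x, g i x = ∑ x, f i x + ∑ x, (Pi.single 0 (∑ x, f i x) : Fin (2 ^ m + 1) → ZMod 2) x := by
      rw [← Finset.sum_add_distrib]
      rfl
    rw [h5, Finset.sum_pi_single', if_pos (Finset.mem_univ _)]
    exact CharTwo.add_self_eq_zero _)
  have hne : ∀ i x y, Pr i x y → N.e v i x ≠ N.e v i y := by
    have key : ∀ i x y, Pr i x y → x < y → N.e v i x ≠ N.e v i y := by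
      intro i x y hp hxy
      have hx0 : x ≠ 0 := fun h => h0 i y (h ▸ hp)
      have hy0 : y ≠ 0 := fun h => h0 i x (h ▸ hsymm i x y hp)
      have h1 : f i x = 1 := if_pos ⟨y, hp, hxy⟩
      have h2 : f i y = 0 := by
        apply if_neg
        rintro ⟨z, hz, hyz⟩
        have h3 := huniq i y x z (hsymm i x y hp) hz
        subst h3
        exact absurd hxy (not_lt.2 hyz.le)
      rw [hv]
      change f i x + (Pi.single 0 (∑ x, f i x) : Fin (2 ^ m + 1) → ZMod 2) x ≠
        f i y + (Pi.single 0 (∑ x, f i x) : Fin (2 ^ m + 1) → ZMod 2) y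
      rw [Pi.single_eq_of_ne hx0, Pi.single_eq_of_ne hy0, h1, h2]
      decide
    intro i x y hp
    rcases lt_trichotomy x y with h1 | h1 | h1
    · exact key i x y hp h1
    · exact absurd h1 hp.1
    · exact (key i y x (hsymm i x y hp) h1).symm
  refine ⟨v, fun a ha hav => ?_⟩
  obtain ⟨τ, hτ, hτ2⟩ := hI a ha
  have hτ1 : ∀ i x, τ i x = x := by
    intro i x
    by_contra hne1
    obtain ⟨h1, b, hb, hb2⟩ := hτ2 i x hne1
    apply hne i x (τ i x) ⟨Ne.symm hne1, b, hb, hb2⟩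
    have h2 := hτ v i x
    rw [hav] at h2
    exact h2.symm
  apply eq_one_of_triv hA _ (hD a ha)
  intro w
  rw [← N.ker, N.mul]
  have h3 : N.e 1 = 0 := (N.ker 1).2 (one_mem _)
  have h4 : N.e w + N.e w = N.e 1 := by rw [← N.mul, hA.sq]
  have h5 : N.e (a • w) = N.e w := by
    funext i x
    have h6 := hτ w i x
    rw [hτ1] at h6
    exact h6
  rw [h5, h4, h3]

end sym

/-- **a regular vector for an offender** -/
theorem exists_reg {T : Sylow 2 X} {M : Subgroup X} (hA : Abs X V T M) (hC : AConcl (T : Subgroup X) V)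
    {A : Subgroup X} (hAT : A ≤ T) (hO : AOff V A) : ∃ v : V, ∀ a ∈ A, a • v = v → a = 1 := by
  rcases hC with ⟨F, _, _, _, k, _, ⟨N⟩⟩ | ⟨k, m, _, hm, ⟨N⟩⟩
  · exact reg_nat hA N hAT hO
  · exact reg_sym hA hm N hAT hO

end Cfsg.Agent.Omega.NO1.TH

end

section


/-!
# N1, BETA: (*) of bb OMEGA 19584 (2) (helper874; fill-in: helper29, helper835)

Hypothesis `hE`: `W ≤ E_B` for all members `B ≤ R`.  For a member `B ≤ H`, `B ≰ M`, with `B₁ = B ∩ Q`:
`exact'` : `|W| |B₁| = |B| |W ∩ F_B|`; `exists_reg'` : some `v ∈ W` has `C_B(v) = B₁`; `ne_bot` : `B₁ ≠ 1`;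
`fx_eq` : `C_V(B₁) = W + F_B`; `star` : `B₁ ≰ Q^t`.
-/

set_option autoImplicit false
set_option linter.unusedSectionVars false

namespace Cfsg.Agent.Omega.NO1.TH

open Subgroup Cfsg.Agent.Omega.NO1.AB Cfsg.Agent.Omega.FFBr
open scoped Pointwise

universe u

variable {Y : Type u} [Group Y] {V : Type u} [AddCommGroup V] [DistribMulAction Y V]

theorem smul_WW {H R : Subgroup Y} {x : Y} (hx : x ∈ H) : x • WW V H R = WW V H R := by
  ext v
  rw [mem_smul_as]
  constructor
  · intro h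
    have := smul_mem_WW hx h
    rwa [smul_inv_smul] at this
  · intro h
    exact smul_mem_WW (H.inv_mem hx) h

theorem smul_le_smul_as {g : Y} {W₁ W₂ : AddSubgroup V} (h : W₁ ≤ W₂) : g • W₁ ≤ g • W₂ := by
  intro v hv
  rw [mem_smul_as] at hv ⊢
  exact h hv

theorem smul_smul_as (g k : Y) (W : AddSubgroup V) : g • k • W = (g * k) • W := by
  rw [mul_smul]

/-- all members `B ≤ R` have `W ≤ E_B` -/
def WE (V : Type u) [AddCommGroup V] [DistribMulAction Y V] (U : Set (Subgroup Y)) (H R : Subgroup Y) : Prop :=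
  ∀ B ∈ U, B ≤ R → WW V H R ≤ Ee V B

namespace Amal

variable {U : Set (Subgroup Y)} {T : Sylow 2 Y} {M H R : Subgroup Y} {t : Y}

section

variable (a : Amal U T M H R t) (h : Amb V U T M)
include a h

/-- a member in `H` is conjugate in `H` to one in `R` -/
theorem exists_conj [Finite Y] {B : Subgroup Y} (hB : B ∈ U) (hBH : B ≤ H) :
    ∃ x ∈ H, MulAut.conj x • B ∈ U ∧ MulAut.conj x • B ≤ R := by
  obtain ⟨x, hx, hxB⟩ := conj_into a.RH a.R2 (fun R' h1 h2 => a.card_le a.bad.ne le_rfl h1 h2) hBH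
    (h.cls.mem B hB).isPGroup
  exact ⟨x, hx, h.cls.conj B hB x, hxB⟩

/-- `W ≤ E_B` for all members `B ≤ H` -/
theorem WW_le_Ee [Finite Y] (hE : WE V U H R) {B : Subgroup Y} (hB : B ∈ U) (hBH : B ≤ H) :
    WW V H R ≤ Ee V B := by
  obtain ⟨x, hx, hxU, hxR⟩ := exists_conj a h hB hBH
  have h1 := hE _ hxU hxR
  rw [Ee_conj] at h1
  have h2 := smul_le_smul_as (g := x⁻¹) h1
  rwa [smul_smul_as, inv_mul_cancel, one_smul, smul_WW (H.inv_mem hx)] at h2

/-- `C_B(W) = B ∩ Q` for 2-subgroups `B ≤ H` -/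
theorem inf_CW' [Finite Y] [Finite V] {B : Subgroup Y} (hB : B ∈ U) (hBH : B ≤ H) :
    B ⊓ CW V H R = B ⊓ QQ H R := by
  obtain ⟨x, hx, hxU, hxR⟩ := exists_conj a h hB hBH
  ext b
  constructor
  · rintro ⟨h1, h2⟩
    refine ⟨h1, ?_⟩
    have h3 : x * b * x⁻¹ ∈ R := hxR (conj_mem_conj h1)
    have h4 : x * b * x⁻¹ ∈ QQ H R := by
      rw [mem_QQ_iff a h h3]
      intro w hw
      rw [mul_smul, mul_smul, h2 _ (smul_mem_WW (H.inv_mem hx) hw), smul_inv_smul]
    have h5 := conj_mem_QQ (H.inv_mem hx) h4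
    have e : x⁻¹ * (x * b * x⁻¹) * x⁻¹⁻¹ = b := by group
    rwa [e] at h5
  · rintro ⟨h1, h2⟩
    exact ⟨h1, fun w hw => QQ_fix a h h2 hw⟩

/-- a member outside `M` moves `W` -/
theorem not_CW [Finite V] {B : Subgroup Y} (hBM : ¬ B ≤ M) : ¬ B ≤ CW V H R := by
  intro h1
  exact hBM (ker_le_M a h fun x hx v hv => h1 hx v (fx_le_WW hv))

/-- the FF theorem under (WE) -/
theorem ff' [Finite Y] [Finite V] (hE : WE V U H R) : ∃ (P : Sylow 2 (XH V H R)) (M₁ : Subgroup (XH V H R)),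
    Abs (XH V H R) (Wm V H R) P M₁ ∧ (∀ x : XH V H R, x ∈ P ↔ ∃ r : H, (r : Y) ∈ R ∧ pr V H R r = x) ∧
      ANoOver (XH V H R) (Wm V H R) ∧ AConcl (P : Subgroup (XH V H R)) (Wm V H R) := by
  obtain ⟨B, hB, hBR, hBQ⟩ := exists_not_QQ a h
  refine a.ff h hB (hBR.trans a.RH) (fun h1 => hBQ ?_) (hE B hB hBR)
  have h2 := inf_CW' a h hB (hBR.trans a.RH)
  rw [inf_eq_left.2 h1] at h2
  rw [h2]
  exact inf_le_right

/-- **exactness** -/
theorem exact' [Finite Y] [Finite V] (hE : WE V U H R) {B : Subgroup Y} (hB : B ∈ U) (hBH : B ≤ H) :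
    Nat.card ↥(WW V H R) * Nat.card ↥(B ⊓ QQ H R) = Nat.card B * Nat.card ↥(WW V H R ⊓ fx V B) := by
  obtain ⟨P, M₁, _, _, hno, _⟩ := a.ff' h hE
  rw [← inf_CW' a h hB hBH]
  exact exact a h hno hB hBH (WW_le_Ee a h hE hB hBH)

/-- a vector of `W` which is regular for `B` -/
theorem exists_reg' [Finite Y] [Finite V] (hE : WE V U H R) {B : Subgroup Y} (hB : B ∈ U) (hBH : B ≤ H) :
    ∃ v ∈ WW V H R, ∀ b ∈ B, b • v = v → b ∈ QQ H R := by
  have key : ∀ B : Subgroup Y, B ∈ U → B ≤ R → ∃ v ∈ WW V H R, ∀ b ∈ B, b • v = v → b ∈ QQ H R := by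
    intro B hB hBR
    by_cases hBQ : B ≤ QQ H R
    · exact ⟨0, zero_mem _, fun b hb _ => hBQ hb⟩
    obtain ⟨P, M₁, hA, hP, hno, hC⟩ := a.ff' h hE
    have hBC : ¬ B ≤ CW V H R := by
      intro h1
      apply hBQ
      have h2 := inf_CW' a h hB (hBR.trans a.RH)
      rw [inf_eq_left.2 h1] at h2
      rw [h2]
      exact inf_le_right
    obtain ⟨m, hm⟩ := exists_reg hA hC (A := (B.subgroupOf H).map (pr V H R)) (by
      rintro _ ⟨b, hb, rfl⟩
      exact (hP _).2 ⟨b, hBR hb, rfl⟩) (aOff a h hB (hBR.trans a.RH) hBC (hE B hB hBR))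
    refine ⟨vl V H R m, vl_mem m, fun b hb hbm => ?_⟩
    have h1 := hm (pr V H R ⟨b, a.RH (hBR hb)⟩) ⟨_, hb, rfl⟩ (pr_fix.2 hbm)
    rw [pr_eq_one] at h1
    exact (mem_QQ_iff a h (hBR hb)).2 h1
  obtain ⟨x, hx, hxU, hxR⟩ := exists_conj a h hB hBH
  obtain ⟨v, hv, hreg⟩ := key _ hxU hxR
  refine ⟨x⁻¹ • v, smul_mem_WW (H.inv_mem hx) hv, fun b hb hbv => ?_⟩
  have h1 := hreg (x * b * x⁻¹) (conj_mem_conj hb) (by rw [mul_smul, mul_smul, hbv, smul_inv_smul])
  have h5 := conj_mem_QQ (H.inv_mem hx) h1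
  have e : x⁻¹ * (x * b * x⁻¹) * x⁻¹⁻¹ = b := by group
  rwa [e] at h5

end

/-- `s_v` centralises `v` -/
theorem smul_self_of {B : Subgroup Y} (hm : Mem B (Ee V B) (fx V B)) {w v : V} {s : Y}
    (hs : s ∈ B) (h1 : s • w + w + v ∈ fx V B) : s • v = v := by
  have h3 := h1 s hs
  rw [smul_add, smul_add, ← mul_smul, hm.sq s hs, one_smul] at h3
  -- `w + s w + s v = s w + w + v`
  have h4 : w + s • w + s • v = w + s • w + v := by rw [h3]; abel
  exact add_left_cancel h4

variable (a : Amal U T M H R t) (h : Amb V U T M)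
include a h

/-- **`B ∩ Q ≠ 1`** -/
theorem ne_bot [Finite Y] [Finite V] (hE : WE V U H R) {B : Subgroup Y} (hB : B ∈ U) (hBH : B ≤ H) :
    B ⊓ QQ H R ≠ ⊥ := by
  intro hbot
  have hm := h.cls.mem B hB
  obtain ⟨v, hv, hreg⟩ := exists_reg' a h hE hB hBH
  obtain ⟨w, hw⟩ := hm.ne
  obtain ⟨s, hs, hsv⟩ := hm.surj w hw v (WW_le_Ee a h hE hB hBH hv)
  have h1 := hreg s hs (smul_self_of hm hs hsv)
  have h2 : s ∈ B ⊓ QQ H R := ⟨hs, h1⟩
  rw [hbot, mem_bot] at h2
  subst h2
  rw [one_smul, h.two, zero_add] at hsv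
  have h3 : B ≤ QQ H R := fun b hb => hreg b hb (hsv b hb)
  rw [inf_eq_left.2 h3] at hbot
  exact Mem.ne_bot hm hbot

/-- `C_V(B₁) ≤ E_B` -/
theorem fx_le_Ee [Finite Y] [Finite V] {B B₁ : Subgroup Y} (hB : B ∈ U) (hB₁ : B₁ ≤ B) (hne : B₁ ≠ ⊥) :
    fx V B₁ ≤ Ee V B := by
  intro v hv
  by_contra hvE
  apply hne
  rw [eq_bot_iff]
  intro b hb
  rw [mem_bot]
  apply (h.cls.mem B hB).inj v hvE b (hB₁ hb)
  rw [hv b hb, h.two]
  exact zero_mem _

/-- **`C_V(B₁) = W + F_B`**, `B₁ = B ∩ Q` -/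
theorem fx_eq [Finite Y] [Finite V] (hE : WE V U H R) {B : Subgroup Y} (hB : B ∈ U) (hBH : B ≤ H) :
    fx V (B ⊓ QQ H R) = WW V H R ⊔ fx V B := by
  have hm := h.cls.mem B hB
  have h1 := fx_le_Ee a h hB (B₁ := B ⊓ QQ H R) inf_le_left (ne_bot a h hE hB hBH)
  symm
  apply eq_of_le_as
  · refine sup_le (fun w hw b hb => QQ_fix a h hb.2 hw) (fx_mono inf_le_left)
  · have h2 := h.cls.mu B hB (B ⊓ QQ H R) inf_le_left
    rw [inf_eq_left.2 h1, hm.card_E h.two] at h2
    have h3 := exact' a h hE hB hBH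
    have h4 := card_sup_as (WW V H R) (fx V B)
    have h5 : 0 < Nat.card ↥(B ⊓ QQ H R) := Nat.card_pos
    have h6 : 0 < Nat.card ↥(WW V H R ⊓ fx V B) := Nat.card_pos
    apply Nat.le_of_mul_le_mul_left _ (Nat.mul_pos h5 h6)
    calc Nat.card ↥(B ⊓ QQ H R) * Nat.card ↥(WW V H R ⊓ fx V B) * Nat.card ↥(fx V (B ⊓ QQ H R))
        = Nat.card ↥(WW V H R ⊓ fx V B) * (Nat.card ↥(B ⊓ QQ H R) * Nat.card ↥(fx V (B ⊓ QQ H R))) := by ring
      _ ≤ Nat.card ↥(WW V H R ⊓ fx V B) * (Nat.card ↥(fx V B) * Nat.card B) := Nat.mul_le_mul_left _ h2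
      _ = Nat.card ↥(fx V B) * (Nat.card B * Nat.card ↥(WW V H R ⊓ fx V B)) := by ring
      _ = Nat.card ↥(fx V B) * (Nat.card ↥(WW V H R) * Nat.card ↥(B ⊓ QQ H R)) := by rw [h3]
      _ = Nat.card ↥(B ⊓ QQ H R) * (Nat.card ↥(WW V H R) * Nat.card ↥(fx V B)) := by ring
      _ = Nat.card ↥(B ⊓ QQ H R) * (Nat.card ↥(WW V H R ⊔ fx V B) * Nat.card ↥(WW V H R ⊓ fx V B)) := by rw [h4]
      _ = _ := by ring

/-- `W^t ≤ E_B` for members `B ≤ R` -/
theorem tW_le_Ee (hE : WE V U H R) {B : Subgroup Y} (hB : B ∈ U) (hBR : B ≤ R) : t • WW V H R ≤ Ee V B := by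
  have h1 : MulAut.conj t⁻¹ • B ≤ R := by
    intro y hy
    rw [mem_conj, inv_inv] at hy
    have h2 := a.symm_smul (hBR hy)
    have e : t⁻¹ * (t * y * t⁻¹) * t = y := by group
    rwa [e] at h2
  have h2 := hE _ (h.cls.conj B hB t⁻¹) h1
  rw [Ee_conj] at h2
  have h3 := smul_le_smul_as (g := t) h2
  rwa [smul_smul_as t t⁻¹, mul_inv_cancel, one_smul] at h3

theorem WW_ne_bot [Finite V] : WW V H R ≠ ⊥ := by
  intro h1
  obtain ⟨z, hz0, hz⟩ := exists_z a h
  have h2 : z ∈ WW V H R := fx_le_WW (fx_mono a.RT hz)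
  rw [h1] at h2
  exact hz0 h2

/-- **(*)** of #19584 (2) -/
theorem star [Finite Y] [Finite V] (hE : WE V U H R) {B : Subgroup Y} (hB : B ∈ U) (hBH : B ≤ H) (hBM : ¬ B ≤ M) :
    ∃ b ∈ B ⊓ QQ H R, b ∉ MulAut.conj t • QQ H R := by
  by_contra hcon
  push Not at hcon
  have hm := h.cls.mem B hB
  -- `W^t ≤ C_V(B₁) = W + F_B`
  have h1 : t • WW V H R ≤ WW V H R ⊔ fx V B := by
    rw [← fx_eq a h hE hB hBH]
    intro v hv b hb
    rw [mem_smul_as] at hv
    have h2 := hcon b hb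
    rw [mem_conj] at h2
    have h3 := QQ_fix a h h2 hv
    rw [mul_smul, mul_smul, smul_inv_smul, inv_smul_eq_iff, smul_inv_smul] at h3
    exact h3
  set N := WW V H R ⊔ t • WW V H R with hN
  have hNB : ∀ b ∈ B, ∀ v ∈ N, b • v ∈ N := by
    intro b hb v hv
    rw [hN, AddSubgroup.mem_sup] at hv
    obtain ⟨x, hx, y, hy, rfl⟩ := hv
    rw [smul_add]
    refine N.add_mem ((le_sup_left : WW V H R ≤ N) (smul_mem_WW (hBH hb) hx)) ?_
    have h2 := h1 hy
    rw [AddSubgroup.mem_sup] at h2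
    obtain ⟨w, hw, f, hf, hwf⟩ := h2
    have h3 : b • y = y + (b • w + w) := by
      rw [← hwf, smul_add, hf b hb]
      have e : w + f + (b • w + w) = b • w + f + (w + w) := by abel
      rw [e, h.two, add_zero]
    rw [h3]
    refine N.add_mem ((le_sup_right : t • WW V H R ≤ N) hy) ((le_sup_left : WW V H R ≤ N) ?_)
    exact add_mem (smul_mem_WW (hBH hb) hw) hw
  have hNR : ∀ r ∈ R, ∀ v ∈ N, r • v ∈ N := by
    intro r hr v hv
    rw [hN, AddSubgroup.mem_sup] at hv
    obtain ⟨x, hx, y, hy, rfl⟩ := hv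
    rw [smul_add]
    refine N.add_mem ((le_sup_left : WW V H R ≤ N) (smul_mem_WW (a.RH hr) hx)) ((le_sup_right : t • WW V H R ≤ N) ?_)
    rw [mem_smul_as] at hy ⊢
    have h2 := smul_mem_WW (a.RH (a.symm_smul hr)) hy
    rwa [mul_smul, mul_smul, smul_inv_smul] at h2
  have hNt : ∀ v ∈ N, t • v ∈ N := by
    intro v hv
    rw [hN, AddSubgroup.mem_sup] at hv
    obtain ⟨x, hx, y, hy, rfl⟩ := hv
    rw [smul_add, add_comm]
    refine N.add_mem ((le_sup_left : WW V H R ≤ N) ?_) ((le_sup_right : t • WW V H R ≤ N) ?_)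
    · rw [mem_smul_as] at hy
      have h2 := smul_mem_WW (a.RH a.t_sq) hy
      rwa [mul_smul, smul_inv_smul] at h2
    · exact smul_mem_smul_as hx
  have hNH : ∀ x ∈ H, ∀ v ∈ N, x • v ∈ N := by
    let K : Subgroup Y :=
      { carrier := {x | ∀ v ∈ N, x • v ∈ N ∧ x⁻¹ • v ∈ N}
        one_mem' := fun v hv => by rw [inv_one, one_smul]; exact ⟨hv, hv⟩
        mul_mem' := fun {x y} hx hy v hv => by
          rw [mul_inv_rev, mul_smul, mul_smul]
          exact ⟨(hx _ (hy v hv).1).1, (hy _ (hx v hv).2).2⟩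
        inv_mem' := fun {x} hx v hv => by
          rw [inv_inv]
          exact ⟨(hx v hv).2, (hx v hv).1⟩ }
    have h2 : H ≤ K := by
      rw [← a.gen hBH hBM]
      exact sup_le (fun r hr v hv => ⟨hNR r hr v hv, hNR _ (R.inv_mem hr) v hv⟩)
        (fun b hb v hv => ⟨hNB b hb v hv, hNB _ (B.inv_mem hb) v hv⟩)
    exact fun x hx v hv => (h2 hx v hv).1
  rcases no_sub a h hNH hNt with h2 | h2
  · apply WW_ne_bot a h
    rw [eq_bot_iff, ← h2]
    exact le_sup_left
  · obtain ⟨B₀, hB₀, hB₀R⟩ := a.memR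
    exact h2 B₀ hB₀ (sup_le (hE B₀ hB₀ hB₀R) (tW_le_Ee a h hE hB₀ hB₀R))

end Amal

end Cfsg.Agent.Omega.NO1.TH

end

section


/-!
# N1, the amalgam `(H, H^t)`, case `k = 1` (bb OMEGA 20297, helper503): the hypotheses

`R = T_H`, `W = WW V H R`, `Q = QQ H R = C_R(W)`, `D = C_W(O²(H))`, `W₁ / D` the fixed points of the root group in
the natural module `W / D`, `P = C_R(W₁ / D)` the preimage of the root group.  Field automorphisms in `R / Q` are
allowed.  `TwoK` : both sides `H`, `H' = H^t`.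
-/

set_option autoImplicit false
set_option linter.unusedSectionVars false

namespace Cfsg.Agent.Omega.NO1.TH

open Subgroup Cfsg.Agent.Omega.NO1.AB
open scoped Pointwise

universe u

variable {Y : Type u} [Group Y]

/-- an elementary abelian subgroup -/
def ElAb (A : Subgroup Y) : Prop := (∀ a ∈ A, ∀ b ∈ A, a * b = b * a) ∧ ∀ a ∈ A, a * a = 1

/-- `W / D` is a natural `SL₂(c)`-module for `H`, `R / Q` a root group with field automorphisms. -/
structure KOne (V : Type u) [AddCommGroup V] [DistribMulAction Y V] (U : Set (Subgroup Y)) (M H R P : Subgroup Y)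
    (D W₁ : AddSubgroup V) (c : ℕ) : Prop where
  two_le : 2 ≤ c
  DW : D ≤ W₁
  W₁W : W₁ ≤ WW V H R
  D_H : ∀ x ∈ H, ∀ w ∈ D, x • w ∈ D
  W₁_R : ∀ x ∈ R, ∀ w ∈ W₁, x • w ∈ W₁
  QP : QQ H R ≤ P
  PR : P ≤ R
  mem_P : ∀ x ∈ R, (∀ w ∈ W₁, x • w + w ∈ D) → x ∈ P
  P_fix : ∀ x ∈ P, ∀ w ∈ W₁, x • w = w
  P_comm : ∀ x ∈ P, ∀ w ∈ WW V H R, x • w + w ∈ W₁
  free : ∀ x ∈ P, ∀ w ∈ WW V H R, w ∉ W₁ → x • w + w ∈ D → x ∈ QQ H R
  onto : ∀ w ∈ WW V H R, w ∉ W₁ → ∀ v ∈ W₁, ∃ x ∈ P, x • w + w + v ∈ D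
  card_W : Nat.card ↥(WW V H R) = c * Nat.card W₁
  card_W₁ : Nat.card W₁ = c * Nat.card D
  card_P : Nat.card P = c * Nat.card ↥(QQ H R)
  /-- `C_D(R) = C_V(H)` -/
  D_fix : ∀ w ∈ D, (∀ r ∈ R, r • w = w) → ∀ x ∈ H, x • w = w
  /-- the points of `W / D` -/
  opp : ∀ x ∈ H, x ∉ M → ∀ w ∈ W₁, x • w ∈ W₁ → w ∈ D
  stab : ∀ x ∈ H, x ∈ M → ∀ w ∈ W₁, x • w ∈ W₁
  /-- members -/
  cover : ∀ B ∈ U, B ≤ R → ¬ B ≤ QQ H R → B ≤ P ∧ P ≤ B ⊔ QQ H R
  /-- no over-offender; exact offenders; elementary abelian subgroups of `R / Q` -/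
  noOver : ∀ A ≤ R, ElAb A → Nat.card A * Nat.card ↥(fx V A ⊓ WW V H R) ≤
    Nat.card ↥(A ⊓ QQ H R) * Nat.card ↥(WW V H R)
  exactOff : ∀ A ≤ R, ElAb A → ¬ A ≤ QQ H R → Nat.card ↥(A ⊓ QQ H R) * Nat.card ↥(WW V H R) ≤
    Nat.card A * Nat.card ↥(fx V A ⊓ WW V H R) → A ≤ P ∧ P ≤ A ⊔ QQ H R
  ea : ∀ A ≤ R, ElAb A → Nat.card A ≤ c * Nat.card ↥(A ⊓ QQ H R)
  fld : ∀ A ≤ R, ElAb A → ¬ A ≤ P → Nat.card A = c * Nat.card ↥(A ⊓ QQ H R) →
    c = 4 ∧ ¬ A ⊓ P ≤ QQ H R ∧ Nat.card R ≤ 2 * Nat.card P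

variable {V : Type u} [AddCommGroup V] [DistribMulAction Y V]

/-! ### Transport with `t` -/

theorem conj_t_mem_QQ {H H' R : Subgroup Y} {t : Y} (htR : ∀ r ∈ R, t * r * t⁻¹ ∈ R)
    (h1 : ∀ x ∈ H', t⁻¹ * x * t ∈ H) {q : Y} (hq : q ∈ QQ H R) : t * q * t⁻¹ ∈ QQ H' R := by
  intro x hx
  have h2 := htR _ (hq _ (h1 x hx))
  have e : t * (t⁻¹ * x * t * q * (t⁻¹ * x * t)⁻¹) * t⁻¹ = x * (t * q * t⁻¹) * x⁻¹ := by group
  rwa [e] at h2

theorem QQ_conj {H R : Subgroup Y} {t : Y} (h1 : ∀ r ∈ R, t * r * t⁻¹ ∈ R) (h2 : ∀ r ∈ R, t⁻¹ * r * t ∈ R) :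
    QQ (MulAut.conj t • H) R = MulAut.conj t • QQ H R := by
  ext y
  rw [mem_conj]
  constructor
  · intro h x hx
    have h3 := h2 _ (h _ (conj_mem_conj (g := t) hx))
    have e : t⁻¹ * (t * x * t⁻¹ * y * (t * x * t⁻¹)⁻¹) * t = x * (t⁻¹ * y * t) * x⁻¹ := by group
    rwa [e] at h3
  · intro h
    have h3 := conj_t_mem_QQ (H' := MulAut.conj t • H) h1 (fun x hx => by rwa [mem_conj] at hx) h
    have e : t * (t⁻¹ * y * t) * t⁻¹ = y := by group
    rwa [e] at h3

theorem WW_conj {H R : Subgroup Y} {t : Y} (h1 : ∀ v ∈ fx V R, t • v ∈ fx V R) (h2 : ∀ v ∈ fx V R, t⁻¹ • v ∈ fx V R) :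
    WW V (MulAut.conj t • H) R = t • WW V H R := by
  apply le_antisymm
  · apply WW_le
    intro x hx w hw
    rw [mem_conj] at hx
    rw [mem_smul_as]
    have e : t⁻¹ • x • w = (t⁻¹ * x * t) • (t⁻¹ • w) := by
      rw [← mul_smul, ← mul_smul]; congr 1; group
    rw [e]
    exact smul_mem_WW hx (fx_le_WW (h2 w hw))
  · intro v hv
    rw [mem_smul_as] at hv
    have key : ∀ w ∈ WW V H R, t • w ∈ WW V (MulAut.conj t • H) R := by
      intro w hw
      induction hw using AddSubgroup.closure_induction with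
      | mem v hv =>
        obtain ⟨x, hx, w, hw, rfl⟩ := hv
        have e : t • x • w = (t * x * t⁻¹) • (t • w) := by
          rw [← mul_smul, ← mul_smul]; congr 1; group
        rw [e]
        exact smul_mem_WW (conj_mem_conj hx) (fx_le_WW (h1 w hw))
      | zero => rw [smul_zero]; exact zero_mem _
      | add a b _ _ h3 h4 => rw [smul_add]; exact add_mem h3 h4
      | neg a _ h3 => rw [smul_neg]; exact neg_mem h3
    have := key _ hv
    rwa [smul_inv_smul] at this

/-- `(H^t, R, t)` is again an amalgam -/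
theorem Amal.conj_t {U : Set (Subgroup Y)} {T : Sylow 2 Y} {M H R : Subgroup Y} {t : Y} (hc : Cls V U)
    (hTM : (T : Subgroup Y) ≤ M) (a : Amal U T M H R t) : Amal U T M (MulAut.conj t • H) R t where
  bad := a.bad.conj hc t
  RH := fun r hr => by
    rw [mem_conj]
    exact a.RH (a.symm_smul hr)
  RT := a.RT
  memR := a.memR
  le_card := a.le_card
  one := a.one
  uniq := fun X hRX hXH => by
    have h1 : MulAut.conj t⁻¹ • X ≤ M := by
      apply a.uniq
      · intro r hr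
        rw [mem_conj, inv_inv]
        exact hRX (a.t_norm r hr)
      · refine lt_of_le_of_ne ?_ ?_
        · rw [conj_le_iff, inv_inv]
          exact hXH.le
        · intro h2
          apply hXH.ne
          rw [← h2, conj_inv_smul]
    have htM : t ∈ M := hTM a.t_T
    intro y hy
    have h2 := h1 (conj_mem_conj (g := t⁻¹) hy)
    have h3 := M.mul_mem (M.mul_mem htM h2) (M.inv_mem htM)
    have e : t * (t⁻¹ * y * t⁻¹⁻¹) * t⁻¹ = y := by group
    rwa [e] at h3
  t_T := a.t_T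
  t_not := a.t_not
  t_sq := a.t_sq
  t_norm := a.t_norm
  top := by
    rw [eq_top_iff, ← a.top]
    have ht : t ∈ MulAut.conj t • H ⊔ zpowers t := mem_sup_right (mem_zpowers t)
    refine sup_le ?_ le_sup_right
    intro x hx
    have h1 : t * x * t⁻¹ ∈ MulAut.conj t • H ⊔ zpowers t := mem_sup_left (conj_mem_conj hx)
    have h2 := mul_mem (mul_mem (inv_mem ht) h1) ht
    have e : t⁻¹ * (t * x * t⁻¹) * t = x := by group
    rwa [e] at h2

/-! ### Transport of `KOne` -/

theorem mem_conj_of_smul {A : Subgroup Y} {t x : Y} (hx : t⁻¹ * x * t ∈ A) : x ∈ MulAut.conj t • A := mem_conj.2 hx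

theorem ElAb.conj {A : Subgroup Y} (h : ElAb A) (g : Y) : ElAb (MulAut.conj g • A) := by
  refine ⟨fun a ha b hb => ?_, fun a ha => ?_⟩
  · rw [mem_conj] at ha hb
    have h1 := h.1 _ ha _ hb
    have e1 : g⁻¹ * a * g * (g⁻¹ * b * g) = g⁻¹ * (a * b) * g := by group
    have e2 : g⁻¹ * b * g * (g⁻¹ * a * g) = g⁻¹ * (b * a) * g := by group
    rw [e1, e2] at h1
    exact mul_left_cancel (mul_right_cancel h1)
  · rw [mem_conj] at ha
    have h1 := h.2 _ ha
    have e1 : g⁻¹ * a * g * (g⁻¹ * a * g) = g⁻¹ * (a * a) * g := by group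
    rw [e1] at h1
    have h2 : g * (g⁻¹ * (a * a) * g) * g⁻¹ = g * 1 * g⁻¹ := by rw [h1]
    have e2 : g * (g⁻¹ * (a * a) * g) * g⁻¹ = a * a := by group
    rw [e2] at h2
    rw [h2]; group

theorem ElAb.mono {A B : Subgroup Y} (h : ElAb A) (hBA : B ≤ A) : ElAb B :=
  ⟨fun a ha b hb => h.1 a (hBA ha) b (hBA hb), fun a ha => h.2 a (hBA ha)⟩

theorem Mem.elAb {A : Subgroup Y} {E F : AddSubgroup V} (h : Mem A E F) : ElAb A := ⟨h.comm, h.sq⟩

theorem conj_inf (g : Y) (A B : Subgroup Y) : MulAut.conj g • (A ⊓ B) = MulAut.conj g • A ⊓ MulAut.conj g • B := by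
  ext y
  simp only [mem_conj, mem_inf]

theorem smul_inf_as (g : Y) (A B : AddSubgroup V) : g • (A ⊓ B) = g • A ⊓ g • B := by
  ext y
  simp only [mem_smul_as, AddSubgroup.mem_inf]

/-- the orders in `noOver` etc. after conjugation with `t⁻¹` -/
theorem card_inf_conj (t : Y) (A Q : Subgroup Y) :
    Nat.card ↥(MulAut.conj t⁻¹ • A ⊓ Q) = Nat.card ↥(A ⊓ MulAut.conj t • Q) := by
  rw [← conj_card t (MulAut.conj t⁻¹ • A ⊓ Q), conj_inf, conj_inv_smul]

theorem card_fx_conj (t : Y) (A : Subgroup Y) (W : AddSubgroup V) :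
    Nat.card ↥(fx V (MulAut.conj t⁻¹ • A) ⊓ W) = Nat.card ↥(fx V A ⊓ t • W) := by
  rw [fx_conj, ← card_smul_as t (t⁻¹ • fx V A ⊓ W), smul_inf_as, smul_smul_as, mul_inv_cancel, one_smul]

theorem conj_le_conj_iff {H K : Subgroup Y} (g : Y) : MulAut.conj g • H ≤ MulAut.conj g • K ↔ H ≤ K := by
  constructor
  · intro h y hy
    have := h (conj_mem_conj (g := g) hy)
    rw [mem_conj] at this
    have e : g⁻¹ * (g * y * g⁻¹) * g = y := by group
    rwa [e] at this
  · exact conj_le_conj g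

theorem KOne.conj_t [Finite Y] {U : Set (Subgroup Y)} {T : Sylow 2 Y} {M H R P : Subgroup Y} {D W₁ : AddSubgroup V}
    {c : ℕ} {t : Y} (amb : Amb V U T M) (a : Amal U T M H R t) (k : KOne V U M H R P D W₁ c) :
    KOne V U M (MulAut.conj t • H) R (MulAut.conj t • P) (t • D) (t • W₁) c := by
  have hQ : QQ (MulAut.conj t • H) R = MulAut.conj t • QQ H R := QQ_conj a.t_norm fun r hr => a.symm_smul hr
  have hW : WW V (MulAut.conj t • H) R = t • WW V H R := WW_conj (fun v => a.smul_V0) fun v => a.smul_V0'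
  have htM : t ∈ M := amb.TM a.t_T
  have hsm : ∀ {x : Y} {v : V}, t⁻¹ • x • v = (t⁻¹ * x * t) • t⁻¹ • v := by
    intro x v
    rw [← mul_smul, ← mul_smul]; congr 1; group
  have hRR : MulAut.conj t⁻¹ • R ≤ R := by
    intro y hy
    rw [mem_conj, inv_inv] at hy
    have h1 := a.symm_smul hy
    have e : t⁻¹ * (t * y * t⁻¹) * t = y := by group
    rwa [e] at h1
  have hRt : MulAut.conj t • R = R := by
    apply eq_of_le_of_card_ge
    · intro y hy
      rw [mem_conj] at hy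
      have h1 := a.t_norm _ hy
      have e : t * (t⁻¹ * y * t) * t⁻¹ = y := by group
      rwa [e] at h1
    · rw [conj_card]
  have hA : ∀ A : Subgroup Y, A ≤ R → MulAut.conj t⁻¹ • A ≤ R := fun A hA => (conj_le_conj _ hA).trans hRR
  have hle : ∀ {A K : Subgroup Y}, MulAut.conj t⁻¹ • A ≤ K ↔ A ≤ MulAut.conj t • K := by
    intro A K
    rw [conj_le_iff, inv_inv]
  refine
    { two_le := k.two_le
      DW := smul_le_smul_as k.DW
      W₁W := by rw [hW]; exact smul_le_smul_as k.W₁W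
      D_H := fun x hx w hw => ?_
      W₁_R := fun x hx w hw => ?_
      QP := by rw [hQ]; exact conj_le_conj t k.QP
      PR := fun x hx => ?_
      mem_P := fun x hx hw => ?_
      P_fix := fun x hx w hw => ?_
      P_comm := fun x hx w hw => ?_
      free := fun x hx w hw hw1 h1 => ?_
      onto := fun w hw hw1 v hv => ?_
      card_W := by rw [hW, card_smul_as, card_smul_as]; exact k.card_W
      card_W₁ := by rw [card_smul_as, card_smul_as]; exact k.card_W₁
      card_P := by rw [hQ, conj_card, conj_card]; exact k.card_P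
      D_fix := fun w hw hR x hx => ?_
      opp := fun x hx hxM w hw h1 => ?_
      stab := fun x hx hxM w hw => ?_
      cover := fun B hB hBR hBQ => ?_
      noOver := fun A hAR hel => ?_
      exactOff := fun A hAR hel hAQ h1 => ?_
      ea := fun A hAR hel => ?_
      fld := fun A hAR hel hAP hc => ?_ }
  · rw [mem_conj] at hx
    rw [mem_smul_as] at hw ⊢
    rw [hsm]
    exact k.D_H _ hx _ hw
  · rw [mem_smul_as] at hw ⊢
    rw [hsm]
    exact k.W₁_R _ (a.symm_smul hx) _ hw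
  · rw [← hRt]
    exact conj_le_conj t k.PR hx
  · rw [mem_conj]
    apply k.mem_P _ (a.symm_smul hx)
    intro w hw1
    have h2 := hw _ (smul_mem_smul_as (g := t) hw1)
    rw [mem_smul_as, smul_add, hsm, inv_smul_smul] at h2
    exact h2
  · rw [mem_conj] at hx
    rw [mem_smul_as] at hw
    have h2 := k.P_fix _ hx _ hw
    rw [← hsm, smul_left_cancel_iff] at h2
    exact h2
  · rw [mem_conj] at hx
    rw [hW, mem_smul_as] at hw
    rw [mem_smul_as, smul_add, hsm]
    exact k.P_comm _ hx _ hw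
  · rw [mem_conj] at hx
    rw [hW, mem_smul_as] at hw
    rw [mem_smul_as] at hw1
    rw [mem_smul_as, smul_add, hsm] at h1
    rw [hQ, mem_conj]
    exact k.free _ hx _ hw hw1 h1
  · rw [hW, mem_smul_as] at hw
    rw [mem_smul_as] at hw1 hv
    obtain ⟨x, hx, h1⟩ := k.onto _ hw hw1 _ hv
    refine ⟨t * x * t⁻¹, conj_mem_conj hx, ?_⟩
    rw [mem_smul_as, smul_add, smul_add, hsm]
    have e : t⁻¹ * (t * x * t⁻¹) * t = x := by group
    rw [e]
    exact h1
  · rw [mem_smul_as] at hw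
    rw [mem_conj] at hx
    have h1 := k.D_fix _ hw (fun r hr => by
      have h2 := hR _ (a.t_norm r hr)
      have h3 : t⁻¹ • (t * r * t⁻¹) • w = t⁻¹ • w := by rw [h2]
      rw [hsm] at h3
      have e : t⁻¹ * (t * r * t⁻¹) * t = r := by group
      rwa [e] at h3) _ hx
    rw [← hsm, smul_left_cancel_iff] at h1
    exact h1
  · rw [mem_conj] at hx
    rw [mem_smul_as] at hw h1 ⊢
    rw [hsm] at h1
    refine k.opp _ hx (fun h2 => hxM ?_) _ hw h1
    have h3 := M.mul_mem (M.mul_mem htM h2) (M.inv_mem htM)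
    have e : t * (t⁻¹ * x * t) * t⁻¹ = x := by group
    rwa [e] at h3
  · rw [mem_conj] at hx
    rw [mem_smul_as] at hw ⊢
    rw [hsm]
    exact k.stab _ hx (M.mul_mem (M.mul_mem (M.inv_mem htM) hxM) htM) _ hw
  · have h1 := k.cover _ (amb.cls.conj B hB t⁻¹) (hA B hBR) (fun h2 => hBQ (by rw [hQ, ← hle]; exact h2))
    refine ⟨hle.1 h1.1, ?_⟩
    rw [hQ]
    have h2 := conj_le_conj t h1.2
    rw [smul_sup, conj_inv_smul] at h2
    exact h2
  · have h1 := k.noOver _ (hA A hAR) (hel.conj t⁻¹)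
    rw [conj_card, card_inf_conj, card_fx_conj] at h1
    rw [hQ, hW, card_smul_as]
    exact h1
  · have h2 := k.exactOff _ (hA A hAR) (hel.conj t⁻¹) (fun h2 => hAQ (by rw [hQ, ← hle]; exact h2)) (by
      rw [conj_card, card_inf_conj, card_fx_conj]
      rw [hQ, hW, card_smul_as] at h1
      exact h1)
    refine ⟨hle.1 h2.1, ?_⟩
    rw [hQ]
    have h3 := conj_le_conj t h2.2
    rw [smul_sup, conj_inv_smul] at h3
    exact h3
  · have h1 := k.ea _ (hA A hAR) (hel.conj t⁻¹)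
    rw [conj_card, card_inf_conj] at h1
    rw [hQ]
    exact h1
  · have h1 := k.fld _ (hA A hAR) (hel.conj t⁻¹) (fun h2 => hAP (hle.1 h2)) (by
      rw [conj_card, card_inf_conj]
      rw [hQ] at hc
      exact hc)
    refine ⟨h1.1, fun h2 => h1.2.1 ?_, by rw [conj_card]; exact h1.2.2⟩
    rw [hQ] at h2
    have h3 := conj_le_conj t⁻¹ h2
    rw [conj_inf] at h3
    have e : MulAut.conj t⁻¹ • MulAut.conj t • QQ H R = QQ H R := conj_inv_smul' t _
    have e2 : MulAut.conj t⁻¹ • MulAut.conj t • P = P := conj_inv_smul' t _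
    rwa [e, e2] at h3

/-- Both sides of the amalgam, `H' = H^t`; `WE` : no member in `R` of type ALPHA (#20114). -/
structure TwoK (V : Type u) [AddCommGroup V] [DistribMulAction Y V] (U : Set (Subgroup Y)) (T : Sylow 2 Y)
    (M H H' R P P' : Subgroup Y) (D D' W₁ W₁' : AddSubgroup V) (c : ℕ) (t : Y) : Prop where
  amb : Amb V U T M
  a : Amal U T M H R t
  a' : Amal U T M H' R t
  k : KOne V U M H R P D W₁ c
  k' : KOne V U M H' R P' D' W₁' c
  H'_eq : H' = MulAut.conj t • H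
  H_eq : H = MulAut.conj t • H'
  P'_eq : P' = MulAut.conj t • P
  P_eq : P = MulAut.conj t • P'
  W₁'_eq : W₁' = t • W₁
  W₁_eq : W₁ = t • W₁'
  D'_eq : D' = t • D
  D_eq : D = t • D'
  we : WE V U H R
  we' : WE V U H' R

theorem TwoK.swap {U : Set (Subgroup Y)} {T : Sylow 2 Y} {M H H' R P P' : Subgroup Y} {D D' W₁ W₁' : AddSubgroup V}
    {c : ℕ} {t : Y} (h : TwoK V U T M H H' R P P' D D' W₁ W₁' c t) :
    TwoK V U T M H' H R P' P D' D W₁' W₁ c t where
  amb := h.amb
  a := h.a'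
  a' := h.a
  k := h.k'
  k' := h.k
  H'_eq := h.H_eq
  H_eq := h.H'_eq
  P'_eq := h.P_eq
  P_eq := h.P'_eq
  W₁'_eq := h.W₁_eq
  W₁_eq := h.W₁'_eq
  D'_eq := h.D_eq
  D_eq := h.D'_eq
  we := h.we'
  we' := h.we

theorem conj_of_mem [Finite Y] {K : Subgroup Y} {x : Y} (hx : ∀ k ∈ K, x * k * x⁻¹ ∈ K) : MulAut.conj x • K = K := by
  apply eq_of_le_of_card_ge
  · intro y hy
    rw [mem_conj] at hy
    have h1 := hx _ hy
    have e : x * (x⁻¹ * y * x) * x⁻¹ = y := by group
    rwa [e] at h1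
  · rw [conj_card]

theorem smul_of_mem [Finite V] {W : AddSubgroup V} {x : Y} (hx : ∀ w ∈ W, x • w ∈ W) : x • W = W := by
  apply eq_of_le_as
  · intro v hv
    rw [mem_smul_as] at hv
    have := hx _ hv
    rwa [smul_inv_smul] at this
  · rw [card_smul_as]

/-- `P ⊴ R` -/
theorem KOne.P_norm (h2 : ∀ v : V, v + v = 0) {U : Set (Subgroup Y)} {M H R P : Subgroup Y} {D W₁ : AddSubgroup V}
    {c : ℕ} (k : KOne V U M H R P D W₁ c) {x p : Y} (hx : x ∈ R) (hp : p ∈ P) : x * p * x⁻¹ ∈ P := by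
  apply k.mem_P _ (mul_mem (mul_mem hx (k.PR hp)) (inv_mem hx))
  intro w hw
  have h1 := k.P_fix _ hp _ (k.W₁_R _ (R.inv_mem hx) _ hw)
  have e : (x * p * x⁻¹) • w = x • p • x⁻¹ • w := by rw [← mul_smul, ← mul_smul, mul_assoc]
  rw [e, h1, smul_inv_smul, h2]
  exact zero_mem _

theorem KOne.twoK [Finite Y] [Finite V] {U : Set (Subgroup Y)} {T : Sylow 2 Y} {M H R P : Subgroup Y}
    {D W₁ : AddSubgroup V} {c : ℕ} {t : Y} (amb : Amb V U T M) (a : Amal U T M H R t)
    (k : KOne V U M H R P D W₁ c) (we : WE V U H R) :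
    TwoK V U T M H (MulAut.conj t • H) R P (MulAut.conj t • P) D (t • D) W₁ (t • W₁) c t where
  amb := amb
  a := a
  a' := a.conj_t amb.cls amb.TM
  k := k
  k' := k.conj_t amb a
  H'_eq := rfl
  H_eq := by
    rw [conj_smul_smul]
    exact (conj_of_mem fun x hx => H.mul_mem (H.mul_mem (a.RH a.t_sq) hx) (H.inv_mem (a.RH a.t_sq))).symm
  P'_eq := rfl
  P_eq := by
    rw [conj_smul_smul]
    exact (conj_of_mem fun x hx => k.P_norm amb.two a.t_sq hx).symm
  W₁'_eq := rfl
  W₁_eq := by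
    rw [smul_smul_as]
    exact (smul_of_mem fun w hw => k.W₁_R _ a.t_sq w hw).symm
  D'_eq := rfl
  D_eq := by
    rw [smul_smul_as]
    exact (smul_of_mem fun w hw => k.D_H _ (a.RH a.t_sq) w hw).symm
  we := we
  we' := fun B hB hBR => by
    rw [WW_conj (fun v => a.smul_V0) fun v => a.smul_V0']
    exact a.tW_le_Ee amb we hB hBR

namespace TwoK

variable [Finite Y] [Finite V] {U : Set (Subgroup Y)} {T : Sylow 2 Y} {M H H' R P P' : Subgroup Y}
  {D D' W₁ W₁' : AddSubgroup V} {c : ℕ} {t : Y} (h : TwoK V U T M H H' R P P' D D' W₁ W₁' c t)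
include h

theorem W'_eq : WW V H' R = t • WW V H R := by
  rw [h.H'_eq]
  exact WW_conj (fun v => h.a.smul_V0) fun v => h.a.smul_V0'

theorem Q'_eq : QQ H' R = MulAut.conj t • QQ H R := by
  rw [h.H'_eq]
  exact QQ_conj h.a.t_norm fun r hr => h.a.symm_smul hr

/-- **(*)** -/
theorem star {B : Subgroup Y} (hB : B ∈ U) (hBH : B ≤ H) (hBM : ¬ B ≤ M) :
    ∃ b ∈ B ⊓ QQ H R, b ∉ QQ H' R := by
  rw [h.Q'_eq]
  exact h.a.star h.amb h.we hB hBH hBM

end TwoK

end Cfsg.Agent.Omega.NO1.TH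

end

section


/-!
# N1, the amalgam `(H, H^t)`, `k = 1`: THE END (bb OMEGA 20530, 20698, 21741): the hypotheses

`Side` : one side `H`; `B` is the only member in `R`, `Q = O₂(H)`, `N = [V, Q]` a natural `SL₂(c)`-module,
`I = N ∩ F_B`.  `EndS` : both sides.  `EndB.lean` deduces `EndS` from `TwoK` and `TwoK.main`, `TwoK.main_top`.
-/

set_option autoImplicit false
set_option linter.unusedSectionVars false

namespace Cfsg.Agent.Omega.NO1.TH

open Subgroup Cfsg.Agent.Omega.NO1.AB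
open scoped Pointwise

universe u

variable {Y : Type u} [Group Y]

/-- one side of `EndS` -/
structure Side (V : Type u) [AddCommGroup V] [DistribMulAction Y V] (U : Set (Subgroup Y)) (M H B Q : Subgroup Y)
    (N I : AddSubgroup V) (c : ℕ) : Prop where
  QB : Q ≤ B
  card_Q : Nat.card Q = c
  Q_H : ∀ x ∈ H, ∀ q ∈ Q, x * q * x⁻¹ ∈ Q
  /-- `Q` is in every member in `H` -/
  Q_le : ∀ A ∈ U, A ≤ H → Q ≤ A
  N_H : ∀ x ∈ H, ∀ n ∈ N, x • n ∈ N
  card_N : Nat.card N = c * c
  card_I : Nat.card I = c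
  I_eq : N ⊓ fx V B = I
  /-- `[V, q] = N`, `C_V(q) = N + F_B` for `1 ≠ q ∈ Q` -/
  comm : ∀ q ∈ Q, ∀ v : V, q • v + v ∈ N
  onto : ∀ q ∈ Q, q ≠ 1 → ∀ n ∈ N, ∃ v : V, q • v + v = n
  cent : ∀ q ∈ Q, q ≠ 1 → ∀ v : V, q • v = v → v ∈ N ⊔ fx V B
  fix : ∀ q ∈ Q, ∀ n ∈ N, q • n = n
  /-- the members `A` in `H` -/
  NF : ∀ A ∈ U, A ≤ H → N ⊔ fx V A = N ⊔ fx V B
  card_pt : ∀ A ∈ U, A ≤ H → Nat.card ↥(N ⊓ fx V A) = c
  comm_A : ∀ A ∈ U, A ≤ H → ∀ a ∈ A, ∀ n ∈ N, a • n + n ∈ fx V A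
  reg : ∀ A ∈ U, A ≤ H → ∀ n ∈ N, n ∉ fx V A → ∀ i ∈ N ⊓ fx V A, ∃ a ∈ A, a • n + n = i
  free : ∀ A ∈ U, A ≤ H → ∀ a ∈ A, ∀ n ∈ N, n ∉ fx V A → a • n = n → a ∈ Q
  pt : ∀ A ∈ U, A ≤ H → ∀ A₂ ∈ U, A₂ ≤ H → N ⊓ fx V A = N ⊓ fx V A₂ ∨ N ⊓ fx V A ⊓ fx V A₂ = ⊥
  le_M : ∀ A ∈ U, A ≤ H → (A ≤ M ↔ N ⊓ fx V A = I)
  opp : ∃ A ∈ U, A ≤ H ∧ ¬ A ≤ M
  /-- a 2-element of `H` trivial on `N` and on the common fixed points of the members in `H` is in `Q` -/
  ker : ∀ x ∈ H, (∃ k : ℕ, x ^ 2 ^ k = 1) → (∀ n ∈ N, x • n = n) →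
    (∀ v : V, (∀ A ∈ U, A ≤ H → v ∈ fx V A) → x • v = v) → x ∈ Q

/-- Both sides: `R` has exactly one member `B`, `B = Q × Q'`, `N ∩ N' = I = N ∩ F_B`, `E_B = N + N' + F_B`. -/
structure EndS (V : Type u) [AddCommGroup V] [DistribMulAction Y V] (U : Set (Subgroup Y)) (T : Sylow 2 Y)
    (M H H' R B Q Q' : Subgroup Y) (N N' I : AddSubgroup V) (c : ℕ) (t : Y) : Prop where
  amb : Amb V U T M
  a : Amal U T M H R t
  a' : Amal U T M H' R t
  four : 4 ≤ c
  s : Side V U M H B Q N I c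
  s' : Side V U M H' B Q' N' I c
  H'_eq : H' = MulAut.conj t • H
  H_eq : H = MulAut.conj t • H'
  Q'_eq : Q' = MulAut.conj t • Q
  Q_eq : Q = MulAut.conj t • Q'
  N'_eq : N' = t • N
  N_eq : N = t • N'
  hB : B ∈ U
  BR : B ≤ R
  /-- `B` is the only member in `R` -/
  uniq : ∀ A ∈ U, A ≤ R → A = B
  /-- `t` normalises `B` -/
  tB : ∀ b ∈ B, t * b * t⁻¹ ∈ B
  QQ' : Q ⊓ Q' = ⊥
  mul : ∀ b ∈ B, ∃ q ∈ Q, ∃ q' ∈ Q', b = q * q'
  NN' : N ⊓ N' = I
  E_eq : Ee V B = N ⊔ N' ⊔ fx V B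
  /-- `C_R(I) = B` -/
  P_eq : ∀ r ∈ R, (∀ i ∈ I, r • i = i) → r ∈ B
  card_V : Nat.card V = c * Nat.card ↥(Ee V B)

theorem EndS.swap {V : Type u} [AddCommGroup V] [DistribMulAction Y V] {U : Set (Subgroup Y)} {T : Sylow 2 Y}
    {M H H' R B Q Q' : Subgroup Y} {N N' I : AddSubgroup V} {c : ℕ} {t : Y}
    (h : EndS V U T M H H' R B Q Q' N N' I c t) (hQ : ∀ q ∈ Q, ∀ q' ∈ Q', q * q' = q' * q) :
    EndS V U T M H' H R B Q' Q N' N I c t where
  amb := h.amb
  a := h.a'
  a' := h.a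
  four := h.four
  s := h.s'
  s' := h.s
  H'_eq := h.H_eq
  H_eq := h.H'_eq
  Q'_eq := h.Q_eq
  Q_eq := h.Q'_eq
  N'_eq := h.N_eq
  N_eq := h.N'_eq
  hB := h.hB
  BR := h.BR
  uniq := h.uniq
  tB := h.tB
  QQ' := by rw [inf_comm]; exact h.QQ'
  mul := fun b hb => by
    obtain ⟨q, hq, q', hq', rfl⟩ := h.mul b hb
    exact ⟨q', hq', q, hq, hQ q hq q' hq'⟩
  NN' := by rw [inf_comm]; exact h.NN'
  E_eq := by rw [h.E_eq, sup_comm N N']
  P_eq := h.P_eq
  card_V := h.card_V

end Cfsg.Agent.Omega.NO1.TH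

end

section


/-!
# N1, the amalgam `(H, H^t)`, natural type with `k` factors (bb OMEGA 20646, helper247): the hypotheses

`W = WW V H R`, `Q = QQ H R`, `W / D₀` the direct sum of `k` natural `SL₂(F)`-modules, `co : V → Fin k → Fin 2 → F`
the coordinates (meaningful on `W` only), `D₀ = {w ∈ W | co w = 0}`, `WR = {w ∈ W | co w i 1 = 0 for all i}`.
Field automorphisms are allowed.  `KNat` follows from `AbsNat` (`exists_KNat`), `TwoN` : both sides `H`, `H' = H^t`.
-/

set_option autoImplicit false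
set_option linter.unusedSectionVars false
set_option linter.dupNamespace false

namespace Cfsg.Agent.Omega.NO1.TH.K

open Subgroup Cfsg.Agent.Omega.NO1.AB Cfsg.Agent.Omega.FFBr Cfsg.Agent.Lib.SL2Mat
open Cfsg.Agent.Omega.NatPair (ap)
open scoped Pointwise

universe u

variable {Y : Type u} [Group Y]

/-- `g` acts on `W` as `A ∈ SL₂(F)^k` in the coordinates, and trivially on `D₀ = {co = 0}`. -/
def Acts (V : Type u) [AddCommGroup V] [DistribMulAction Y V] (H R : Subgroup Y) {F : Type} [Field F] {k : ℕ}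
    (co : V → Fin k → Fin 2 → F) (g : Y) (A : Fin k → Matrix.SpecialLinearGroup (Fin 2) F) : Prop :=
  (∀ v ∈ WW V H R, ∀ i, co (g • v) i = ap (A i) (co v i)) ∧ ∀ d ∈ WW V H R, co d = 0 → g • d = d

/-- `W / D₀` is the sum of `k` natural `SL₂(F)`-modules for `H`, `R / Q` = root groups, permutations and field
automorphisms. -/
structure KNat (V : Type u) [AddCommGroup V] [DistribMulAction Y V] (H R : Subgroup Y) (F : Type) [Field F] (k : ℕ)
    (co : V → Fin k → Fin 2 → F) : Prop where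
  add : ∀ v ∈ WW V H R, ∀ w ∈ WW V H R, co (v + w) = co v + co w
  surj : ∀ x, ∃ v ∈ WW V H R, co v = x
  lift : ∀ A : Fin k → Matrix.SpecialLinearGroup (Fin 2) F, ∃ g ∈ H, Acts V H R co g A
  norm : ∀ g ∈ H, ∀ h ∈ H, ∀ A : Fin k → Matrix.SpecialLinearGroup (Fin 2) F,
    (∀ v ∈ WW V H R, ∀ i, co (h • v) i = ap (A i) (co v i)) →
      ∃ B : Fin k → Matrix.SpecialLinearGroup (Fin 2) F,
        ∀ v ∈ WW V H R, ∀ i, co ((g * h * g⁻¹) • v) i = ap (B i) (co v i)
  perm : ∀ g ∈ H, ∃ σ : Equiv.Perm (Fin k), ∀ v ∈ WW V H R, ∀ i, co (g • v) (σ i) = 0 ↔ co v i = 0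
  trans : ∀ i j, ∃ r ∈ R, ∀ v ∈ WW V H R, co (r • v) j = 0 ↔ co v i = 0
  line : ∀ r ∈ R, ∃ σ : Equiv.Perm (Fin k), ∀ v ∈ WW V H R, ∀ i, co (r • v) (σ i) 1 = 0 ↔ co v i 1 = 0
  unip : ∀ b : Fin k → F, ∃ r ∈ R, Acts V H R co r fun i => up (b i)
  gen : ∀ K : Subgroup Y, R ≤ K → K ≤ H → (∀ h ∈ H, ∀ A, Acts V H R co h A → h ∈ K) → K = H
  off : ∀ A ≤ R, ElAb A → ¬ A ≤ QQ H R →
    Nat.card ↥(A ⊓ QQ H R) * Nat.card ↥(WW V H R) ≤ Nat.card A * Nat.card ↥(fx V A ⊓ WW V H R) →
      ∃ I : Set (Fin k),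
        (∀ a ∈ A, ∃ b : Fin k → F, (∀ i, i ∉ I → b i = 0) ∧ Acts V H R co a fun i => up (b i)) ∧
          ∀ b : Fin k → F, (∀ i, i ∉ I → b i = 0) → ∃ a ∈ A, Acts V H R co a fun i => up (b i)
  noOver : ∀ A ≤ R, ElAb A → Nat.card A * Nat.card ↥(fx V A ⊓ WW V H R) ≤
    Nat.card ↥(A ⊓ QQ H R) * Nat.card ↥(WW V H R)
  triv : ∀ r ∈ R, (∀ w ∈ WW V H R, co (r • w + w) = 0) → r ∈ QQ H R
  trivH : ∀ x ∈ H, (∀ w ∈ WW V H R, co (x • w) = co w) → ∀ w ∈ WW V H R, x • w = w

/-- `W_R`: the vectors whose coordinates lie on the fixed lines of the root groups -/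
def WR (V : Type u) [AddCommGroup V] [DistribMulAction Y V] (H R : Subgroup Y) {F : Type} [Field F] {k : ℕ}
    (co : V → Fin k → Fin 2 → F) : Set V := {w | w ∈ WW V H R ∧ ∀ i, co w i 1 = 0}

variable {V : Type u} [AddCommGroup V] [DistribMulAction Y V]

section basic

variable {H R : Subgroup Y} {F : Type} [Field F] {k : ℕ} {co : V → Fin k → Fin 2 → F}

theorem Acts.mul {g h : Y} {A B : Fin k → Matrix.SpecialLinearGroup (Fin 2) F} (hhH : h ∈ H)
    (hg : Acts V H R co g A) (hh : Acts V H R co h B) : Acts V H R co (g * h) (A * B) := by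
  refine ⟨fun v hv i => ?_, fun d hd h0 => ?_⟩
  · rw [mul_smul, hg.1 _ (smul_mem_WW hhH hv), hh.1 v hv, ← NatPair.ap_mul]
    rfl
  · rw [mul_smul, hh.2 d hd h0, hg.2 d hd h0]

theorem Acts.one : Acts V H R co 1 (1 : Fin k → Matrix.SpecialLinearGroup (Fin 2) F) :=
  ⟨fun v _ i => by rw [one_smul]; exact (NatPair.ap_one _).symm, fun d _ _ => one_smul Y d⟩

/-- elements trivial on `W` -/
theorem Acts.of_triv {g : Y} (hg : ∀ w ∈ WW V H R, g • w = w) :
    Acts V H R co g (1 : Fin k → Matrix.SpecialLinearGroup (Fin 2) F) :=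
  ⟨fun v hv i => by rw [hg v hv]; exact (NatPair.ap_one _).symm, fun d hd _ => hg d hd⟩

end basic

/-! ### Derivation from `AbsNat` -/

section derive

variable {H R : Subgroup Y} {F : Type} [Field F] {k : ℕ}

open Classical in
/-- the coordinates -/
noncomputable def coOf (e : Wm V H R → Fin k → Fin 2 → F) (v : V) : Fin k → Fin 2 → F :=
  if h : v ∈ WW V H R then e (Multiplicative.ofAdd ⟨v, h⟩) else 0

theorem coOf_vl (e : Wm V H R → Fin k → Fin 2 → F) (m : Wm V H R) : coOf e (vl V H R m) = e m := by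
  unfold coOf
  rw [dif_pos (vl_mem m)]
  congr 1

variable {P : Subgroup (XH V H R)}

theorem acts_iff (N : AbsNat F P (Wm V H R) k) {g : Y} (hg : g ∈ H)
    (A : Fin k → Matrix.SpecialLinearGroup (Fin 2) F) :
    Acts V H R (coOf N.e) g A ↔ AActs N.e (pr V H R ⟨g, hg⟩) A := by
  constructor
  · rintro ⟨h1, h2⟩
    refine ⟨fun m i => ?_, fun d hd => ?_⟩
    · have h3 := h1 _ (vl_mem m) i
      rw [coOf_vl] at h3
      rw [← h3, ← coOf_vl N.e (pr V H R ⟨g, hg⟩ • m), vl_smul]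
    · rw [pr_fix]
      exact h2 _ (vl_mem d) (by rw [coOf_vl]; exact (N.ker d).2 hd)
  · rintro ⟨h1, h2⟩
    refine ⟨fun v hv i => ?_, fun d hd h0 => ?_⟩
    · obtain ⟨m, rfl⟩ := exists_vl hv
      have h3 := h1 m i
      rw [coOf_vl, ← h3, ← coOf_vl N.e (pr V H R ⟨g, hg⟩ • m), vl_smul]
    · obtain ⟨m, rfl⟩ := exists_vl hd
      rw [coOf_vl] at h0
      exact pr_fix.1 (h2 m ((N.ker m).1 h0))

theorem coOf_smul (e : Wm V H R → Fin k → Fin 2 → F) {g : Y} (hg : g ∈ H) (m : Wm V H R) :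
    coOf e (g • vl V H R m) = e (pr V H R ⟨g, hg⟩ • m) := by
  rw [← coOf_vl e, vl_smul]

/-- an element of odd order which is trivial on `V / D` and on `D` is trivial -/
theorem nat_triv {X V' : Type*} [Group X] [Group V'] [MulDistribMulAction X V'] {T' : Subgroup X}
    (hc : ∀ v w : V', v * w = w * v) (hs : ∀ v : V', v * v = 1) (hf : ∀ x : X, (∀ v : V', x • v = v) → x = 1)
    (N : AbsNat F T' V' k) {x : X} (hx : ∀ v, N.e (x • v) = N.e v) (ho : Odd (orderOf x)) : x = 1 := by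
  have h1 : ∀ v : V', x • v * v ∈ odd X V' := by
    intro v
    rw [← N.ker, N.mul, hx, ← N.mul, hs, N.ker]
    exact (odd X V').one_mem
  have h2 : x * x = 1 := by
    apply hf
    intro v
    have h3 := h1 v x ho
    rw [smul_mul', ← mul_smul] at h3
    -- `x² v * x v = x v * v`
    rw [hc (x • v) v] at h3
    exact mul_right_cancel h3
  have h4 : orderOf x ∣ 2 := orderOf_dvd_of_pow_eq_one (by rw [pow_two, h2])
  rcases (Nat.dvd_prime Nat.prime_two).1 h4 with h5 | h5
  · exact orderOf_eq_one_iff.1 h5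
  · rw [h5] at ho
    exact absurd ho (by decide)

/-- the elements trivial on `V / D` form a normal 2-subgroup -/
theorem nat_core {X V' : Type*} [Group X] [Finite X] [Group V'] [MulDistribMulAction X V'] {T' : Subgroup X}
    (hc : ∀ v w : V', v * w = w * v) (hs : ∀ v : V', v * v = 1) (hf : ∀ x : X, (∀ v : V', x • v = v) → x = 1)
    (hcore : ∀ N : Subgroup X, N.Normal → IsPGroup 2 N → N = ⊥)
    (N : AbsNat F T' V' k) {x : X} (hx : ∀ v, N.e (x • v) = N.e v) : x = 1 := by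
  let N' : Subgroup X :=
    { carrier := {x | ∀ v, N.e (x • v) = N.e v}
      one_mem' := fun v => by rw [one_smul]
      mul_mem' := fun {x y} hx hy v => by rw [mul_smul, hx, hy]
      inv_mem' := fun {x} hx v => by rw [← hx (x⁻¹ • v), smul_inv_smul] }
  have hN' : ∀ y, y ∈ N' ↔ ∀ v, N.e (y • v) = N.e v := fun y => Iff.rfl
  have h1 : N' = ⊥ := by
    apply hcore
    · refine ⟨fun n hn g v => ?_⟩
      -- `e (g n g⁻¹ v) = e v`
      have h2 : N.e ((n • g⁻¹ • v) * (g⁻¹ • v)) = 0 := by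
        rw [N.mul, hn (g⁻¹ • v), ← N.mul, hs, N.ker]
        exact (odd X V').one_mem
      obtain ⟨σ, hσ⟩ := N.perm g
      have h3 : N.e (g • ((n • g⁻¹ • v) * (g⁻¹ • v))) = 0 := by
        funext i
        have h4 := (hσ ((n • g⁻¹ • v) * (g⁻¹ • v)) (σ.symm i)).2 (by rw [h2]; rfl)
        rw [Equiv.apply_symm_apply] at h4
        exact h4
      rw [smul_mul', smul_inv_smul, N.mul, ← mul_smul, ← mul_smul] at h3
      have h5 : N.e v + N.e v = 0 := by
        rw [← N.mul, hs, N.ker]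
        exact (odd X V').one_mem
      exact (add_left_injective (N.e v)) (h3.trans h5.symm)
    · rw [IsPGroup.iff_orderOf]
      intro y
      have hpos : 0 < orderOf (y : X) := orderOf_pos _
      obtain ⟨n, m, hm, hnm⟩ := Nat.exists_eq_two_pow_mul_odd hpos.ne'
      have h2 : ((y : X) ^ 2 ^ n) = 1 := by
        apply nat_triv hc hs hf N (x := (y : X) ^ 2 ^ n)
        · exact (N'.pow_mem y.2 _)
        · rw [orderOf_pow' _ (by positivity), hnm, Nat.gcd_eq_right (Dvd.intro _ rfl),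
            Nat.mul_div_cancel_left _ (by positivity)]
          exact hm
      obtain ⟨j, _, hj⟩ := (Nat.dvd_prime_pow Nat.prime_two).1 (orderOf_dvd_of_pow_eq_one h2)
      exact ⟨j, by rw [← hj, Subgroup.orderOf_coe]⟩
  have h2 : x ∈ N' := hx
  rw [h1, mem_bot] at h2
  exact h2

end derive

theorem card_mapSub {H R A : Subgroup Y} [Finite Y] [Finite V] {U : Set (Subgroup Y)} {T : Sylow 2 Y} {M : Subgroup Y}
    {t : Y} (amb : Amb V U T M) (a : Amal U T M H R t) (hA : A ≤ R) :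
    Nat.card ↥((A.subgroupOf H).map (pr V H R)) * Nat.card ↥(A ⊓ QQ H R) = Nat.card A := by
  rw [← Amal.inf_CW a amb hA]
  exact card_im (hA.trans a.RH)

/-- **`KNat` from `AbsNat`** -/
theorem KNat.of_abs {F : Type} [Field F] {k : ℕ} [Finite Y] [Finite V] {U : Set (Subgroup Y)} {T : Sylow 2 Y}
    {M H R : Subgroup Y} {t : Y} (amb : Amb V U T M) (a : Amal U T M H R t) {P : Sylow 2 (XH V H R)}
    {M₁ : Subgroup (XH V H R)} (hA : Abs (XH V H R) (Wm V H R) P M₁)
    (hP : ∀ x : XH V H R, x ∈ P ↔ ∃ r : H, (r : Y) ∈ R ∧ pr V H R r = x) (hno : ANoOver (XH V H R) (Wm V H R))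
    (N : AbsNat F (P : Subgroup (XH V H R)) (Wm V H R) k) : KNat V H R F k (coOf N.e) := by
  have hcomm : ∀ {A : Subgroup Y}, A ≤ R → ElAb A →
      (∀ x ∈ (A.subgroupOf H).map (pr V H R), ∀ y ∈ (A.subgroupOf H).map (pr V H R), x * y = y * x) ∧
        ∀ x ∈ (A.subgroupOf H).map (pr V H R), x * x = 1 := by
    intro A _ hel
    refine ⟨?_, ?_⟩
    · rintro _ ⟨x, hx, rfl⟩ _ ⟨y, hy, rfl⟩
      rw [← map_mul, ← map_mul]
      congr 1
      exact Subtype.ext (hel.1 x hx y hy)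
    · rintro _ ⟨x, hx, rfl⟩
      rw [← map_mul]
      have : x * x = 1 := Subtype.ext (hel.2 x hx)
      rw [this, map_one]
  refine
    { add := fun v hv w hw => ?_
      surj := fun x => ?_
      lift := fun A => ?_
      norm := fun g hg h hh A hA' => ?_
      perm := fun g hg => ?_
      trans := fun i j => ?_
      line := fun r hr => ?_
      unip := fun b => ?_
      gen := fun K hRK hKH hK => ?_
      off := fun A hAR hel hAQ hle => ?_
      noOver := fun A hAR hel => ?_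
      triv := fun r hr hrw => ?_
      trivH := fun x hx hxw w hw => ?_ }
  · obtain ⟨m, rfl⟩ := exists_vl hv
    obtain ⟨n, rfl⟩ := exists_vl hw
    rw [← vl_mul, coOf_vl, coOf_vl, coOf_vl, N.mul]
  · obtain ⟨m, hm⟩ := N.surj x
    exact ⟨_, vl_mem m, by rw [coOf_vl, hm]⟩
  · obtain ⟨g, hg⟩ := N.lift A
    obtain ⟨y, rfl⟩ := pr_surjective V H R g
    exact ⟨y, y.2, (acts_iff N y.2 A).2 hg⟩
  · obtain ⟨B, hB⟩ := N.norm (pr V H R ⟨g, hg⟩) (pr V H R ⟨h, hh⟩) A (by
      intro m i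
      rw [← coOf_smul N.e hh, hA' _ (vl_mem m), coOf_vl])
    refine ⟨B, fun v hv i => ?_⟩
    obtain ⟨m, rfl⟩ := exists_vl hv
    have e : pr V H R ⟨g * h * g⁻¹, H.mul_mem (H.mul_mem hg hh) (H.inv_mem hg)⟩ =
        pr V H R ⟨g, hg⟩ * pr V H R ⟨h, hh⟩ * (pr V H R ⟨g, hg⟩)⁻¹ := by
      rw [← map_inv, ← map_mul, ← map_mul]
      rfl
    rw [coOf_smul N.e (H.mul_mem (H.mul_mem hg hh) (H.inv_mem hg)), coOf_vl, e, hB m i]
  · obtain ⟨σ, hσ⟩ := N.perm (pr V H R ⟨g, hg⟩)
    refine ⟨σ, fun v hv i => ?_⟩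
    obtain ⟨m, rfl⟩ := exists_vl hv
    rw [coOf_smul N.e hg, coOf_vl]
    exact hσ m i
  · obtain ⟨x, hx, hxs⟩ := N.trans i j
    obtain ⟨r, hr, rfl⟩ := (hP x).1 hx
    refine ⟨r, hr, fun v hv => ?_⟩
    obtain ⟨m, rfl⟩ := exists_vl hv
    rw [coOf_smul N.e r.2, coOf_vl]
    exact hxs m
  · obtain ⟨σ, hσ⟩ := N.line (pr V H R ⟨r, a.RH hr⟩) ((hP _).2 ⟨_, hr, rfl⟩)
    refine ⟨σ, fun v hv i => ?_⟩
    obtain ⟨m, rfl⟩ := exists_vl hv
    rw [coOf_smul N.e (a.RH hr), coOf_vl]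
    exact hσ m i
  · obtain ⟨x, hx, hxs⟩ := N.unip b
    obtain ⟨r, hr, rfl⟩ := (hP x).1 hx
    exact ⟨r, hr, (acts_iff N r.2 _).2 hxs⟩
  · have h1 : (K.subgroupOf H).map (pr V H R) = ⊤ := by
      apply N.gen
      · intro x hx
        obtain ⟨r, hr, rfl⟩ := (hP x).1 hx
        exact ⟨r, hRK hr, rfl⟩
      · intro x A hx
        obtain ⟨y, rfl⟩ := pr_surjective V H R x
        exact ⟨y, hK y y.2 A ((acts_iff N y.2 A).2 hx), rfl⟩
    apply le_antisymm hKH
    intro x hx
    have h2 : pr V H R ⟨x, hx⟩ ∈ (K.subgroupOf H).map (pr V H R) := by rw [h1]; exact mem_top _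
    obtain ⟨y, hy, hyx⟩ := h2
    have h3 : pr V H R (y⁻¹ * ⟨x, hx⟩) = 1 := by rw [map_mul, map_inv, hyx, inv_mul_cancel]
    rw [pr_eq_one] at h3
    have h4 := hK ((y : Y)⁻¹ * x) (H.mul_mem (H.inv_mem y.2) hx) _ (Acts.of_triv h3)
    have h5 := K.mul_mem (show (y : Y) ∈ K from hy) h4
    rwa [mul_inv_cancel_left] at h5
  · obtain ⟨I, hI1, hI2⟩ := N.off ((A.subgroupOf H).map (pr V H R)) (by
      rintro _ ⟨x, hx, rfl⟩
      exact (hP _).2 ⟨x, hAR hx, rfl⟩)
      { comm := (hcomm hAR hel).1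
        sq := (hcomm hAR hel).2
        ne := by
          intro h1
          apply hAQ
          intro x hx
          rw [Amal.mem_QQ_iff a amb (hAR hx), ← pr_eq_one (x := ⟨x, a.RH (hAR hx)⟩), ← mem_bot, ← h1]
          exact ⟨_, hx, rfl⟩
        le := by
          have h2 := card_mapSub amb a hAR
          have h3 := card_cv (V := V) (R := R) (hAR.trans a.RH)
          rw [inf_comm (fx V A), ← h2, ← h3] at hle
          have h4 : 0 < Nat.card ↥(A ⊓ QQ H R) := Nat.card_pos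
          have h5 : 0 < Nat.card ↥(WW V H R ⊓ fx V A) := Nat.card_pos
          apply Nat.le_of_mul_le_mul_right _ (Nat.mul_pos h4 h5)
          calc _ = Nat.card ↥(A ⊓ QQ H R) * ((ClassTwoFusion.Quad.cv (Wm V H R)
                (((A.subgroupOf H).map (pr V H R) : Subgroup (XH V H R)) : Set (XH V H R))).index *
                  Nat.card ↥(WW V H R ⊓ fx V A)) := by ring
            _ ≤ _ := hle
            _ = _ := by ring }
    refine ⟨I, fun x hx => ?_, fun b hb => ?_⟩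
    · obtain ⟨b, hb, hbx⟩ := hI1 (pr V H R ⟨x, a.RH (hAR hx)⟩) ⟨_, hx, rfl⟩
      exact ⟨b, hb, (acts_iff N _ _).2 hbx⟩
    · obtain ⟨_, ⟨x, hx, rfl⟩, hbx⟩ := hI2 b hb
      exact ⟨x, hx, (acts_iff N x.2 _).2 hbx⟩
  · have h1 := hno ((A.subgroupOf H).map (pr V H R)) (hcomm hAR hel).1 (hcomm hAR hel).2
    have h2 := card_mapSub amb a hAR
    have h3 := card_cv (V := V) (R := R) (hAR.trans a.RH)
    rw [inf_comm (fx V A), ← h2, ← h3]
    calc _ = Nat.card ↥((A.subgroupOf H).map (pr V H R)) *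
          (Nat.card ↥(A ⊓ QQ H R) * Nat.card ↥(WW V H R ⊓ fx V A)) := mul_assoc _ _ _
      _ ≤ _ := Nat.mul_le_mul_right _ h1
      _ = _ := by ring
  · rw [Amal.mem_QQ_iff a amb hr, ← pr_eq_one (x := ⟨r, a.RH hr⟩)]
    apply nat_core hA.comm hA.sq hA.faith hA.core N
    intro m
    have h1 := hrw _ (vl_mem m)
    have h2 : (r : Y) • vl V H R m + vl V H R m = vl V H R ((pr V H R ⟨r, a.RH hr⟩ • m) * m) := by
      rw [vl_mul, vl_smul]
    rw [h2, coOf_vl, N.mul] at h1
    have h5 : N.e m + N.e m = 0 := by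
      rw [← N.mul, hA.sq, N.ker]
      exact (odd _ _).one_mem
    exact (add_left_injective (N.e m)) (h1.trans h5.symm)
  · have h1 : pr V H R ⟨x, hx⟩ = 1 := by
      apply nat_core hA.comm hA.sq hA.faith hA.core N
      intro m
      rw [← coOf_smul N.e hx, hxw _ (vl_mem m), coOf_vl]
    exact pr_eq_one.1 h1 w hw

/-! ### Transport -/

section transport

variable {H R : Subgroup Y} {F : Type} [Field F] {k : ℕ} {co : V → Fin k → Fin 2 → F}

theorem hsm' {t x : Y} {v : V} : t⁻¹ • x • v = (t⁻¹ * x * t) • t⁻¹ • v := by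
  rw [← mul_smul, ← mul_smul]; congr 1; group

theorem hsm'' {t x : Y} {v : V} : t⁻¹ • x • t • v = (t⁻¹ * x * t) • v := by
  rw [← mul_smul, ← mul_smul]

theorem WW_conj' (t : Y) : WW V (MulAut.conj t • H) (MulAut.conj t • R) = t • WW V H R := by
  have key : ∀ (t : Y) (H R : Subgroup Y), t • WW V H R ≤ WW V (MulAut.conj t • H) (MulAut.conj t • R) := by
    intro t H R v hv
    rw [mem_smul_as] at hv
    have key : ∀ w ∈ WW V H R, t • w ∈ WW V (MulAut.conj t • H) (MulAut.conj t • R) := by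
      intro w hw
      induction hw using AddSubgroup.closure_induction with
      | mem v hv =>
        obtain ⟨x, hx, w, hw, rfl⟩ := hv
        have e : t • x • w = (t * x * t⁻¹) • (t • w) := by
          rw [← mul_smul, ← mul_smul]; congr 1; group
        rw [e]
        refine smul_mem_WW (conj_mem_conj hx) (fx_le_WW ?_)
        rw [fx_conj]
        exact smul_mem_smul_as hw
      | zero => rw [smul_zero]; exact zero_mem _
      | add a b _ _ h3 h4 => rw [smul_add]; exact add_mem h3 h4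
      | neg a _ h3 => rw [smul_neg]; exact neg_mem h3
    have := key _ hv
    rwa [smul_inv_smul] at this
  apply le_antisymm _ (key t H R)
  have h1 := key t⁻¹ (MulAut.conj t • H) (MulAut.conj t • R)
  rw [conj_inv_smul', conj_inv_smul'] at h1
  have h2 := smul_le_smul_as (g := t) h1
  rwa [smul_smul_as, mul_inv_cancel, one_smul] at h2

theorem QQ_conj' (t : Y) : QQ (MulAut.conj t • H) (MulAut.conj t • R) = MulAut.conj t • QQ H R := by
  ext y
  rw [mem_conj]
  constructor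
  · intro h x hx
    have h3 := h _ (conj_mem_conj (g := t) hx)
    rw [mem_conj] at h3
    have e : t⁻¹ * (t * x * t⁻¹ * y * (t * x * t⁻¹)⁻¹) * t = x * (t⁻¹ * y * t) * x⁻¹ := by group
    rwa [e] at h3
  · intro h x hx
    rw [mem_conj] at hx ⊢
    have h3 := h _ hx
    have e : t⁻¹ * (x * y * x⁻¹) * t = t⁻¹ * x * t * (t⁻¹ * y * t) * (t⁻¹ * x * t)⁻¹ := by group
    rwa [e]

theorem acts_conj {t : Y} {g : Y} {A : Fin k → Matrix.SpecialLinearGroup (Fin 2) F} :
    Acts V (MulAut.conj t • H) (MulAut.conj t • R) (fun v => co (t⁻¹ • v)) g A ↔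
      Acts V H R co (t⁻¹ * g * t) A := by
  have hW : WW V (MulAut.conj t • H) (MulAut.conj t • R) = t • WW V H R := WW_conj' t
  constructor
  · rintro ⟨h1, h2⟩
    refine ⟨fun v hv i => ?_, fun d hd h0 => ?_⟩
    · have h3 := h1 (t • v) (by rw [hW]; exact smul_mem_smul_as hv) i
      simp only [hsm'', inv_smul_smul] at h3
      exact h3
    · have h3 := h2 (t • d) (by rw [hW]; exact smul_mem_smul_as hd) (by simp only [inv_smul_smul]; exact h0)
      rw [mul_smul, mul_smul, h3, inv_smul_smul]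
  · rintro ⟨h1, h2⟩
    refine ⟨fun v hv i => ?_, fun d hd h0 => ?_⟩
    · rw [hW, mem_smul_as] at hv
      have h3 := h1 _ hv i
      simp only [hsm']
      exact h3
    · rw [hW, mem_smul_as] at hd
      have h3 := h2 _ hd h0
      rwa [← hsm', smul_left_cancel_iff] at h3

/-- transport with an arbitrary element -/
theorem KNat.conj [Finite Y] (K : KNat V H R F k co) (t : Y) :
    KNat V (MulAut.conj t • H) (MulAut.conj t • R) F k (fun v => co (t⁻¹ • v)) := by
  have hQ : QQ (MulAut.conj t • H) (MulAut.conj t • R) = MulAut.conj t • QQ H R := QQ_conj' t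
  have hW : WW V (MulAut.conj t • H) (MulAut.conj t • R) = t • WW V H R := WW_conj' t
  have hle : ∀ {A K : Subgroup Y}, MulAut.conj t⁻¹ • A ≤ K ↔ A ≤ MulAut.conj t • K := by
    intro A K
    rw [conj_le_iff, inv_inv]
  have hback : ∀ r : Y, t⁻¹ * (t * r * t⁻¹) * t = r := fun r => by group
  refine
    { add := fun v hv w hw => ?_
      surj := fun x => ?_
      lift := fun A => ?_
      norm := fun g hg h hh A hA' => ?_
      perm := fun g hg => ?_
      trans := fun i j => ?_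
      line := fun r hr => ?_
      unip := fun b => ?_
      gen := fun L hRL hLH hL => ?_
      off := fun A hAR hel hAQ h1 => ?_
      noOver := fun A hAR hel => ?_
      triv := fun r hr hrw => ?_
      trivH := fun x hx hxw w hw => ?_ }
  · rw [hW, mem_smul_as] at hv hw
    simp only [smul_add]
    exact K.add _ hv _ hw
  · obtain ⟨v, hv, hx⟩ := K.surj x
    refine ⟨t • v, by rw [hW]; exact smul_mem_smul_as hv, ?_⟩
    simp only [inv_smul_smul]
    exact hx
  · obtain ⟨g, hg, hgA⟩ := K.lift A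
    refine ⟨t * g * t⁻¹, conj_mem_conj hg, ?_⟩
    rw [acts_conj, hback]
    exact hgA
  · rw [mem_conj] at hg hh
    obtain ⟨B, hB⟩ := K.norm _ hg _ hh A (by
      intro v hv i
      have h3 := hA' (t • v) (by rw [hW]; exact smul_mem_smul_as hv) i
      simp only [hsm'', inv_smul_smul] at h3
      exact h3)
    refine ⟨B, fun v hv i => ?_⟩
    rw [hW, mem_smul_as] at hv
    have h3 := hB _ hv i
    simp only [hsm']
    have e : t⁻¹ * (g * h * g⁻¹) * t = t⁻¹ * g * t * (t⁻¹ * h * t) * (t⁻¹ * g * t)⁻¹ := by group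
    rw [e]
    exact h3
  · rw [mem_conj] at hg
    obtain ⟨σ, hσ⟩ := K.perm _ hg
    refine ⟨σ, fun v hv i => ?_⟩
    rw [hW, mem_smul_as] at hv
    simp only [hsm']
    exact hσ _ hv i
  · obtain ⟨r, hr, hrs⟩ := K.trans i j
    refine ⟨t * r * t⁻¹, conj_mem_conj hr, fun v hv => ?_⟩
    rw [hW, mem_smul_as] at hv
    simp only [hsm', hback]
    exact hrs _ hv
  · rw [mem_conj] at hr
    obtain ⟨σ, hσ⟩ := K.line _ hr
    refine ⟨σ, fun v hv i => ?_⟩
    rw [hW, mem_smul_as] at hv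
    simp only [hsm']
    exact hσ _ hv i
  · obtain ⟨r, hr, hrs⟩ := K.unip b
    refine ⟨t * r * t⁻¹, conj_mem_conj hr, ?_⟩
    rw [acts_conj, hback]
    exact hrs
  · have h1 : MulAut.conj t⁻¹ • L = H := by
      apply K.gen
      · intro r hr
        rw [mem_conj, inv_inv]
        exact hRL (conj_mem_conj hr)
      · rw [hle]
        exact hLH
      · intro h hh A hhA
        rw [mem_conj, inv_inv]
        apply hL _ (conj_mem_conj hh) A
        rw [acts_conj, hback]
        exact hhA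
    rw [← h1, conj_inv_smul]
  · obtain ⟨I, hI1, hI2⟩ := K.off _ (hle.2 hAR) (hel.conj t⁻¹) (fun h2 => hAQ (by rw [hQ, ← hle]; exact h2)) (by
      rw [conj_card, card_inf_conj, card_fx_conj]
      rw [hQ, hW, card_smul_as] at h1
      exact h1)
    refine ⟨I, fun x hx => ?_, fun b hb => ?_⟩
    · obtain ⟨b, hb, hbx⟩ := hI1 (t⁻¹ * x * t) (by
        rw [mem_conj, inv_inv]
        have e : t * (t⁻¹ * x * t) * t⁻¹ = x := by group
        rwa [e])
      exact ⟨b, hb, acts_conj.2 hbx⟩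
    · obtain ⟨x, hx, hbx⟩ := hI2 b hb
      rw [mem_conj, inv_inv] at hx
      refine ⟨_, hx, ?_⟩
      rw [acts_conj, hback]
      exact hbx
  · have h1 := K.noOver _ (hle.2 hAR) (hel.conj t⁻¹)
    rw [conj_card, card_inf_conj, card_fx_conj] at h1
    rw [hQ, hW, card_smul_as]
    exact h1
  · rw [mem_conj] at hr
    rw [hQ, mem_conj]
    apply K.triv _ hr
    intro w hw
    have h3 := hrw (t • w) (by rw [hW]; exact smul_mem_smul_as hw)
    simp only [smul_add, hsm'', inv_smul_smul] at h3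
    exact h3
  · rw [mem_conj] at hx
    rw [hW, mem_smul_as] at hw
    have h3 := K.trivH _ hx (fun w hw => by
      have h4 := hxw (t • w) (by rw [hW]; exact smul_mem_smul_as hw)
      simp only [hsm'', inv_smul_smul] at h4
      exact h4) _ hw
    rwa [← hsm', smul_left_cancel_iff] at h3

/-- transport with `t` -/
theorem KNat.conj_t [Finite Y] {U : Set (Subgroup Y)} {T : Sylow 2 Y} {M : Subgroup Y} {t : Y}
    (a : Amal U T M H R t) (K : KNat V H R F k co) :
    KNat V (MulAut.conj t • H) R F k (fun v => co (t⁻¹ • v)) := by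
  have h1 := K.conj t
  rwa [conj_of_mem a.t_norm] at h1

end transport

/-- Both sides of the amalgam, `H' = H^t`; `WE` : no member in `R` of type ALPHA (#20114). -/
structure TwoN (V : Type u) [AddCommGroup V] [DistribMulAction Y V] (U : Set (Subgroup Y)) (T : Sylow 2 Y)
    (M H H' R : Subgroup Y) (F : Type) [Field F] (k : ℕ) (co co' : V → Fin k → Fin 2 → F) (t : Y) : Prop where
  amb : Amb V U T M
  a : Amal U T M H R t
  a' : Amal U T M H' R t
  K : KNat V H R F k co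
  K' : KNat V H' R F k co'
  H'_eq : H' = MulAut.conj t • H
  H_eq : H = MulAut.conj t • H'
  we : WE V U H R
  we' : WE V U H' R

theorem TwoN.swap {U : Set (Subgroup Y)} {T : Sylow 2 Y} {M H H' R : Subgroup Y} {F : Type} [Field F] {k : ℕ}
    {co co' : V → Fin k → Fin 2 → F} {t : Y} (h : TwoN V U T M H H' R F k co co' t) :
    TwoN V U T M H' H R F k co' co t where
  amb := h.amb
  a := h.a'
  a' := h.a
  K := h.K'
  K' := h.K
  H'_eq := h.H_eq
  H_eq := h.H'_eq
  we := h.we'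
  we' := h.we

theorem KNat.twoN [Finite Y] [Finite V] {U : Set (Subgroup Y)} {T : Sylow 2 Y} {M H R : Subgroup Y} {F : Type}
    [Field F] {k : ℕ} {co : V → Fin k → Fin 2 → F} {t : Y} (amb : Amb V U T M) (a : Amal U T M H R t)
    (K : KNat V H R F k co) (we : WE V U H R) :
    TwoN V U T M H (MulAut.conj t • H) R F k co (fun v => co (t⁻¹ • v)) t where
  amb := amb
  a := a
  a' := a.conj_t amb.cls amb.TM
  K := K
  K' := K.conj_t a
  H'_eq := rfl
  H_eq := by
    rw [conj_smul_smul]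
    exact (conj_of_mem fun x hx => H.mul_mem (H.mul_mem (a.RH a.t_sq) hx) (H.inv_mem (a.RH a.t_sq))).symm
  we := we
  we' := fun B hB hBR => by
    rw [WW_conj (fun v => a.smul_V0) fun v => a.smul_V0']
    exact a.tW_le_Ee amb we hB hBR

/-- natural type of the FF theorem: `TwoN` -/
theorem exists_twoN [Finite Y] [Finite V] {U : Set (Subgroup Y)} {T : Sylow 2 Y} {M H R : Subgroup Y} {t : Y}
    (amb : Amb V U T M) (a : Amal U T M H R t) (we : WE V U H R) {P : Sylow 2 (XH V H R)} {M₁ : Subgroup (XH V H R)}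
    (hA : Abs (XH V H R) (Wm V H R) P M₁)
    (hP : ∀ x : XH V H R, x ∈ P ↔ ∃ r : H, (r : Y) ∈ R ∧ pr V H R r = x) (hno : ANoOver (XH V H R) (Wm V H R))
    {F : Type} [Field F] {k : ℕ} (N : AbsNat F (P : Subgroup (XH V H R)) (Wm V H R) k) :
    ∃ co : V → Fin k → Fin 2 → F, TwoN V U T M H (MulAut.conj t • H) R F k co (fun v => co (t⁻¹ • v)) t :=
  ⟨_, KNat.twoN amb a (KNat.of_abs amb a hA hP hno N) we⟩

end Cfsg.Agent.Omega.NO1.TH.K

end

section


/-!
# N1, natural type with `k` factors: `C_R(W_R)` is the product of the root groups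

* `KNat.exists_up` : an element `r` of `R` trivial on `W_R` acts as `(up (b i))_i`;
* `KNat.mem_iSup_of` : an element of `R` which acts as `(up (b i))_i` is in the join of the root groups.
-/

set_option autoImplicit false
set_option linter.unusedSectionVars false
set_option linter.dupNamespace false

namespace Cfsg.Agent.Omega.NO1.TH.K

open Subgroup Cfsg.Agent.Omega.NO1.AB Cfsg.Agent.Omega.FFBr Cfsg.Agent.Lib.SL2Mat
open Cfsg.Agent.Omega.NatPair (ap ap_zero' ap_one' ap_add ap_smul ap_mul ap_one ext2)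
open scoped Pointwise

universe u

variable {Y : Type u} [Group Y] {V : Type u} [AddCommGroup V] [DistribMulAction Y V]
variable {H R : Subgroup Y} {F : Type} [Field F] {k : ℕ} {co : V → Fin k → Fin 2 → F}

namespace KNat

variable (K : KNat V H R F k co) (h2 : ∀ v : V, v + v = 0)
include K h2

theorem up_co_zero : co 0 = 0 := by
  have h1 := K.add 0 (zero_mem _) 0 (zero_mem _)
  rw [add_zero] at h1
  exact left_eq_add.1 h1

/-- characteristic 2 -/
theorem char_two (x : Fin k → Fin 2 → F) : x + x = 0 := by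
  obtain ⟨v, hv, rfl⟩ := K.surj x
  rw [← K.add v hv v hv, h2, K.up_co_zero h2]

theorem F_two (i : Fin k) (c : F) : c + c = 0 := by
  have h1 := K.char_two h2 fun _ _ => c
  exact congrFun (congrFun h1 i) 0

omit h2 in
theorem co_add {v w : V} (hv : v ∈ WW V H R) (hw : w ∈ WW V H R) (i : Fin k) : co (v + w) i = co v i + co w i := by
  rw [K.add v hv w hw]; rfl

theorem co_eq_iff {v w : V} (hv : v ∈ WW V H R) (hw : w ∈ WW V H R) : co v = co w ↔ co (v + w) = 0 := by
  rw [K.add v hv w hw]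
  constructor
  · intro h1
    rw [h1]
    exact K.char_two h2 _
  · intro h1
    have h3 := K.char_two h2 (co w)
    exact add_right_cancel (h1.trans h3.symm)

/-- `g • v` depends on `co v` only, mod `D` -/
theorem co_smul_congr {g : Y} (hg : g ∈ H) {v w : V} (hv : v ∈ WW V H R) (hw : w ∈ WW V H R) {σ : Equiv.Perm (Fin k)}
    (hσ : ∀ v ∈ WW V H R, ∀ i, co (g • v) (σ i) = 0 ↔ co v i = 0) {i : Fin k} (h1 : co v i = co w i) :
    co (g • v) (σ i) = co (g • w) (σ i) := by
  have h3 : co (v + w) i = 0 := by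
    rw [K.co_add hv hw, h1]
    have := K.char_two h2 (co w)
    exact congrFun this i
  have h4 := (hσ _ (add_mem hv hw) i).2 h3
  rw [smul_add, K.co_add (smul_mem_WW hg hv) (smul_mem_WW hg hw)] at h4
  have h5 : co (g • w) (σ i) + co (g • w) (σ i) = 0 := congrFun (K.char_two h2 (co (g • w))) (σ i)
  exact add_right_cancel (h4.trans h5.symm)

omit h2 in
/-- a vector with given coordinate at one place -/
theorem up_exists_single (i : Fin k) (x : Fin 2 → F) : ∃ v ∈ WW V H R, co v i = x ∧ ∀ j, j ≠ i → co v j = 0 := by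
  obtain ⟨v, hv, h1⟩ := K.surj (Pi.single i x)
  refine ⟨v, hv, by rw [h1, Pi.single_eq_same], fun j hj => by rw [h1, Pi.single_eq_of_ne hj]⟩

omit h2 in
/-- an element of `R` trivial on `W_R` normalises every block -/
theorem perm_one (hRH : R ≤ H) {r : Y} (hr : r ∈ R) (hfix : ∀ v ∈ WR V H R co, r • v = v) (v : V)
    (hv : v ∈ WW V H R) (i : Fin k) : co (r • v) i = 0 ↔ co v i = 0 := by
  obtain ⟨σ, hσ⟩ := K.perm r (hRH hr)
  have key : σ i = i := by
    obtain ⟨w, hw, h1, h3⟩ := K.up_exists_single i ![1, 0]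
    have hwR : w ∈ WR V H R co := by
      refine ⟨hw, fun j => ?_⟩
      by_cases hj : j = i
      · rw [hj, h1]; rfl
      · rw [h3 j hj]; rfl
    have h4 := hσ w hw i
    rw [hfix w hwR, h1] at h4
    by_contra hne
    have h5 := h4.1 (h3 _ hne)
    have := congrFun h5 0
    simp at this
  have h1 := hσ v hv i
  rwa [key] at h1

/-- the block maps of an element of `R` trivial on `W_R` -/
theorem exists_T (hRH : R ≤ H) {r : Y} (hr : r ∈ R) (hfix : ∀ v ∈ WR V H R co, r • v = v) (i : Fin k) :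
    ∃ T : (Fin 2 → F) → (Fin 2 → F), (∀ x y, T (x + y) = T x + T y) ∧
      (∀ v ∈ WW V H R, co (r • v) i = T (co v i)) ∧ ∀ x, x 1 = 0 → T x = x := by
  choose s hs using fun x => K.up_exists_single i x
  have hσ := K.perm_one hRH hr hfix
  have h1 : ∀ v ∈ WW V H R, co (r • v) i = co (r • s (co v i)) i := fun v hv =>
    K.co_smul_congr h2 (hRH hr) hv (hs _).1 (σ := Equiv.refl _) (fun v hv i => hσ v hv i) (by rw [(hs _).2.1])
  refine ⟨fun x => co (r • s x) i, fun x y => ?_, h1, fun x hx => ?_⟩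
  · change co (r • s (x + y)) i = co (r • s x) i + co (r • s y) i
    have h3 := h1 (s x + s y) (add_mem (hs x).1 (hs y).1)
    rw [K.co_add (hs x).1 (hs y).1, (hs x).2.1, (hs y).2.1] at h3
    rw [← h3, smul_add, K.co_add (smul_mem_WW (hRH hr) (hs x).1) (smul_mem_WW (hRH hr) (hs y).1)]
  · change co (r • s x) i = x
    rw [hfix (s x) ⟨(hs x).1, fun j => ?_⟩, (hs x).2.1]
    by_cases hj : j = i
    · rw [hj, (hs x).2.1, hx]
    · rw [(hs x).2.2 j hj]; rfl

theorem eq_one_of_pow (i : Fin k) {g : F} (n : ℕ) (hg : g ^ 2 ^ n = 1) : g = 1 := by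
  induction n with
  | zero => rwa [pow_zero, pow_one] at hg
  | succ n ih =>
    apply ih
    rw [pow_succ, pow_mul] at hg
    have h3 : (g ^ 2 ^ n + 1) ^ 2 = 0 := by
      have e : (g ^ 2 ^ n + 1) ^ 2 = (g ^ 2 ^ n) ^ 2 + 1 + (g ^ 2 ^ n + g ^ 2 ^ n) := by ring
      rw [e, hg, K.F_two h2 i, K.F_two h2 i, add_zero]
    have h4 := pow_eq_zero_iff (two_ne_zero) |>.1 h3
    have h5 := K.F_two h2 i 1
    exact add_right_cancel (h4.trans h5.symm)

/-- an element of `R` trivial on `W_R` acts as `(up (b i))_i` -/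
theorem exists_up (hRH : R ≤ H) {r : Y} (hr : r ∈ R) {n : ℕ} (hn : r ^ 2 ^ n = 1)
    (hfix : ∀ v ∈ WR V H R co, r • v = v) : ∃ b : Fin k → F, Acts V H R co r fun i => up (b i) := by
  have hinv : ∀ v ∈ WR V H R co, r⁻¹ • v = v := fun v hv => by
    rw [inv_smul_eq_iff, hfix v hv]
  have key : ∀ i, ∃ b : F, ∀ v ∈ WW V H R, co (r • v) i = ap (up b) (co v i) := by
    intro i
    obtain ⟨T, hadd, hT, hl⟩ := K.exists_T h2 hRH hr hfix i
    obtain ⟨T', hadd', hT', hl'⟩ := K.exists_T h2 hRH (R.inv_mem hr) hinv i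
    choose s hs using fun x => K.up_exists_single i x
    have e1 : ∀ x, T' (T x) = x := by
      intro x
      have h3 := hT (s x) (hs x).1
      have h4 := hT' (r • s x) (smul_mem_WW (hRH hr) (hs x).1)
      rw [inv_smul_smul, (hs x).2.1] at h4
      rw [(hs x).2.1] at h3
      rw [← h3, ← h4]
    have e2 : ∀ x, T (T' x) = x := by
      intro x
      have h3 := hT' (s x) (hs x).1
      have h4 := hT (r⁻¹ • s x) (smul_mem_WW (hRH (R.inv_mem hr)) (hs x).1)
      rw [smul_inv_smul, (hs x).2.1] at h4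
      rw [(hs x).2.1] at h3
      rw [← h3, ← h4]
    have hnm : ∀ A : Matrix.SpecialLinearGroup (Fin 2) F, ∃ B : Matrix.SpecialLinearGroup (Fin 2) F,
        ∀ x, T' (ap A (T x)) = ap B x := by
      intro A
      obtain ⟨h, hhH, hh⟩ := K.lift fun _ => A
      obtain ⟨B, hB⟩ := K.norm r⁻¹ (hRH (R.inv_mem hr)) h hhH (fun _ => A) hh.1
      refine ⟨B i, fun x => ?_⟩
      have h3 := hB (s x) (hs x).1 i
      rw [(hs x).2.1] at h3
      rw [← h3, inv_inv, mul_smul, mul_smul,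
        hT' _ (smul_mem_WW hhH (smul_mem_WW (hRH hr) (hs x).1)), hh.1 _ (smul_mem_WW (hRH hr) (hs x).1),
        hT _ (hs x).1, (hs x).2.1]
    obtain ⟨σ, hσ⟩ := NatPair.exists_semi T T' hadd e1 e2 hnm
    have hσ1 : ∀ c, σ c = c := by
      intro c
      have h3 := hσ c ![1, 0]
      rw [hl ![1, 0] rfl, hl (c • ![1, 0]) (by simp)] at h3
      have h4 := congrFun h3 0
      simp at h4
      exact h4.symm
    set b := T ![0, 1] 0 with hb
    set g := T ![0, 1] 1 with hg
    have hTx : ∀ x, T x = ![x 0 + b * x 1, g * x 1] := by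
      intro x
      have e : x = ![x 0, 0] + x 1 • ![0, 1] := by
        apply ext2 <;> simp
      have h3 : T x = T ![x 0, 0] + T (x 1 • ![0, 1]) := by rw [← hadd, ← e]
      rw [h3, hσ, hσ1, hl ![x 0, 0] rfl]
      apply ext2
      · simp [hb, mul_comm]
      · simp [hg, mul_comm]
    have hpow : ∀ m : ℕ, ∀ v ∈ WW V H R, co (r ^ m • v) i 1 = g ^ m * co v i 1 := by
      intro m
      induction m with
      | zero => intro v _; rw [pow_zero, pow_zero, one_smul, one_mul]
      | succ m ih =>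
        intro v hv
        rw [pow_succ, mul_smul, ih _ (smul_mem_WW (hRH hr) hv), hT v hv, hTx, pow_succ]
        simp [mul_assoc]
    have hg1 : g = 1 := by
      apply K.eq_one_of_pow h2 i n
      have h3 := hpow (2 ^ n) (s ![0, 1]) (hs _).1
      rw [hn, one_smul, (hs _).2.1] at h3
      simpa using h3.symm
    refine ⟨b, fun v hv => ?_⟩
    rw [hT v hv, hTx, NatPair.NormLev.Co.ap_up, hg1, one_mul]
  choose b hb using key
  exact ⟨b, fun v hv i => hb i v hv, fun d hd h0 => hfix d ⟨hd, fun i => by rw [h0]; rfl⟩⟩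

/-- an element of `R` acting as `(up (b i))_i` is a product of elements of the root groups -/
theorem mem_iSup_of (hRH : R ≤ H) (P : Fin k → Subgroup Y)
    (hP : ∀ i, ∀ r ∈ R, ∀ b : Fin k → F, (∀ j, j ≠ i → b j = 0) → Acts V H R co r (fun j => up (b j)) → r ∈ P i)
    (i₀ : Fin k) {r : Y} (hr : r ∈ R) {b : Fin k → F} (hb : Acts V H R co r fun i => up (b i)) : r ∈ ⨆ i, P i := by
  have key : ∀ s : Finset (Fin k), ∀ b : Fin k → F, (∀ j, j ∉ s → b j = 0) → ∀ r ∈ R,
      Acts V H R co r (fun j => up (b j)) → r ∈ ⨆ i, P i := by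
    classical
    intro s
    induction s using Finset.induction with
    | empty =>
      intro b hb r hr hr'
      exact (le_iSup P i₀) (hP i₀ r hr b (fun j _ => hb j (Finset.notMem_empty j)) hr')
    | insert i s hi ih =>
      intro b hb r hr hr'
      obtain ⟨u, hu, hu'⟩ := K.unip (Pi.single i (b i))
      have h3 : u ∈ ⨆ i, P i := (le_iSup P i) (hP i u hu _ (fun j hj => Pi.single_eq_of_ne hj _) hu')
      have h4 : u * r ∈ ⨆ i, P i := by
        apply ih (fun j => (Pi.single i (b i) : Fin k → F) j + b j) (fun j hj => ?_) _ (R.mul_mem hu hr)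
        · have h5 := Acts.mul (hRH hr) hu' hr'
          have e : ((fun j => up ((Pi.single i (b i) : Fin k → F) j)) * fun j => up (b j)) =
              fun j => up ((Pi.single i (b i) : Fin k → F) j + b j) := by
            funext j
            exact up_mul _ _
          rwa [e] at h5
        · by_cases hji : j = i
          · subst hji
            rw [Pi.single_eq_same, K.F_two h2 j]
          · rw [Pi.single_eq_of_ne hji, zero_add]
            exact hb j (by
              rw [Finset.mem_insert]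
              rintro (h6 | h6)
              · exact hji h6
              · exact hj h6)
      have h5 := (⨆ i, P i).mul_mem ((⨆ i, P i).inv_mem h3) h4
      rwa [inv_mul_cancel_left] at h5
  classical
  exact key Finset.univ b (fun j hj => absurd (Finset.mem_univ j) hj) r hr hb

/-- the same for elements of `R` trivial on `W_R` -/
theorem mem_iSup_of_fix (hRH : R ≤ H) (P : Fin k → Subgroup Y)
    (hP : ∀ i, ∀ r ∈ R, ∀ b : Fin k → F, (∀ j, j ≠ i → b j = 0) → Acts V H R co r (fun j => up (b j)) → r ∈ P i)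
    (i₀ : Fin k) {r : Y} (hr : r ∈ R) {n : ℕ} (hn : r ^ 2 ^ n = 1) (hfix : ∀ v ∈ WR V H R co, r • v = v) :
    r ∈ ⨆ i, P i := by
  obtain ⟨b, hb⟩ := K.exists_up h2 hRH hr hn hfix
  exact K.mem_iSup_of h2 hRH P hP i₀ hr hb

end KNat

end Cfsg.Agent.Omega.NO1.TH.K

end

section


/-!
# N1, the amalgam `(H, H^t)`, `S_n` type with `k` factors (bb OMEGA 21203, 21465): the hypotheses

`W = WW V H R`, `Q = QQ H R`, `W / D₀` the direct sum of `k` modules of even subsets of `2 ^ m + 1` letters,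
`co : V → Fin k → Fin (2 ^ m + 1) → ZMod 2` the coordinates (meaningful on `W` only), `D₀ = {w ∈ W | co w = 0}`.
Mirror of `K/Def.lean` (helper2).
-/

set_option autoImplicit false
set_option linter.unusedSectionVars false
set_option linter.dupNamespace false

namespace Cfsg.Agent.Omega.NO1.TH.K

open Subgroup Cfsg.Agent.Omega.NO1.AB Cfsg.Agent.Omega.FFBr
open scoped Pointwise

universe u

variable {Y : Type u} [Group Y]

/-- `g` acts on `W` as `(σ, τ)` in the coordinates. -/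
def ActS (V : Type u) [AddCommGroup V] [DistribMulAction Y V] (H R : Subgroup Y) {k n : ℕ}
    (co : V → Fin k → Fin n → ZMod 2) (g : Y) (σ : Equiv.Perm (Fin k)) (τ : Fin k → Equiv.Perm (Fin n)) : Prop :=
  ∀ v ∈ WW V H R, ∀ i x, co (g • v) (σ i) (τ i x) = co v i x

/-- `g` is trivial on `D₀ = {co = 0}` -/
def TrD (V : Type u) [AddCommGroup V] [DistribMulAction Y V] (H R : Subgroup Y) {k n : ℕ}
    (co : V → Fin k → Fin n → ZMod 2) (g : Y) : Prop :=
  ∀ d ∈ WW V H R, co d = 0 → g • d = d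

/-- `W / D₀` is the sum of `k` even-subset modules of `S_{2^m+1}` for `H`. -/
structure KSym (V : Type u) [AddCommGroup V] [DistribMulAction Y V] (H R : Subgroup Y) (k m : ℕ)
    (co : V → Fin k → Fin (2 ^ m + 1) → ZMod 2) : Prop where
  kpos : 0 < k
  two_le : 2 ≤ m
  add : ∀ v ∈ WW V H R, ∀ w ∈ WW V H R, co (v + w) = co v + co w
  even : ∀ v ∈ WW V H R, ∀ i, ∑ x, co v i x = 0
  surj : ∀ y : Fin k → Fin (2 ^ m + 1) → ZMod 2, (∀ i, ∑ x, y i x = 0) → ∃ v ∈ WW V H R, co v = y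
  lift : ∀ τ : Fin k → Equiv.Perm (Fin (2 ^ m + 1)), ∃ g ∈ H, ActS V H R co g 1 τ ∧ TrD V H R co g
  perm : ∀ g ∈ H, ∃ σ τ, ActS V H R co g σ τ
  trans : ∀ i j, ∃ r ∈ R, ∃ σ τ, ActS V H R co r σ τ ∧ σ i = j
  fix0 : ∀ r ∈ R, ∀ σ τ, ActS V H R co r σ τ → ∀ i, τ i 0 = 0
  gen : ∀ K : Subgroup Y, R ≤ K → K ≤ H →
    (∀ h ∈ H, ∀ τ, ActS V H R co h 1 τ → TrD V H R co h → h ∈ K) → K = H
  off : ∀ A ≤ R, ElAb A → ¬ A ≤ QQ H R →
    Nat.card ↥(A ⊓ QQ H R) * Nat.card ↥(WW V H R) ≤ Nat.card A * Nat.card ↥(fx V A ⊓ WW V H R) →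
      (∀ a ∈ A, TrD V H R co a) ∧
        ∀ a ∈ A, ∃ τ : Fin k → Equiv.Perm (Fin (2 ^ m + 1)), ActS V H R co a 1 τ ∧
          ∀ i x, τ i x ≠ x → τ i (τ i x) = x ∧
            ∃ b ∈ A, ActS V H R co b 1 (Function.update 1 i (Equiv.swap x (τ i x)))
  noOver : ∀ A ≤ R, ElAb A → Nat.card A * Nat.card ↥(fx V A ⊓ WW V H R) ≤
    Nat.card ↥(A ⊓ QQ H R) * Nat.card ↥(WW V H R)
  triv : ∀ r ∈ R, (∀ w ∈ WW V H R, co (r • w + w) = 0) → r ∈ QQ H R
  trivH : ∀ x ∈ H, (∀ w ∈ WW V H R, co (x • w) = co w) → ∀ w ∈ WW V H R, x • w = w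

variable {V : Type u} [AddCommGroup V] [DistribMulAction Y V]

/-! ### Derivation from `AbsSym` -/

section derive

variable {H R : Subgroup Y} {k n : ℕ}

open Classical in
/-- the coordinates -/
noncomputable def coS (e : Wm V H R → Fin k → Fin n → ZMod 2) (v : V) : Fin k → Fin n → ZMod 2 :=
  if h : v ∈ WW V H R then e (Multiplicative.ofAdd ⟨v, h⟩) else 0

theorem coS_vl (e : Wm V H R → Fin k → Fin n → ZMod 2) (m : Wm V H R) : coS e (vl V H R m) = e m := by
  unfold coS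
  rw [dif_pos (vl_mem m)]
  congr 1

theorem coS_smul (e : Wm V H R → Fin k → Fin n → ZMod 2) {g : Y} (hg : g ∈ H) (m : Wm V H R) :
    coS e (g • vl V H R m) = e (pr V H R ⟨g, hg⟩ • m) := by
  rw [← coS_vl e, vl_smul]

theorem actS_iff (e : Wm V H R → Fin k → Fin n → ZMod 2) {g : Y} (hg : g ∈ H) (σ : Equiv.Perm (Fin k))
    (τ : Fin k → Equiv.Perm (Fin n)) : ActS V H R (coS e) g σ τ ↔ AActsSym e (pr V H R ⟨g, hg⟩) σ τ := by
  constructor
  · intro h1 m i x
    have h3 := h1 _ (vl_mem m) i x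
    rwa [coS_vl, coS_smul e hg] at h3
  · intro h1 v hv i x
    obtain ⟨m, rfl⟩ := exists_vl hv
    rw [coS_smul e hg, coS_vl]
    exact h1 m i x

theorem trD_iff (e : Wm V H R → Fin k → Fin n → ZMod 2)
    (hker : ∀ v, e v = 0 ↔ v ∈ odd (XH V H R) (Wm V H R)) {g : Y} (hg : g ∈ H) :
    TrD V H R (coS e) g ↔ ∀ d ∈ odd (XH V H R) (Wm V H R), pr V H R ⟨g, hg⟩ • d = d := by
  constructor
  · intro h2 d hd
    rw [pr_fix]
    exact h2 _ (vl_mem d) (by rw [coS_vl]; exact (hker d).2 hd)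
  · intro h2 d hd h0
    obtain ⟨m, rfl⟩ := exists_vl hd
    rw [coS_vl] at h0
    exact pr_fix.1 (h2 m ((hker m).1 h0))

variable {m : ℕ}

/-- an element of odd order which is trivial on `V / D` and on `D` is trivial -/
theorem absSym_triv {X V' : Type*} [Group X] [Group V'] [MulDistribMulAction X V'] {T' : Subgroup X}
    (hc : ∀ v w : V', v * w = w * v) (hs : ∀ v : V', v * v = 1) (hf : ∀ x : X, (∀ v : V', x • v = v) → x = 1)
    (N : AbsSym T' V' k m) {x : X} (hx : ∀ v, N.e (x • v) = N.e v) (ho : Odd (orderOf x)) : x = 1 := by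
  have h1 : ∀ v : V', x • v * v ∈ odd X V' := by
    intro v
    rw [← N.ker, N.mul, hx, ← N.mul, hs, N.ker]
    exact (odd X V').one_mem
  have h2 : x * x = 1 := by
    apply hf
    intro v
    have h3 := h1 v x ho
    rw [smul_mul', ← mul_smul] at h3
    rw [hc (x • v) v] at h3
    exact mul_right_cancel h3
  have h4 : orderOf x ∣ 2 := orderOf_dvd_of_pow_eq_one (by rw [pow_two, h2])
  rcases (Nat.dvd_prime Nat.prime_two).1 h4 with h5 | h5
  · exact orderOf_eq_one_iff.1 h5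
  · rw [h5] at ho
    exact absurd ho (by decide)

/-- the elements trivial on `V / D` form a normal 2-subgroup -/
theorem absSym_core {X V' : Type*} [Group X] [Finite X] [Group V'] [MulDistribMulAction X V'] {T' : Subgroup X}
    (hc : ∀ v w : V', v * w = w * v) (hs : ∀ v : V', v * v = 1) (hf : ∀ x : X, (∀ v : V', x • v = v) → x = 1)
    (hcore : ∀ N : Subgroup X, N.Normal → IsPGroup 2 N → N = ⊥)
    (N : AbsSym T' V' k m) {x : X} (hx : ∀ v, N.e (x • v) = N.e v) : x = 1 := by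
  let N' : Subgroup X :=
    { carrier := {x | ∀ v, N.e (x • v) = N.e v}
      one_mem' := fun v => by rw [one_smul]
      mul_mem' := fun {x y} hx hy v => by rw [mul_smul, hx, hy]
      inv_mem' := fun {x} hx v => by rw [← hx (x⁻¹ • v), smul_inv_smul] }
  have hN' : ∀ y, y ∈ N' ↔ ∀ v, N.e (y • v) = N.e v := fun y => Iff.rfl
  have h1 : N' = ⊥ := by
    apply hcore
    · refine ⟨fun n hn g v => ?_⟩
      have h2 : N.e ((n • g⁻¹ • v) * (g⁻¹ • v)) = 0 := by
        rw [N.mul, hn (g⁻¹ • v), ← N.mul, hs, N.ker]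
        exact (odd X V').one_mem
      obtain ⟨σ, τ, hσ⟩ := N.perm g
      have h3 : N.e (g • ((n • g⁻¹ • v) * (g⁻¹ • v))) = 0 := by
        funext i x
        have h4 := hσ ((n • g⁻¹ • v) * (g⁻¹ • v)) (σ.symm i) ((τ (σ.symm i)).symm x)
        rw [Equiv.apply_symm_apply, Equiv.apply_symm_apply, h2] at h4
        exact h4
      rw [smul_mul', smul_inv_smul, N.mul, ← mul_smul, ← mul_smul] at h3
      have h5 : N.e v + N.e v = 0 := by
        rw [← N.mul, hs, N.ker]
        exact (odd X V').one_mem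
      exact (add_left_injective (N.e v)) (h3.trans h5.symm)
    · rw [IsPGroup.iff_orderOf]
      intro y
      have hpos : 0 < orderOf (y : X) := orderOf_pos _
      obtain ⟨n, m, hm, hnm⟩ := Nat.exists_eq_two_pow_mul_odd hpos.ne'
      have h2 : ((y : X) ^ 2 ^ n) = 1 := by
        apply absSym_triv hc hs hf N (x := (y : X) ^ 2 ^ n)
        · exact (N'.pow_mem y.2 _)
        · rw [orderOf_pow' _ (by positivity), hnm, Nat.gcd_eq_right (Dvd.intro _ rfl),
            Nat.mul_div_cancel_left _ (by positivity)]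
          exact hm
      obtain ⟨j, _, hj⟩ := (Nat.dvd_prime_pow Nat.prime_two).1 (orderOf_dvd_of_pow_eq_one h2)
      exact ⟨j, by rw [← hj, Subgroup.orderOf_coe]⟩
  have h2 : x ∈ N' := hx
  rw [h1, mem_bot] at h2
  exact h2

end derive

/-- **`KSym` from `AbsSym`** -/
theorem KSym.of_abs {k m : ℕ} [Finite Y] [Finite V] {U : Set (Subgroup Y)} {T : Sylow 2 Y}
    {M H R : Subgroup Y} {t : Y} (amb : Amb V U T M) (a : Amal U T M H R t) {P : Sylow 2 (XH V H R)}
    {M₁ : Subgroup (XH V H R)} (hA : Abs (XH V H R) (Wm V H R) P M₁)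
    (hP : ∀ x : XH V H R, x ∈ P ↔ ∃ r : H, (r : Y) ∈ R ∧ pr V H R r = x) (hno : ANoOver (XH V H R) (Wm V H R))
    (hk : 0 < k) (hm : 2 ≤ m)
    (N : AbsSym (P : Subgroup (XH V H R)) (Wm V H R) k m) : KSym V H R k m (coS N.e) := by
  have hcomm : ∀ {A : Subgroup Y}, A ≤ R → ElAb A →
      (∀ x ∈ (A.subgroupOf H).map (pr V H R), ∀ y ∈ (A.subgroupOf H).map (pr V H R), x * y = y * x) ∧
        ∀ x ∈ (A.subgroupOf H).map (pr V H R), x * x = 1 := by
    intro A _ hel
    refine ⟨?_, ?_⟩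
    · rintro _ ⟨x, hx, rfl⟩ _ ⟨y, hy, rfl⟩
      rw [← map_mul, ← map_mul]
      congr 1
      exact Subtype.ext (hel.1 x hx y hy)
    · rintro _ ⟨x, hx, rfl⟩
      rw [← map_mul]
      have : x * x = 1 := Subtype.ext (hel.2 x hx)
      rw [this, map_one]
  have htrD := fun {g : Y} (hg : g ∈ H) => trD_iff (n := 2 ^ m + 1) N.e N.ker hg
  refine
    { kpos := hk
      two_le := hm
      add := fun v hv w hw => ?_
      even := fun v hv i => ?_
      surj := fun x hx => ?_
      lift := fun τ => ?_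
      perm := fun g hg => ?_
      trans := fun i j => ?_
      fix0 := fun r hr σ τ hστ i => ?_
      gen := fun K hRK hKH hK => ?_
      off := fun A hAR hel hAQ hle => ?_
      noOver := fun A hAR hel => ?_
      triv := fun r hr hrw => ?_
      trivH := fun x hx hxw w hw => ?_ }
  · obtain ⟨m, rfl⟩ := exists_vl hv
    obtain ⟨n, rfl⟩ := exists_vl hw
    rw [← vl_mul, coS_vl, coS_vl, coS_vl, N.mul]
  · obtain ⟨m, rfl⟩ := exists_vl hv
    rw [coS_vl]
    exact N.even m i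
  · obtain ⟨m, hm⟩ := N.surj x hx
    exact ⟨_, vl_mem m, by rw [coS_vl, hm]⟩
  · obtain ⟨g, hg, hgd⟩ := N.lift τ
    obtain ⟨y, rfl⟩ := pr_surjective V H R g
    exact ⟨y, y.2, (actS_iff N.e y.2 1 τ).2 hg, (htrD y.2).2 hgd⟩
  · obtain ⟨σ, τ, hσ⟩ := N.perm (pr V H R ⟨g, hg⟩)
    exact ⟨σ, τ, (actS_iff N.e hg σ τ).2 hσ⟩
  · obtain ⟨x, hx, σ, τ, hστ, hij⟩ := N.trans i j
    obtain ⟨r, hr, rfl⟩ := (hP x).1 hx
    exact ⟨r, hr, σ, τ, (actS_iff N.e r.2 σ τ).2 hστ, hij⟩
  · exact N.fix0 (pr V H R ⟨r, a.RH hr⟩) ((hP _).2 ⟨_, hr, rfl⟩) σ τ ((actS_iff N.e (a.RH hr) σ τ).1 hστ) i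
  · have h1 : (K.subgroupOf H).map (pr V H R) = ⊤ := by
      apply N.gen
      · intro x hx
        obtain ⟨r, hr, rfl⟩ := (hP x).1 hx
        exact ⟨r, hRK hr, rfl⟩
      · intro x τ hx hxd
        obtain ⟨y, rfl⟩ := pr_surjective V H R x
        exact ⟨y, hK y y.2 τ ((actS_iff N.e y.2 1 τ).2 hx) ((htrD y.2).2 hxd), rfl⟩
    apply le_antisymm hKH
    intro x hx
    have h2 : pr V H R ⟨x, hx⟩ ∈ (K.subgroupOf H).map (pr V H R) := by rw [h1]; exact mem_top _
    obtain ⟨y, hy, hyx⟩ := h2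
    have h3 : pr V H R (y⁻¹ * ⟨x, hx⟩) = 1 := by rw [map_mul, map_inv, hyx, inv_mul_cancel]
    rw [pr_eq_one] at h3
    have h4 := hK ((y : Y)⁻¹ * x) (H.mul_mem (H.inv_mem y.2) hx) 1
      (fun v hv i x => by
        have h5 := h3 v hv
        simp only [Subgroup.coe_mul, Subgroup.coe_inv] at h5
        rw [h5]
        rfl)
      (fun d hd _ => h3 d hd)
    have h5 := K.mul_mem (show (y : Y) ∈ K from hy) h4
    rwa [mul_inv_cancel_left] at h5
  · obtain ⟨hI1, hI2⟩ := N.off ((A.subgroupOf H).map (pr V H R)) (by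
      rintro _ ⟨x, hx, rfl⟩
      exact (hP _).2 ⟨x, hAR hx, rfl⟩)
      { comm := (hcomm hAR hel).1
        sq := (hcomm hAR hel).2
        ne := by
          intro h1
          apply hAQ
          intro x hx
          rw [Amal.mem_QQ_iff a amb (hAR hx), ← pr_eq_one (x := ⟨x, a.RH (hAR hx)⟩), ← mem_bot, ← h1]
          exact ⟨_, hx, rfl⟩
        le := by
          have h2 := card_mapSub amb a hAR
          have h3 := card_cv (V := V) (R := R) (hAR.trans a.RH)
          rw [inf_comm (fx V A), ← h2, ← h3] at hle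
          have h4 : 0 < Nat.card ↥(A ⊓ QQ H R) := Nat.card_pos
          have h5 : 0 < Nat.card ↥(WW V H R ⊓ fx V A) := Nat.card_pos
          apply Nat.le_of_mul_le_mul_right _ (Nat.mul_pos h4 h5)
          calc _ = Nat.card ↥(A ⊓ QQ H R) * ((ClassTwoFusion.Quad.cv (Wm V H R)
                (((A.subgroupOf H).map (pr V H R) : Subgroup (XH V H R)) : Set (XH V H R))).index *
                  Nat.card ↥(WW V H R ⊓ fx V A)) := by ring
            _ ≤ _ := hle
            _ = _ := by ring }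
    refine ⟨fun x hx => (htrD (a.RH (hAR hx))).2 (hI1 (pr V H R ⟨x, a.RH (hAR hx)⟩) ⟨_, hx, rfl⟩),
      fun x hx => ?_⟩
    obtain ⟨τ, hτ, hτ2⟩ := hI2 (pr V H R ⟨x, a.RH (hAR hx)⟩) ⟨_, hx, rfl⟩
    refine ⟨τ, (actS_iff N.e _ 1 τ).2 hτ, fun i y hy => ?_⟩
    obtain ⟨h1, _, ⟨b, hb, rfl⟩, hb2⟩ := hτ2 i y hy
    exact ⟨h1, b, hb, (actS_iff N.e b.2 _ _).2 hb2⟩
  · have h1 := hno ((A.subgroupOf H).map (pr V H R)) (hcomm hAR hel).1 (hcomm hAR hel).2
    have h2 := card_mapSub amb a hAR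
    have h3 := card_cv (V := V) (R := R) (hAR.trans a.RH)
    rw [inf_comm (fx V A), ← h2, ← h3]
    calc _ = Nat.card ↥((A.subgroupOf H).map (pr V H R)) *
          (Nat.card ↥(A ⊓ QQ H R) * Nat.card ↥(WW V H R ⊓ fx V A)) := mul_assoc _ _ _
      _ ≤ _ := Nat.mul_le_mul_right _ h1
      _ = _ := by ring
  · rw [Amal.mem_QQ_iff a amb hr, ← pr_eq_one (x := ⟨r, a.RH hr⟩)]
    apply absSym_core hA.comm hA.sq hA.faith hA.core N
    intro m
    have h1 := hrw _ (vl_mem m)
    have h2 : (r : Y) • vl V H R m + vl V H R m = vl V H R ((pr V H R ⟨r, a.RH hr⟩ • m) * m) := by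
      rw [vl_mul, vl_smul]
    rw [h2, coS_vl, N.mul] at h1
    have h5 : N.e m + N.e m = 0 := by
      rw [← N.mul, hA.sq, N.ker]
      exact (odd _ _).one_mem
    exact (add_left_injective (N.e m)) (h1.trans h5.symm)
  · have h1 : pr V H R ⟨x, hx⟩ = 1 := by
      apply absSym_core hA.comm hA.sq hA.faith hA.core N
      intro m
      rw [← coS_smul N.e hx, hxw _ (vl_mem m), coS_vl]
    exact pr_eq_one.1 h1 w hw

/-! ### Transport -/

section transport

variable {H R : Subgroup Y} {k n : ℕ}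

theorem actS_conj {co : V → Fin k → Fin n → ZMod 2} {t : Y} {g : Y} {σ : Equiv.Perm (Fin k)}
    {τ : Fin k → Equiv.Perm (Fin n)} :
    ActS V (MulAut.conj t • H) (MulAut.conj t • R) (fun v => co (t⁻¹ • v)) g σ τ ↔
      ActS V H R co (t⁻¹ * g * t) σ τ := by
  have hW : WW V (MulAut.conj t • H) (MulAut.conj t • R) = t • WW V H R := WW_conj' t
  constructor
  · intro h1 v hv i x
    have h3 := h1 (t • v) (by rw [hW]; exact smul_mem_smul_as hv) i x
    simp only [hsm'', inv_smul_smul] at h3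
    exact h3
  · intro h1 v hv i x
    rw [hW, mem_smul_as] at hv
    have h3 := h1 _ hv i x
    simp only [hsm']
    exact h3

theorem trD_conj {co : V → Fin k → Fin n → ZMod 2} {t : Y} {g : Y} :
    TrD V (MulAut.conj t • H) (MulAut.conj t • R) (fun v => co (t⁻¹ • v)) g ↔ TrD V H R co (t⁻¹ * g * t) := by
  have hW : WW V (MulAut.conj t • H) (MulAut.conj t • R) = t • WW V H R := WW_conj' t
  constructor
  · intro h2 d hd h0
    have h3 := h2 (t • d) (by rw [hW]; exact smul_mem_smul_as hd) (by simp only [inv_smul_smul]; exact h0)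
    rw [mul_smul, mul_smul, h3, inv_smul_smul]
  · intro h2 d hd h0
    rw [hW, mem_smul_as] at hd
    have h3 := h2 _ hd h0
    rwa [← hsm', smul_left_cancel_iff] at h3

variable {m : ℕ} {co : V → Fin k → Fin (2 ^ m + 1) → ZMod 2}

/-- transport with an arbitrary element -/
theorem KSym.conj [Finite Y] (K : KSym V H R k m co) (t : Y) :
    KSym V (MulAut.conj t • H) (MulAut.conj t • R) k m (fun v => co (t⁻¹ • v)) := by
  have hQ : QQ (MulAut.conj t • H) (MulAut.conj t • R) = MulAut.conj t • QQ H R := QQ_conj' t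
  have hW : WW V (MulAut.conj t • H) (MulAut.conj t • R) = t • WW V H R := WW_conj' t
  have hle : ∀ {A K : Subgroup Y}, MulAut.conj t⁻¹ • A ≤ K ↔ A ≤ MulAut.conj t • K := by
    intro A K
    rw [conj_le_iff, inv_inv]
  have hback : ∀ r : Y, t⁻¹ * (t * r * t⁻¹) * t = r := fun r => by group
  refine
    { kpos := K.kpos
      two_le := K.two_le
      add := fun v hv w hw => ?_
      even := fun v hv i => ?_
      surj := fun x hx => ?_
      lift := fun τ => ?_
      perm := fun g hg => ?_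
      trans := fun i j => ?_
      fix0 := fun r hr σ τ hστ i => ?_
      gen := fun L hRL hLH hL => ?_
      off := fun A hAR hel hAQ h1 => ?_
      noOver := fun A hAR hel => ?_
      triv := fun r hr hrw => ?_
      trivH := fun x hx hxw w hw => ?_ }
  · rw [hW, mem_smul_as] at hv hw
    simp only [smul_add]
    exact K.add _ hv _ hw
  · rw [hW, mem_smul_as] at hv
    exact K.even _ hv i
  · obtain ⟨v, hv, hx⟩ := K.surj x hx
    refine ⟨t • v, by rw [hW]; exact smul_mem_smul_as hv, ?_⟩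
    simp only [inv_smul_smul]
    exact hx
  · obtain ⟨g, hg, hgA, hgd⟩ := K.lift τ
    refine ⟨t * g * t⁻¹, conj_mem_conj hg, ?_, ?_⟩
    · rw [actS_conj, hback]
      exact hgA
    · rw [trD_conj, hback]
      exact hgd
  · rw [mem_conj] at hg
    obtain ⟨σ, τ, hσ⟩ := K.perm _ hg
    exact ⟨σ, τ, actS_conj.2 hσ⟩
  · obtain ⟨r, hr, σ, τ, hrs, hij⟩ := K.trans i j
    refine ⟨t * r * t⁻¹, conj_mem_conj hr, σ, τ, ?_, hij⟩
    rw [actS_conj, hback]
    exact hrs
  · rw [mem_conj] at hr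
    exact K.fix0 _ hr σ τ (actS_conj.1 hστ) i
  · have h1 : MulAut.conj t⁻¹ • L = H := by
      apply K.gen
      · intro r hr
        rw [mem_conj, inv_inv]
        exact hRL (conj_mem_conj hr)
      · rw [hle]
        exact hLH
      · intro h hh τ hhτ hhd
        rw [mem_conj, inv_inv]
        apply hL _ (conj_mem_conj hh) τ
        · rw [actS_conj, hback]
          exact hhτ
        · rw [trD_conj, hback]
          exact hhd
    rw [← h1, conj_inv_smul]
  · obtain ⟨hI1, hI2⟩ := K.off _ (hle.2 hAR) (hel.conj t⁻¹) (fun h2 => hAQ (by rw [hQ, ← hle]; exact h2)) (by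
      rw [conj_card, card_inf_conj, card_fx_conj]
      rw [hQ, hW, card_smul_as] at h1
      exact h1)
    refine ⟨fun x hx => ?_, fun x hx => ?_⟩
    · rw [trD_conj]
      apply hI1
      rw [mem_conj, inv_inv]
      have e : t * (t⁻¹ * x * t) * t⁻¹ = x := by group
      rwa [e]
    · obtain ⟨τ, hτ, hτ2⟩ := hI2 (t⁻¹ * x * t) (by
        rw [mem_conj, inv_inv]
        have e : t * (t⁻¹ * x * t) * t⁻¹ = x := by group
        rwa [e])
      refine ⟨τ, actS_conj.2 hτ, fun i y hy => ?_⟩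
      obtain ⟨h2, b, hb, hb2⟩ := hτ2 i y hy
      rw [mem_conj, inv_inv] at hb
      refine ⟨h2, _, hb, ?_⟩
      rw [actS_conj, hback]
      exact hb2
  · have h1 := K.noOver _ (hle.2 hAR) (hel.conj t⁻¹)
    rw [conj_card, card_inf_conj, card_fx_conj] at h1
    rw [hQ, hW, card_smul_as]
    exact h1
  · rw [mem_conj] at hr
    rw [hQ, mem_conj]
    apply K.triv _ hr
    intro w hw
    have h3 := hrw (t • w) (by rw [hW]; exact smul_mem_smul_as hw)
    simp only [smul_add, hsm'', inv_smul_smul] at h3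
    exact h3
  · rw [mem_conj] at hx
    rw [hW, mem_smul_as] at hw
    have h3 := K.trivH _ hx (fun w hw => by
      have h4 := hxw (t • w) (by rw [hW]; exact smul_mem_smul_as hw)
      simp only [hsm'', inv_smul_smul] at h4
      exact h4) _ hw
    rwa [← hsm', smul_left_cancel_iff] at h3

/-- transport with `t` -/
theorem KSym.conj_t [Finite Y] {U : Set (Subgroup Y)} {T : Sylow 2 Y} {M : Subgroup Y} {t : Y}
    (a : Amal U T M H R t) (K : KSym V H R k m co) :
    KSym V (MulAut.conj t • H) R k m (fun v => co (t⁻¹ • v)) := by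
  have h1 := K.conj t
  rwa [conj_of_mem a.t_norm] at h1

end transport

/-- Both sides of the amalgam, `H' = H^t`; `WE` : no member in `R` of type ALPHA (#20114). -/
structure TwoS (V : Type u) [AddCommGroup V] [DistribMulAction Y V] (U : Set (Subgroup Y)) (T : Sylow 2 Y)
    (M H H' R : Subgroup Y) (k m : ℕ) (co co' : V → Fin k → Fin (2 ^ m + 1) → ZMod 2) (t : Y) : Prop where
  amb : Amb V U T M
  a : Amal U T M H R t
  a' : Amal U T M H' R t
  K : KSym V H R k m co
  K' : KSym V H' R k m co'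
  H'_eq : H' = MulAut.conj t • H
  H_eq : H = MulAut.conj t • H'
  we : WE V U H R
  we' : WE V U H' R

theorem TwoS.swap {U : Set (Subgroup Y)} {T : Sylow 2 Y} {M H H' R : Subgroup Y} {k m : ℕ}
    {co co' : V → Fin k → Fin (2 ^ m + 1) → ZMod 2} {t : Y} (h : TwoS V U T M H H' R k m co co' t) :
    TwoS V U T M H' H R k m co' co t where
  amb := h.amb
  a := h.a'
  a' := h.a
  K := h.K'
  K' := h.K
  H'_eq := h.H_eq
  H_eq := h.H'_eq
  we := h.we'
  we' := h.we

theorem KSym.twoS [Finite Y] [Finite V] {U : Set (Subgroup Y)} {T : Sylow 2 Y} {M H R : Subgroup Y}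
    {k m : ℕ} {co : V → Fin k → Fin (2 ^ m + 1) → ZMod 2} {t : Y} (amb : Amb V U T M) (a : Amal U T M H R t)
    (K : KSym V H R k m co) (we : WE V U H R) :
    TwoS V U T M H (MulAut.conj t • H) R k m co (fun v => co (t⁻¹ • v)) t where
  amb := amb
  a := a
  a' := a.conj_t amb.cls amb.TM
  K := K
  K' := K.conj_t a
  H'_eq := rfl
  H_eq := by
    rw [conj_smul_smul]
    exact (conj_of_mem fun x hx => H.mul_mem (H.mul_mem (a.RH a.t_sq) hx) (H.inv_mem (a.RH a.t_sq))).symm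
  we := we
  we' := fun B hB hBR => by
    rw [WW_conj (fun v => a.smul_V0) fun v => a.smul_V0']
    exact a.tW_le_Ee amb we hB hBR

/-- `S_n` type of the FF theorem: `TwoS` -/
theorem exists_twoS [Finite Y] [Finite V] {U : Set (Subgroup Y)} {T : Sylow 2 Y} {M H R : Subgroup Y} {t : Y}
    (amb : Amb V U T M) (a : Amal U T M H R t) (we : WE V U H R) {P : Sylow 2 (XH V H R)} {M₁ : Subgroup (XH V H R)}
    (hA : Abs (XH V H R) (Wm V H R) P M₁)
    (hP : ∀ x : XH V H R, x ∈ P ↔ ∃ r : H, (r : Y) ∈ R ∧ pr V H R r = x) (hno : ANoOver (XH V H R) (Wm V H R))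
    {k m : ℕ} (hk : 0 < k) (hm : 2 ≤ m) (N : AbsSym (P : Subgroup (XH V H R)) (Wm V H R) k m) :
    ∃ co : V → Fin k → Fin (2 ^ m + 1) → ZMod 2,
      TwoS V U T M H (MulAut.conj t • H) R k m co (fun v => co (t⁻¹ • v)) t :=
  ⟨_, KSym.twoS amb a (KSym.of_abs amb a hA hP hno hk hm N) we⟩

end Cfsg.Agent.Omega.NO1.TH.K

end
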