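import Cfsg.Agent.Mrg.Omega.OmThm.NoOv
import Cfsg.Agent.Mrg.Omega.NO1.AB.Loc
import Cfsg.Agent.Mrg.Omega.NO1.AB.Beta

section


/-!
# No over-offender in the noncentral sections of a module (additive form)

`noOvV` : `T` a Sylow 2-subgroup of `L` in a unique maximal subgroup, `A ≤ K ≤ C` in `V`, `A`, `C` invariant under `L`,
`C/A` noncentral for `O²(L)`, `E` an elementary abelian 2-subgroup with `[K, E] ≤ A`, `E ∩ O₂(L) = 1`: then
`|E| |K| ≤ |C|`.  (Semidirect product with `NoOvQ.noOvQ`.)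
-/

set_option autoImplicit false
set_option linter.unusedSectionVars false

namespace Cfsg.Agent.Omega.NO1.TH

open Subgroup Cfsg.Agent.ZN
open Cfsg.Agent.MinSimple.MinParabolic (IsMin IsMinPar)
open Cfsg.Agent.Omega.NO1.TH.MF (Inv)
open scoped Pointwise

universe u

/-- `O²(L)` -/
def od (L : Type u) [Group L] : Subgroup L := closure {x | Odd (orderOf x)}

section od

variable {L : Type u} [Group L]

theorem mem_od {x : L} (h : Odd (orderOf x)) : x ∈ od L := subset_closure h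

instance od_normal : (od L).Normal := by
  refine ⟨fun n hn g => ?_⟩
  have h1 : (od L).map (MulAut.conj g).toMonoidHom ≤ od L := by
    rw [od, MonoidHom.map_closure, closure_le]
    rintro _ ⟨y, hy, rfl⟩
    apply mem_od
    have : orderOf ((MulAut.conj g).toMonoidHom y) = orderOf y :=
      orderOf_injective _ (MulAut.conj g).injective y
    rw [this]
    exact hy
  exact h1 ⟨n, hn, rfl⟩

/-- `O²(L) T = L` -/
theorem od_sup [Finite L] (T : Sylow 2 L) : od L ⊔ (T : Subgroup L) = ⊤ := by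
  have f2 : Fact (Nat.Prime 2) := ⟨Nat.prime_two⟩
  have h2 : IsPGroup 2 (L ⧸ od L) := by
    intro x
    induction x using QuotientGroup.induction_on with
    | H x =>
      -- `x ^ (2 ^ k)` has odd order
      have hpos : 0 < orderOf x := orderOf_pos x
      obtain ⟨k, m, hm, hkm⟩ := Nat.exists_eq_two_pow_mul_odd hpos.ne'
      refine ⟨k, ?_⟩
      rw [← QuotientGroup.mk_pow, QuotientGroup.eq_one_iff]
      apply mem_od
      have h3 : orderOf (x ^ 2 ^ k) = m := by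
        rw [orderOf_pow_of_dvd (by positivity) (by rw [hkm]; exact Dvd.intro _ rfl), hkm,
          Nat.mul_div_cancel_left _ (by positivity)]
      rw [h3]
      exact hm
  have h3 : (od L ⊔ (T : Subgroup L)).index = 1 := by
    have h4 : (od L ⊔ (T : Subgroup L)).index ∣ (T : Subgroup L).index := index_dvd_of_le le_sup_right
    have h5 : (od L ⊔ (T : Subgroup L)).index ∣ (od L).index := index_dvd_of_le le_sup_left
    obtain ⟨n, hn⟩ := IsPGroup.iff_card.1 h2
    rw [← index_eq_card] at hn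
    rw [hn] at h5
    obtain ⟨j, hj, hj2⟩ := (Nat.dvd_prime_pow Nat.prime_two).1 h5
    have h6 : ¬ 2 ∣ (T : Subgroup L).index := T.not_dvd_index
    by_cases hj0 : j = 0
    · rw [hj2, hj0, pow_zero]
    · exfalso
      apply h6
      rw [hj2] at h4
      exact (dvd_pow_self 2 hj0).trans h4
  exact index_eq_one.1 h3

end od

theorem rel_card {G : Type u} [Group G] {H K : Subgroup G} (h : H ≤ K) :
    H.relIndex K * Nat.card H = Nat.card K := by
  have h1 := (H.subgroupOf K).card_mul_index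
  rw [Nat.card_congr (subgroupOfEquivOfLe h).toEquiv] at h1
  rw [mul_comm]
  exact h1

/-- `O₂` of the image of an injective homomorphism -/
theorem o2_range_le {L G : Type u} [Group L] [Group G] [Finite G] {f : L →* G} (hf : Function.Injective f) :
    o2 f.range ≤ (pCore 2 L).map f := by
  have f2 : Fact (Nat.Prime 2) := ⟨Nat.prime_two⟩
  have hn : ((o2 f.range).comap f).Normal := by
    refine ⟨fun n hn g => ?_⟩
    obtain ⟨y, hy, hy2⟩ := hn
    have hpn : (pCore 2 f.range).Normal := Lib.Cores.pCore_normal 2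
    refine ⟨⟨f g, g, rfl⟩ * y * ⟨f g, g, rfl⟩⁻¹, hpn.conj_mem y hy _, ?_⟩
    change f g * (y : G) * (f g)⁻¹ = f (g * n * g⁻¹)
    rw [show (y : G) = f n from hy2, map_mul, map_mul, map_inv]
  have hp : IsPGroup 2 ((o2 f.range).comap f) :=
    ((Lib.Cores.pCore_isPGroup (G := f.range) 2).map f.range.subtype).comap_of_injective _ hf
  have h3 : (o2 f.range).comap f ≤ pCore 2 L := Lib.Cores.le_pCore hn hp
  rintro _ ⟨y, hy, rfl⟩
  obtain ⟨l, hl⟩ := y.2
  refine ⟨l, h3 ?_, hl⟩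
  rw [mem_comap, hl]
  exact ⟨y, hy, rfl⟩

theorem syl_map {L G : Type u} [Group L] [Group G] {f : L →* G} (hf : Function.Injective f) (T : Sylow 2 L) :
    ChoiceSit.Syl ((T : Subgroup L).map f) f.range := by
  refine ⟨map_le_range _ _, T.2.map _, fun Q hQX hQ2 hTQ => ?_⟩
  have h1 : Q = (Q.comap f).map f := (map_comap_eq_self hQX).symm
  have h2 : (T : Subgroup L) ≤ Q.comap f := map_le_iff_le_comap.1 hTQ
  have h3 : IsPGroup 2 (Q.comap f) := hQ2.comap_of_injective _ hf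
  rw [h1, T.3 h3 h2]

theorem par_map {L G : Type u} [Group L] [Group G] {f : L →* G} (hf : Function.Injective f) {T M : Subgroup L}
    (hTn : ¬ T.Normal) (hM : IsMin T M) : IsMinPar (T.map f) f.range := by
  refine ⟨map_le_range _ _, fun h => hTn ?_, M.map f, ?_, fun K hTK hKX => ?_⟩
  · refine ⟨fun n hn g => ?_⟩
    have h1 := (mem_normalizer_iff.1 (h (MonoidHom.mem_range.2 ⟨g, rfl⟩)) (f n)).1 (mem_map_of_mem f hn)
    rw [← map_mul, ← map_inv, ← map_mul] at h1
    obtain ⟨m, hm, hm2⟩ := h1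
    rw [← hf hm2]
    exact hm
  · refine lt_of_le_of_ne (map_le_range _ _) fun h => hM.ne_top ?_
    rw [eq_top_iff]
    intro l _
    have h1 : f l ∈ M.map f := by rw [h]; exact ⟨l, rfl⟩
    obtain ⟨m, hm, hm2⟩ := h1
    rw [← hf hm2]
    exact hm
  · have h1 : K = (K.comap f).map f := (map_comap_eq_self hKX.le).symm
    have h2 : T ≤ K.comap f := map_le_iff_le_comap.1 hTK
    rw [h1]
    apply map_mono
    apply hM.le_of _ h2
    intro h3
    apply hKX.ne
    rw [h1, h3, MonoidHom.range_eq_map]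

theorem od_map {L G : Type u} [Group L] [Group G] {f : L →* G} (hf : Function.Injective f) {x : L} (hx : x ∈ od L) :
    f x ∈ MinSimple.VModule.oddGen f.range := by
  have h1 : (od L).map f ≤ MinSimple.VModule.oddGen f.range := by
    rw [od, MonoidHom.map_closure, closure_le]
    rintro _ ⟨y, hy, rfl⟩
    refine MinSimple.VModule.mem_oddGen (P := f.range) (MonoidHom.mem_range.2 ⟨y, rfl⟩) ?_
    rw [orderOf_injective _ hf]
    exact hy
  exact h1 ⟨x, hx, rfl⟩

section sd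

variable {L V : Type u} [Group L] [AddCommGroup V] [DistribMulAction L V]

/-- the action on `Multiplicative V` -/
def phi (L V : Type u) [Group L] [AddCommGroup V] [DistribMulAction L V] : L →* MulAut (Multiplicative V) where
  toFun l :=
    { toFun := fun v => Multiplicative.ofAdd (l • Multiplicative.toAdd v)
      invFun := fun v => Multiplicative.ofAdd (l⁻¹ • Multiplicative.toAdd v)
      left_inv := fun v => inv_smul_smul l (Multiplicative.toAdd v)
      right_inv := fun v => smul_inv_smul l (Multiplicative.toAdd v)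
      map_mul' := fun v w => smul_add l (Multiplicative.toAdd v) (Multiplicative.toAdd w) }
  map_one' := MulEquiv.ext fun v => one_smul L (Multiplicative.toAdd v)
  map_mul' g h := MulEquiv.ext fun v => mul_smul g h (Multiplicative.toAdd v)

/-- `V ⋊ L` -/
abbrev SD (L V : Type u) [Group L] [AddCommGroup V] [DistribMulAction L V] : Type u :=
  Multiplicative V ⋊[phi L V] L

instance [Finite L] [Finite V] : Finite (SD L V) :=
  have : Finite (Multiplicative V) := inferInstanceAs (Finite V)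
  Finite.of_equiv _ SemidirectProduct.equivProd.symm

/-- `V → V ⋊ L` -/
def iv (v : V) : SD L V := SemidirectProduct.inl (Multiplicative.ofAdd v)

/-- `L → V ⋊ L` -/
def il : L →* SD L V := SemidirectProduct.inr

theorem il_inj : Function.Injective (il : L →* SD L V) := SemidirectProduct.inr_injective

theorem iv_inj {v w : V} (h : (iv v : SD L V) = iv w) : v = w :=
  Multiplicative.ofAdd.injective (SemidirectProduct.inl_injective (φ := phi L V) h)

theorem iv_add (v w : V) : (iv (v + w) : SD L V) = iv v * iv w := by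
  rw [iv, ofAdd_add, map_mul]; rfl

theorem iv_zero : (iv (0 : V) : SD L V) = 1 := by
  rw [iv, ofAdd_zero, map_one]

theorem iv_inv (v : V) : (iv v : SD L V)⁻¹ = iv (-v) := by
  rw [iv, iv, ofAdd_neg, map_inv]

theorem conj_iv (l : L) (v : V) : il l * (iv v : SD L V) * (il l)⁻¹ = iv (l • v) := by
  have := SemidirectProduct.inl_aut (φ := phi L V) l (Multiplicative.ofAdd v)
  rw [map_inv] at this
  exact this.symm

/-- a submodule in `V ⋊ L` -/
def em (L : Type u) [Group L] [DistribMulAction L V] (A : AddSubgroup V) : Subgroup (SD L V) where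
  carrier := {x | ∃ a ∈ A, x = iv a}
  one_mem' := ⟨0, A.zero_mem, iv_zero.symm⟩
  mul_mem' := by
    rintro _ _ ⟨a, ha, rfl⟩ ⟨b, hb, rfl⟩
    exact ⟨a + b, A.add_mem ha hb, (iv_add a b).symm⟩
  inv_mem' := by
    rintro _ ⟨a, ha, rfl⟩
    exact ⟨-a, A.neg_mem ha, iv_inv a⟩

theorem mem_em {A : AddSubgroup V} {v : V} : (iv v : SD L V) ∈ em L A ↔ v ∈ A := by
  constructor
  · rintro ⟨a, ha, h⟩
    rw [iv_inj h]; exact ha
  · intro h
    exact ⟨v, h, rfl⟩

theorem card_em (A : AddSubgroup V) : Nat.card (em L A) = Nat.card A := by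
  symm
  apply Nat.card_congr
  refine Equiv.ofBijective (fun a : A => (⟨iv (a : V), a, a.2, rfl⟩ : em L A)) ⟨?_, ?_⟩
  · intro a b h
    exact Subtype.ext (iv_inj (congrArg Subtype.val h))
  · rintro ⟨_, a, ha, rfl⟩
    exact ⟨⟨a, ha⟩, rfl⟩

theorem em_mono {A B : AddSubgroup V} (h : A ≤ B) : em L A ≤ em L B := by
  rintro _ ⟨a, ha, rfl⟩
  exact ⟨a, h ha, rfl⟩

end sd

section main

variable {L V : Type u} [Group L] [AddCommGroup V] [DistribMulAction L V]

/-- **No over-offender in the noncentral sections of `V`.** -/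
theorem noOvV [Finite L] [Finite V] (two : ∀ v : V, v + v = 0) (T : Sylow 2 L) {M : Subgroup L}
    (hM : IsMin (T : Subgroup L) M) {A K C : AddSubgroup V} (hAK : A ≤ K) (hKC : K ≤ C)
    (hA : Inv (⊤ : Subgroup L) A) (hC : Inv (⊤ : Subgroup L) C) (hnt : ∃ c ∈ C, ∃ x ∈ od L, x • c + c ∉ A)
    {E : Subgroup L} (hE2 : IsPGroup 2 E) (hEc : ∀ a ∈ E, ∀ b ∈ E, a * b = b * a) (hEs : ∀ a ∈ E, a * a = 1)
    (hEQ : E ⊓ pCore 2 L = ⊥) (hKE : ∀ b ∈ K, ∀ e ∈ E, e • b + b ∈ A) : Nat.card E * Nat.card K ≤ Nat.card C := by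
  classical
  have f2 : Fact (Nat.Prime 2) := ⟨Nat.prime_two⟩
  have hneg : ∀ v : V, -v = v := fun v => by rw [neg_eq_iff_add_eq_zero, two]
  have hilv : ∀ (l : L) (v : V), il l * (iv v : SD L V) * (il l)⁻¹ = iv (l • v) := conj_iv
  by_cases hTn : (T : Subgroup L).Normal
  · -- `E = 1`
    have h1 : E = ⊥ := by
      rw [← hEQ, eq_comm, inf_eq_left]
      obtain ⟨Q, hQ⟩ := hE2.exists_le_sylow
      obtain ⟨g, hg⟩ := MulAction.exists_smul_eq L T Q
      have h2 : (T : Subgroup L) ≤ pCore 2 L := Lib.Cores.le_pCore hTn T.2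
      refine le_trans ?_ h2
      intro e he
      have h3 := hQ he
      rw [← hg, Sylow.coe_subgroup_smul, mem_pointwise_smul_iff_inv_smul_mem, MulAut.smul_def, ← map_inv,
        MulAut.conj_apply, inv_inv] at h3
      have h4 := hTn.conj_mem _ h3 g
      have e1 : g * (g⁻¹ * e * g) * g⁻¹ = e := by group
      rwa [e1] at h4
    rw [h1, Subgroup.card_bot, one_mul]
    exact Nat.card_le_card_of_injective _ (AddSubgroup.inclusion_injective hKC)
  -- the groups
  set X : Subgroup (SD L V) := (il : L →* SD L V).range with hX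
  have hmemX : ∀ l : L, (il l : SD L V) ∈ X := fun l => ⟨l, rfl⟩
  have hmapX : ∀ H : Subgroup L, H.map il ≤ X := fun H => map_le_range _ _
  have hTS : ChoiceSit.Syl ((T : Subgroup L).map il) X := syl_map il_inj T
  have hpar : IsMinPar ((T : Subgroup L).map il) X := par_map il_inj hTn hM
  have hnorm : ∀ B : AddSubgroup V, Inv (⊤ : Subgroup L) B → X ≤ normalizer (em L B : Set (SD L V)) := by
    intro B hB
    have key : ∀ l : L, ∀ x ∈ em L B, il l * x * (il l)⁻¹ ∈ em L B := by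
      rintro l _ ⟨b, hb, rfl⟩
      rw [hilv]
      exact ⟨_, hB l (mem_top l) b hb, rfl⟩
    rintro _ ⟨l, rfl⟩
    rw [mem_normalizer_iff]
    intro x
    refine ⟨key l x, fun hx => ?_⟩
    have := key l⁻¹ _ hx
    rw [map_inv] at this
    have e : (il l : SD L V)⁻¹ * (il l * x * (il l)⁻¹) * (il l : SD L V)⁻¹⁻¹ = x := by group
    rwa [e] at this
  have hod : ∀ x ∈ od L, (il x : SD L V) ∈ MinSimple.VModule.oddGen X := fun x hx => od_map il_inj hx
  have hcm : ∀ (v : V) (l : L), (iv v : SD L V) * il l * (iv v)⁻¹ * (il l)⁻¹ = iv (l • v + v) := by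
    intro v l
    have h1 : (iv v : SD L V) * il l * (iv v)⁻¹ * (il l)⁻¹ = iv v * (il l * (iv v)⁻¹ * (il l)⁻¹) := by group
    rw [h1, iv_inv, hneg, hilv, ← iv_add, add_comm]
  have hcmV : ∀ x ∈ em L (⊤ : AddSubgroup V), ∀ y ∈ em L (⊤ : AddSubgroup V), x * y = y * x := by
    rintro _ ⟨a, _, rfl⟩ _ ⟨b, _, rfl⟩
    rw [← iv_add, ← iv_add, add_comm]
  have main := WRF.NoOvQ.noOvQ (W := em L (⊤ : AddSubgroup V)) (A := em L A) (K := em L K) (C := em L C)
    (E := E.map il) hTS hpar hcmV (by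
      rintro _ ⟨a, _, rfl⟩
      rw [← iv_add, two, iv_zero]) (em_mono hAK) (em_mono hKC) (em_mono le_top) (hnorm A hA) (hnorm C hC) (by
      obtain ⟨c, hc, x, hx, h⟩ := hnt
      refine ⟨iv c, mem_em.2 hc, il x, hod x hx, fun h1 => h ?_⟩
      rw [hcm] at h1
      exact mem_em.1 h1) (hmapX _) (hE2.map _) (by
      rintro _ ⟨s, hs, rfl⟩ _ ⟨t, ht, rfl⟩ _ ⟨v, hv, rfl⟩
      rw [hilv, hilv, hilv, hilv, ← mul_smul, ← mul_smul, hEc s hs t ht]) (by
      rintro _ ⟨s, hs, rfl⟩ _ ⟨v, hv, rfl⟩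
      rw [hilv, hilv, ← mul_smul, hEs s hs, one_smul]) (by
      rintro _ ⟨b, hb, rfl⟩ _ ⟨e, he, rfl⟩
      rw [hcm]
      exact mem_em.2 (hKE b hb e he))
  have ho2 : o2 X ⊓ E.map il = ⊥ := by
    rw [eq_bot_iff]
    rintro _ ⟨h1, e, he, rfl⟩
    have h2 : o2 X ≤ (pCore 2 L).map il := o2_range_le il_inj
    obtain ⟨q, hq, hq2⟩ := h2 h1
    have h4 : e ∈ E ⊓ pCore 2 L := ⟨he, by rw [← il_inj hq2]; exact hq⟩
    rw [hEQ, mem_bot] at h4
    rw [mem_bot, h4, map_one]
  have h1 : (o2 X).relIndex (E.map il) = Nat.card E := by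
    rw [← inf_relIndex_right, ho2, relIndex_bot_left]
    exact (Nat.card_congr (E.equivMapOfInjective _ il_inj).toEquiv).symm
  rw [h1] at main
  have h2 := rel_card (em_mono (L := L) hKC)
  rw [card_em, card_em] at h2
  rw [← h2]
  exact Nat.mul_le_mul_right _ main

end main

end Cfsg.Agent.Omega.NO1.TH

end

section


/-!
# N1, LEMMA Q (bb OMEGA 20114, helper620): `W ≰ E_U` implies `O₂(H) = 1`

Abstract form: `L` acts faithfully on `V`, `T ∈ Syl₂(L)` lies in a unique maximal subgroup, `C_V(L) = 0`, `U ≤ T` a member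
with `|V : E| < |U|`, no offender, `W = ⟨C_V(T)^L⟩ ≰ E`. Then `O₂(L) = 1`, and `V' = [V, O²(L)]` is contained in every
nonzero `L`-submodule (`LQ.le_of_ne`).
Amalgam form: `Amal.lemQ`.
-/

set_option autoImplicit false
set_option linter.unusedSectionVars false

namespace Cfsg.Agent.Omega.NO1.TH

open Subgroup Cfsg.Agent.Omega.NO1.AB
open Cfsg.Agent.MinSimple.MinParabolic (IsMin IsMinPar)
open Cfsg.Agent.Omega.NO1.TH.MF (Inv)
open scoped Pointwise

universe u

variable {L : Type u} [Group L] {V : Type u} [AddCommGroup V] [DistribMulAction L V]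

/-- The hypotheses of LEMMA Q, without `W ≰ E`. -/
structure LQ (T : Sylow 2 L) (M U : Subgroup L) (E F : AddSubgroup V) : Prop where
  two : ∀ v : V, v + v = 0
  faith : ∀ l : L, (∀ v : V, l • v = v) → l = 1
  min : IsMin (T : Subgroup L) M
  fix : ∀ v : V, (∀ l : L, l • v = v) → v = 0
  mem : Mem U E F
  UT : U ≤ (T : Subgroup L)
  lt : E.index < Nat.card U

/-- no offender -/
def NoOff (L : Type u) [Group L] (V : Type u) [AddCommGroup V] [DistribMulAction L V] : Prop :=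
  ∀ B : Subgroup L, (∀ a ∈ B, ∀ b ∈ B, a * b = b * a) → (∀ a ∈ B, a * a = 1) → B ≠ ⊥ →
    Nat.card B < (fx V B).index

/-- `[V, O²(L)]` -/
def VO (L : Type u) [Group L] (V : Type u) [AddCommGroup V] [DistribMulAction L V] : AddSubgroup V :=
  AddSubgroup.closure {w | ∃ x ∈ od L, ∃ v : V, w = x • v + v}

theorem mem_VO {x : L} (hx : x ∈ od L) (v : V) : x • v + v ∈ VO L V := AddSubgroup.subset_closure ⟨x, hx, v, rfl⟩

theorem VO_inv : Inv (⊤ : Subgroup L) (VO L V) := by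
  intro l _ w hw
  induction hw using AddSubgroup.closure_induction with
  | mem w hw =>
    obtain ⟨x, hx, v, rfl⟩ := hw
    have h1 : l • (x • v + v) = (l * x * l⁻¹) • (l • v) + l • v := by
      rw [smul_add, ← mul_smul, ← mul_smul, inv_mul_cancel_right]
    rw [h1]
    exact mem_VO (od_normal.conj_mem x hx l) _
  | zero => rw [smul_zero]; exact zero_mem _
  | add a b _ _ h1 h2 => rw [smul_add]; exact add_mem h1 h2
  | neg a _ h1 => rw [smul_neg]; exact neg_mem h1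

/-- `V' ≤ A` or the section `V/A` is noncentral -/
theorem VO_le_or (A : AddSubgroup V) : VO L V ≤ A ∨ ∃ c ∈ (⊤ : AddSubgroup V), ∃ x ∈ od L, x • c + c ∉ A := by
  by_cases h : ∃ c ∈ (⊤ : AddSubgroup V), ∃ x ∈ od L, x • c + c ∉ A
  · exact Or.inr h
  · left
    push Not at h
    rw [VO, AddSubgroup.closure_le]
    rintro _ ⟨x, hx, v, rfl⟩
    exact h v (AddSubgroup.mem_top v) x hx

theorem inv_sup_F {U : Subgroup L} {E F A : AddSubgroup V} (hm : Mem U E F) (hA : Inv (⊤ : Subgroup L) A)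
    (h : ¬ A ≤ E) (two : ∀ v : V, v + v = 0) : E ≤ A ⊔ F := by
  obtain ⟨w, hw, hwE⟩ := SetLike.not_le_iff_exists.1 h
  intro e he
  obtain ⟨b, _, hb⟩ := hm.surj w hwE e he
  have h1 : e = (b • w + w) + (b • w + w + e) := by
    rw [← add_assoc, two, zero_add]
  rw [h1]
  exact AddSubgroup.add_mem_sup (A.add_mem (hA b (mem_top b) w hw) hw) hb

theorem card_index (A : AddSubgroup V) : A.index * Nat.card A = Nat.card V := by
  rw [mul_comm]; exact A.card_mul_index

namespace LQ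

variable {T : Sylow 2 L} {M U : Subgroup L} {E F : AddSubgroup V}

section a

variable [Finite L] [Finite V] (h : LQ T M U E F)
include h

/-- `C_V(O²(L)) = 0` -/
theorem fx_od : fx V (od L) = ⊥ := by
  by_contra hne
  have hn : ∃ w ∈ fx V (od L), w ≠ 0 := by
    by_contra hcon
    push Not at hcon
    apply hne
    rw [eq_bot_iff]
    exact hcon
  obtain ⟨w, hw, hw0, hwT⟩ := HE.exists_fixed h.two (R := (T : Subgroup L)) T.2 (fx V (od L))
    (fun r _ w hw => fx_inv od_normal r hw) hn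
  apply hw0
  apply h.fix
  intro l
  have h1 : od L ⊔ (T : Subgroup L) ≤ MulAction.stabilizer L w :=
    sup_le (fun x hx => hw x hx) (fun x hx => hwT x hx)
  rw [od_sup] at h1
  exact h1 (mem_top l)

/-- no over-offender in the noncentral sections -/
theorem noOv (hUQ : U ⊓ pCore 2 L = ⊥) {A K C : AddSubgroup V} (hAK : A ≤ K) (hKC : K ≤ C)
    (hA : Inv (⊤ : Subgroup L) A) (hC : Inv (⊤ : Subgroup L) C) (hnt : ∃ c ∈ C, ∃ x ∈ od L, x • c + c ∉ A)
    (hKU : ∀ b ∈ K, ∀ e ∈ U, e • b + b ∈ A) : Nat.card U * Nat.card K ≤ Nat.card C :=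
  noOvV h.two T h.min hAK hKC hA hC hnt h.mem.isPGroup h.mem.comm h.mem.sq hUQ hKU

/-- a submodule which is not in `E` contains `V'` -/
theorem le_of_not_le (hUQ : U ⊓ pCore 2 L = ⊥) {A : AddSubgroup V} (hA : Inv (⊤ : Subgroup L) A)
    (hAE : ¬ A ≤ E) : VO L V ≤ A := by
  rcases VO_le_or (L := L) A with h1 | h1
  · exact h1
  exfalso
  have hE := inv_sup_F h.mem hA hAE h.two
  have h2 := h.noOv hUQ (K := A ⊔ F) le_sup_left le_top hA (fun _ _ _ _ => AddSubgroup.mem_top _) h1 (by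
    intro b hb e he
    obtain ⟨a, ha, f, hf, rfl⟩ := AddSubgroup.mem_sup.1 hb
    rw [smul_add, h.mem.FB e he f hf]
    have e1 : e • a + f + (a + f) = (e • a + a) + (f + f) := by abel
    rw [e1, h.two, add_zero]
    exact A.add_mem (hA e (mem_top e) a ha) ha)
  rw [AddSubgroup.card_top, ← card_index E] at h2
  have h3 : Nat.card E ≤ Nat.card ↥(A ⊔ F) := Nat.card_le_card_of_injective _ (AddSubgroup.inclusion_injective hE)
  have h4 := h.lt
  have h5 : 0 < Nat.card E := Nat.card_pos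
  have h6 : Nat.card U * Nat.card E ≤ Nat.card U * Nat.card ↥(A ⊔ F) := Nat.mul_le_mul_left _ h3
  have h7 := lt_of_lt_of_le ((Nat.mul_lt_mul_right h5).2 h4) h6
  omega

/-- **(q3)** every nonzero submodule contains `V'` -/
theorem le_of_ne (hUQ : U ⊓ pCore 2 L = ⊥) {A : AddSubgroup V} (hA : Inv (⊤ : Subgroup L) A) (hne : A ≠ ⊥) :
    VO L V ≤ A := by
  by_cases hAE : A ≤ E
  swap
  · exact h.le_of_not_le hUQ hA hAE
  rcases VO_le_or (L := L) A with h1 | h1
  · exact h1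
  exfalso
  -- `A` is noncentral
  have hnt : ∃ c ∈ A, ∃ x ∈ od L, x • c + c ∉ (⊥ : AddSubgroup V) := by
    by_contra hcon
    push Not at hcon
    apply hne
    rw [eq_bot_iff, ← h.fx_od]
    intro c hc x hx
    exact (HE.add_eq_zero' h.two).1 (hcon c hc x hx)
  have h2 := h.noOv hUQ (A := ⊥) (K := A ⊓ F) bot_le inf_le_left MF.Inv.bot hA hnt (by
    intro b hb e he
    rw [h.mem.FB e he b hb.2, h.two]
    exact zero_mem _)
  have h3 := card_sup_as A F
  have h4 := h.mem.card_E h.two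
  have h5 : A ⊔ F = E := by
    apply eq_of_le_as (sup_le hAE h.mem.FE)
    have hp : 0 < Nat.card ↥(A ⊓ F) := Nat.card_pos
    have h6 : Nat.card E * Nat.card ↥(A ⊓ F) ≤ Nat.card ↥(A ⊔ F) * Nat.card ↥(A ⊓ F) := by
      rw [h3, h4]
      calc Nat.card F * Nat.card U * Nat.card ↥(A ⊓ F) = Nat.card U * Nat.card ↥(A ⊓ F) * Nat.card F := by ring
        _ ≤ Nat.card A * Nat.card F := Nat.mul_le_mul_right _ h2
    exact Nat.le_of_mul_le_mul_right h6 hp
  have h6 := h.noOv hUQ (K := E) hAE le_top hA (fun _ _ _ _ => AddSubgroup.mem_top _) h1 (by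
    intro b hb e he
    rw [← h5] at hb
    obtain ⟨a, ha, f, hf, rfl⟩ := AddSubgroup.mem_sup.1 hb
    rw [smul_add, h.mem.FB e he f hf]
    have e1 : e • a + f + (a + f) = (e • a + a) + (f + f) := by abel
    rw [e1, h.two, add_zero]
    exact A.add_mem (hA e (mem_top e) a ha) ha)
  rw [AddSubgroup.card_top, ← card_index E] at h6
  have h7 : 0 < Nat.card E := Nat.card_pos
  have h8 := (Nat.mul_lt_mul_right h7).2 h.lt
  omega

/-- `O₂(L)` is trivial on `W` -/
theorem core_fix {q : L} (hq : q ∈ pCore 2 L) {w : V} (hw : w ∈ WW V ⊤ (T : Subgroup L)) : q • w = w := by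
  have f2 : Fact (Nat.Prime 2) := ⟨Nat.prime_two⟩
  have hn : (pCore 2 L).Normal := Lib.Cores.pCore_normal 2
  have hT : pCore 2 L ≤ (T : Subgroup L) := by
    obtain ⟨P, hP⟩ := (Lib.Cores.pCore_isPGroup (G := L) 2).exists_le_sylow
    obtain ⟨g, hg⟩ := MulAction.exists_smul_eq L P T
    intro x hx
    rw [← hg, Sylow.coe_subgroup_smul, mem_pointwise_smul_iff_inv_smul_mem, MulAut.smul_def, ← map_inv,
      MulAut.conj_apply, inv_inv]
    apply hP
    have := hn.conj_mem x hx g⁻¹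
    rwa [inv_inv] at this
  induction hw using AddSubgroup.closure_induction with
  | mem v hv =>
    obtain ⟨x, _, w, hw, rfl⟩ := hv
    have h1 := hn.conj_mem q hq x⁻¹
    rw [inv_inv] at h1
    have h2 := hw _ (hT h1)
    rw [mul_smul, mul_smul, inv_smul_eq_iff] at h2
    exact h2
  | zero => exact smul_zero q
  | add b c _ _ h1 h2 => rw [smul_add, h1, h2]
  | neg b _ h1 => rw [smul_neg, h1]

/-- **(q1)** `U ∩ O₂(L) = 1` -/
theorem inf_core (hW : ¬ WW V ⊤ (T : Subgroup L) ≤ E) : U ⊓ pCore 2 L = ⊥ := by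
  obtain ⟨w, hw, hwE⟩ := SetLike.not_le_iff_exists.1 hW
  rw [eq_bot_iff]
  rintro b ⟨hb, hbQ⟩
  rw [mem_bot]
  apply h.mem.inj w hwE b hb
  rw [h.core_fix hbQ hw, h.two]
  exact zero_mem _

/-- `W ≤ V₀ + V'` -/
theorem WW_le_sup : WW V ⊤ (T : Subgroup L) ≤ fx V (T : Subgroup L) ⊔ VO L V := by
  apply WW_le
  intro x _ w hw
  have h1 : x ∈ od L ⊔ (T : Subgroup L) := by rw [od_sup]; exact mem_top x
  obtain ⟨o, ho, t, ht, rfl⟩ := mem_sup_of_normal_left.1 h1
  rw [mul_smul, hw t ht]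
  have h2 : o • w = w + (o • w + w) := by
    rw [add_comm (o • w) w, ← add_assoc, h.two, zero_add]
  rw [h2]
  exact AddSubgroup.add_mem_sup hw (mem_VO ho w)

/-- `V' ≰ E` -/
theorem VO_not_le (hW : ¬ WW V ⊤ (T : Subgroup L) ≤ E) : ¬ VO L V ≤ E := by
  intro h1
  apply hW
  refine h.WW_le_sup.trans (sup_le ?_ h1)
  intro v hv
  apply h.mem.FE
  apply h.mem.CB
  intro b hb
  exact hv b (h.UT hb)

/-- `V' ≤ W` -/
theorem VO_le_WW (hW : ¬ WW V ⊤ (T : Subgroup L) ≤ E) : VO L V ≤ WW V ⊤ (T : Subgroup L) :=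
  h.le_of_not_le (h.inf_core hW) (fun _ hl _ hw => smul_mem_WW hl hw) hW

/-- **LEMMA Q**, abstract form: `W ≰ E` implies `O₂(L) = 1`. -/
theorem core_eq_bot (hoff : NoOff L V) (hW : ¬ WW V ⊤ (T : Subgroup L) ≤ E) : pCore 2 L = ⊥ := by
  have f2 : Fact (Nat.Prime 2) := ⟨Nat.prime_two⟩
  have hn : (pCore 2 L).Normal := Lib.Cores.pCore_normal 2
  have hUQ := h.inf_core hW
  have hQV : ∀ q ∈ pCore 2 L, ∀ m ∈ VO L V, q • m = m := fun q hq m hm => h.core_fix hq (h.VO_le_WW hW hm)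
  have hirr : ∀ A ≤ VO L V, Inv (⊤ : Subgroup L) A → A = ⊥ ∨ A = VO L V := by
    intro A hA hAi
    by_cases h1 : A = ⊥
    · exact Or.inl h1
    · exact Or.inr (le_antisymm hA (h.le_of_ne hUQ hAi h1))
  have hxm : ∀ x ∈ od L, ∀ v : V, ∃ m ∈ VO L V, x • v = v + m := by
    intro x hx v
    refine ⟨x • v + v, mem_VO hx v, ?_⟩
    rw [add_comm (x • v) v, ← add_assoc, h.two, zero_add]
  by_contra hQ
  obtain ⟨q, hq, hq1⟩ : ∃ q ∈ pCore 2 L, q ≠ 1 := by
    by_contra hcon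
    push Not at hcon
    apply hQ
    rw [eq_bot_iff]
    exact hcon
  -- `Q₀`
  let Q₀ : Subgroup L :=
    { carrier := {y | y ∈ pCore 2 L ∧ ∀ v : V, y • v + v ∈ VO L V}
      one_mem' := ⟨one_mem _, fun v => by rw [one_smul, h.two]; exact zero_mem _⟩
      mul_mem' := by
        rintro a b ⟨ha, ha2⟩ ⟨hb, hb2⟩
        refine ⟨mul_mem ha hb, fun v => ?_⟩
        have e : (a * b) • v + v = (a • (b • v) + b • v) + (b • v + v) := by
          rw [mul_smul]
          have : a • b • v + b • v + (b • v + v) = a • b • v + (b • v + b • v) + v := by abel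
          rw [this, h.two, add_zero]
        rw [e]
        exact add_mem (ha2 _) (hb2 v)
      inv_mem' := by
        rintro a ⟨ha, ha2⟩
        refine ⟨inv_mem ha, fun v => ?_⟩
        have h1 := ha2 (a⁻¹ • v)
        rw [smul_inv_smul, add_comm] at h1
        exact h1 }
  have hQ₀ : ∀ y, y ∈ Q₀ ↔ y ∈ pCore 2 L ∧ ∀ v : V, y • v + v ∈ VO L V := fun y => Iff.rfl
  have hQ₀n : ∀ x : L, ∀ y ∈ Q₀, x * y * x⁻¹ ∈ Q₀ := by
    rintro x y ⟨hy, hy2⟩
    refine ⟨hn.conj_mem y hy x, fun v => ?_⟩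
    have h1 := VO_inv x (mem_top x) _ (hy2 (x⁻¹ • v))
    rw [smul_add, smul_inv_smul, ← mul_smul, ← mul_smul] at h1
    exact h1
  -- `Q₀ ≠ 1`
  have hQ₀ne : Q₀ ≠ ⊥ := by
    -- some `x ∈ O²(L)` does not commute with `q`
    obtain ⟨x, hx, hxq⟩ : ∃ x ∈ od L, x * q ≠ q * x := by
      by_contra hcon
      push Not at hcon
      apply hq1
      apply h.faith
      intro v
      have h1 : q • v + v ∈ fx V (od L) := by
        intro x hx
        obtain ⟨m, hm, hxv⟩ := hxm x hx v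
        rw [smul_add, ← mul_smul, hcon x hx, mul_smul, hxv, smul_add, hQV q hq m hm]
        have e1 : q • v + m + (v + m) = q • v + v + (m + m) := by abel
        rw [e1, h.two, add_zero]
      rw [h.fx_od, AddSubgroup.mem_bot] at h1
      exact (HE.add_eq_zero' h.two).1 h1
    intro h1
    have h2 : x * q * x⁻¹ * q⁻¹ ∈ Q₀ := by
      refine ⟨mul_mem (hn.conj_mem q hq x) (inv_mem hq), fun v => ?_⟩
      -- modulo `V'`
      have key : ∀ w : V, x • w + w ∈ VO L V := fun w => mem_VO hx w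
      have key' : ∀ w : V, x⁻¹ • w + w ∈ VO L V := fun w => mem_VO (inv_mem hx) w
      have h3 : (x * q * x⁻¹ * q⁻¹) • v + v =
          (x • (q • x⁻¹ • q⁻¹ • v) + q • x⁻¹ • q⁻¹ • v) + q • (x⁻¹ • q⁻¹ • v + q⁻¹ • v) := by
        rw [smul_add, smul_inv_smul, mul_smul, mul_smul, mul_smul]
        have : x • q • x⁻¹ • q⁻¹ • v + q • x⁻¹ • q⁻¹ • v + (q • x⁻¹ • q⁻¹ • v + v) =
          x • q • x⁻¹ • q⁻¹ • v + (q • x⁻¹ • q⁻¹ • v + q • x⁻¹ • q⁻¹ • v) + v := by abel
        rw [this, h.two, add_zero]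
      rw [h3]
      exact add_mem (key _) (VO_inv q (mem_top q) _ (key' _))
    rw [h1, mem_bot, mul_inv_eq_one, mul_inv_eq_iff_eq_mul] at h2
    exact hxq h2
  -- a minimal `O²(L)`-invariant subgroup of `Q₀`
  obtain ⟨N, ⟨hNQ, hNne, hNO⟩, hNmin⟩ := Set.exists_min_image
    {N : Subgroup L | N ≤ Q₀ ∧ N ≠ ⊥ ∧ ∀ o ∈ od L, ∀ n ∈ N, o * n * o⁻¹ ∈ N} (fun N => Nat.card N)
    (Set.toFinite _) ⟨Q₀, le_rfl, hQ₀ne, fun o _ n hn => hQ₀n o n hn⟩
  have hVN : ∀ n ∈ N, ∀ v : V, n • v + v ∈ VO L V := fun n hn v => ((hQ₀ n).1 (hNQ hn)).2 v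
  have hMN : ∀ n ∈ N, ∀ m ∈ VO L V, n • m = m := fun n hn m hm => hQV n ((hQ₀ n).1 (hNQ hn)).1 m hm
  have h1 := MF.index_le (O := od L) (T := (T : Subgroup L)) (M := VO L V) (N := N) h.two T.2 (od_sup T) VO_inv hirr
    hNne hNO (by
      intro N' hN' hN'O
      by_cases h2 : N' = ⊥
      · exact Or.inl h2
      · right
        exact eq_of_le_of_card_ge hN' (hNmin N' ⟨hN'.trans hNQ, h2, hN'O⟩)) hVN hMN fun o ho v => mem_VO ho v
  have h2 := hoff N (by
    intro a ha b hb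
    have h3 : ∀ v : V, (a * b)  • v = (b * a) • v := by
      intro v
      have h4 := MF.comp hVN hMN h.two ha hb v
      have h5 := MF.comp hVN hMN h.two hb ha v
      rw [add_comm (b • v + v)] at h5
      exact add_right_cancel (h4.trans h5.symm)
    have h4 : (b * a)⁻¹ * (a * b) = 1 := by
      apply h.faith
      intro v
      rw [mul_smul, h3, inv_smul_smul]
    exact (inv_mul_eq_one.1 h4).symm) (by
    intro a ha
    apply h.faith
    intro v
    have h4 := MF.comp hVN hMN h.two ha ha v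
    rw [h.two] at h4
    exact (HE.add_eq_zero' h.two).1 h4) hNne
  omega

end a

end LQ

/-! ### the amalgam form -/

section sub

variable {Y : Type u} [Group Y] [DistribMulAction Y V]

theorem fx_map {H : Subgroup Y} (B : Subgroup H) : fx V (B.map H.subtype) = fx V B := by
  ext v
  constructor
  · intro hv b hb
    exact hv b ⟨b, hb, rfl⟩
  · rintro hv _ ⟨b, hb, rfl⟩
    exact hv b hb

theorem Mem.subgroupOf {B H : Subgroup Y} {E F : AddSubgroup V} (hm : Mem B E F) (hBH : B ≤ H) :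
    Mem (B.subgroupOf H) E F where
  comm := fun b hb c hc => Subtype.ext (hm.comm b hb c hc)
  sq := fun b hb => Subtype.ext (hm.sq b hb)
  FE := hm.FE
  VB := fun b hb v => hm.VB b hb v
  EB := fun b hb e he => hm.EB b hb e he
  FB := fun b hb f hf => hm.FB b hb f hf
  CB := fun v hv => hm.CB v fun b hb => hv ⟨b, hBH hb⟩ hb
  inj := fun w hw b hb h => Subtype.ext (hm.inj w hw b hb h)
  surj := fun w hw e he => by
    obtain ⟨b, hb, h⟩ := hm.surj w hw e he
    exact ⟨⟨b, hBH hb⟩, hb, h⟩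
  ne := hm.ne

theorem NoOff.sub (h : NoOff Y V) (H : Subgroup Y) : NoOff H V := by
  intro B hc hs hne
  rw [← fx_map, Nat.card_congr (B.equivMapOfInjective _ H.subtype_injective).toEquiv]
  apply h
  · rintro _ ⟨x, hx, rfl⟩ _ ⟨y, hy, rfl⟩
    exact congrArg Subtype.val (hc x hx y hy)
  · rintro _ ⟨x, hx, rfl⟩
    exact congrArg Subtype.val (hs x hx)
  · rwa [Ne, Subgroup.map_eq_bot_iff_of_injective _ H.subtype_injective]

end sub

namespace Amal

variable {Y : Type u} [Group Y] [DistribMulAction Y V] {U : Set (Subgroup Y)} {T : Sylow 2 Y}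
  {M H R : Subgroup Y} {t : Y}

/-- `R` as a Sylow 2-subgroup of `H` -/
theorem exists_sylH [Finite Y] (a : Amal U T M H R t) : ∃ P : Sylow 2 H, (P : Subgroup H) = R.subgroupOf H := by
  have hRp : IsPGroup 2 (R.subgroupOf H) := a.R2.comap_of_injective H.subtype H.subtype_injective
  obtain ⟨P, hP⟩ := hRp.exists_le_sylow
  refine ⟨P, ?_⟩
  symm
  apply eq_of_le_of_card_ge hP
  have h2 := a.card_le a.bad.ne le_rfl (map_subtype_le (P : Subgroup H)) (P.2.map H.subtype)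
  rw [Nat.card_congr ((P : Subgroup H).equivMapOfInjective _ H.subtype_injective).symm.toEquiv] at h2
  rwa [Nat.card_congr (subgroupOfEquivOfLe a.RH).toEquiv]

theorem isMinH [Finite Y] (a : Amal U T M H R t) : IsMin (R.subgroupOf H) (M.subgroupOf H) where
  ne_top := fun h => a.bad.not_le 1 (by
    rw [map_one, one_smul]
    exact subgroupOf_eq_top.1 h)
  le_of := fun K hK hne => by
    have h1 : R ≤ K.map H.subtype := by
      intro r hr
      exact ⟨⟨r, a.RH hr⟩, hK hr, rfl⟩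
    have h2 : K.map H.subtype < H := by
      refine lt_of_le_of_ne (map_subtype_le _) fun h5 => hne ?_
      rw [eq_top_iff]
      intro x _
      have h6 : (x : Y) ∈ K.map H.subtype := by rw [h5]; exact x.2
      obtain ⟨n, hn, hnx⟩ := h6
      have : n = x := Subtype.ext hnx
      rwa [← this]
    intro x hx
    exact a.uniq _ h1 h2 ⟨x, hx, rfl⟩

/-- `O₂(H) ≤ QQ H R` -/
theorem core_le [Finite Y] (a : Amal U T M H R t) : (pCore 2 H).map H.subtype ≤ QQ H R := by
  have f2 : Fact (Nat.Prime 2) := ⟨Nat.prime_two⟩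
  have hn : (pCore 2 H).Normal := Lib.Cores.pCore_normal 2
  obtain ⟨P, hP⟩ := a.exists_sylH
  apply le_QQ
  · rintro _ ⟨x, hx, rfl⟩
    have h1 : x ∈ (P : Subgroup H) := by
      obtain ⟨P', hP'⟩ := (Lib.Cores.pCore_isPGroup (G := H) 2).exists_le_sylow
      obtain ⟨g, hg⟩ := MulAction.exists_smul_eq H P' P
      rw [← hg, Sylow.coe_subgroup_smul, mem_pointwise_smul_iff_inv_smul_mem, MulAut.smul_def, ← map_inv,
        MulAut.conj_apply, inv_inv]
      apply hP'
      have := hn.conj_mem x hx g⁻¹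
      rwa [inv_inv] at this
    rw [hP] at h1
    exact h1
  · rintro x hx _ ⟨y, hy, rfl⟩
    exact ⟨⟨x, hx⟩ * y * ⟨x, hx⟩⁻¹, hn.conj_mem y hy _, rfl⟩

theorem QQ_le_core [Finite Y] (a : Amal U T M H R t) : (QQ H R).subgroupOf H ≤ pCore 2 H := by
  have f2 : Fact (Nat.Prime 2) := ⟨Nat.prime_two⟩
  apply Lib.Cores.le_pCore
  · refine ⟨fun n hn g => ?_⟩
    exact conj_mem_QQ g.2 hn
  · exact (a.R2.to_le QQ_le).comap_of_injective H.subtype H.subtype_injective

/-- the hypotheses of LEMMA Q for `H` -/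
theorem exists_lq [Finite Y] [Finite V] (a : Amal U T M H R t) (h : Amb V U T M)
    (soc : ∀ B ∈ U, ∀ X : Subgroup Y, B ≤ X → (∃ v : V, v ≠ 0 ∧ ∀ x ∈ X, x • v = v) → B ⊓ ZN.o2 X ≠ ⊥)
    {B : Subgroup Y} (hB : B ∈ U) (hBR : B ≤ R) (hlt : (Ee V B).index < Nat.card B)
    (hW : ¬ WW V H R ≤ Ee V B) : ∃ P : Sylow 2 H, (P : Subgroup H) = R.subgroupOf H ∧
      LQ P (M.subgroupOf H) (B.subgroupOf H) (Ee V B) (fx V B) ∧ ¬ WW V ⊤ (P : Subgroup H) ≤ Ee V B := by
  obtain ⟨P, hP⟩ := a.exists_sylH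
  have hBm := h.cls.mem B hB
  have hBH := hBR.trans a.RH
  refine ⟨P, hP, ⟨h.two, fun l hl => Subtype.ext (h.faith l hl), ?_, ?_, Mem.subgroupOf hBm hBH, ?_, ?_⟩, ?_⟩
  · rw [hP]; exact a.isMinH
  · intro v hv
    by_contra hv0
    apply soc B hB H hBH ⟨v, hv0, fun x hx => hv ⟨x, hx⟩⟩
    rw [eq_bot_iff]
    rintro b ⟨hb, hb2⟩
    obtain ⟨w, hw, hwE⟩ := SetLike.not_le_iff_exists.1 hW
    rw [mem_bot]
    apply hBm.inj w hwE b hb
    rw [QQ_fix a h (a.core_le hb2) hw, h.two]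
    exact zero_mem _
  · rw [hP]
    exact fun b hb => hBR hb
  · rwa [Nat.card_congr (subgroupOfEquivOfLe hBH).toEquiv]
  · intro hle
    apply hW
    refine le_trans ?_ hle
    apply WW_le
    intro x hx w hw
    refine AddSubgroup.subset_closure ⟨⟨x, hx⟩, mem_top _, w, ?_, rfl⟩
    intro p hp
    rw [hP] at hp
    exact hw _ hp

/-- **LEMMA Q** (#20114): `W ≰ E_B` for a member `B ≤ R` implies `O₂(H) = 1`. -/
theorem lemQ [Finite Y] [Finite V] (a : Amal U T M H R t) (h : Amb V U T M) (hoff : NoOff Y V)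
    (soc : ∀ B ∈ U, ∀ X : Subgroup Y, B ≤ X → (∃ v : V, v ≠ 0 ∧ ∀ x ∈ X, x • v = v) → B ⊓ ZN.o2 X ≠ ⊥)
    {B : Subgroup Y} (hB : B ∈ U) (hBR : B ≤ R) (hlt : (Ee V B).index < Nat.card B)
    (hW : ¬ WW V H R ≤ Ee V B) : QQ H R = ⊥ := by
  obtain ⟨P, _, hl, hW'⟩ := a.exists_lq h soc hB hBR hlt hW
  have h1 := hl.core_eq_bot (hoff.sub H) hW'
  rw [eq_bot_iff]
  intro q hq
  have hqH : q ∈ H := a.RH (QQ_le hq)
  have h2 : (⟨q, hqH⟩ : H) ∈ pCore 2 H := a.QQ_le_core (show (q : Y) ∈ QQ H R from hq)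
  rw [h1, mem_bot] at h2
  rw [mem_bot]
  exact congrArg Subtype.val h2

end Amal

end Cfsg.Agent.Omega.NO1.TH

end

section


/-!
# N1, BETA, the amalgam `(H, H^t)`: case (C), `k = 1` without field automorphisms, any `C = C_V(H)`

bb OMEGA 20060 (helper464), = 20065 (helper711), over 19584 (helper874).
`Dat` : the module level data of one member `A = U₁ ≤ H` outside `M`; `Amal.caseC` : the theorem.
-/

set_option autoImplicit false
set_option linter.unusedSectionVars false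

namespace Cfsg.Agent.Omega.NO1.TH

open Subgroup Cfsg.Agent.Omega.NO1.AB
open scoped Pointwise

universe u

variable {Y : Type u} [Group Y] {V : Type u} [AddCommGroup V] [DistribMulAction Y V]

/-- `k = 1`, no field automorphisms: `W / C` natural for `SL₂(c)`, `R / Q` the root group. -/
structure One (V : Type u) [AddCommGroup V] [DistribMulAction Y V] (H R : Subgroup Y) (c : ℕ) : Prop where
  nat : ∀ x ∈ WW V H R, x ∉ fx V R → ∀ r ∈ R, r • x + x ∈ fx V H → r ∈ QQ H R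
  root : ∀ x ∈ WW V H R, ∀ r ∈ R, r • x + x ∈ fx V R
  cV : Nat.card (fx V R) = c * Nat.card (fx V H)
  cW : Nat.card (WW V H R) = c * Nat.card (fx V R)
  cR : Nat.card R = c * Nat.card (QQ H R)

/-! ### members -/

/-- symmetry `[e, s_{e'}] = [e', s_e]` -/
theorem mem_sym {A : Subgroup Y} {E F : AddSubgroup V} (hm : Mem A E F) (h2 : ∀ v : V, v + v = 0)
    {w e e' : V} {s s' : Y} (hs : s ∈ A) (hs' : s' ∈ A) (he : s • w + w + e ∈ F) (he' : s' • w + w + e' ∈ F) :
    s' • e + e = s • e' + e' := by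
  have h3 := hm.FB s' hs' _ he
  have h4 := hm.FB s hs _ he'
  rw [smul_add, smul_add, ← mul_smul] at h3 h4
  rw [hm.comm s hs s' hs'] at h4
  have h5 : ((s' * s) • w + s' • w + s' • e) + ((s' * s) • w + s • w + s • e') =
      (s • w + w + e) + (s' • w + w + e') := by rw [h3, h4]
  have e1 : ((s' * s) • w + s' • w + s' • e) + ((s' * s) • w + s • w + s • e') =
      ((s' * s) • w + (s' * s) • w) + (s' • w + s • w) + (s' • e + s • e') := by abel
  have e2 : (s • w + w + e) + (s' • w + w + e') = (w + w) + (s' • w + s • w) + (e + e') := by abel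
  rw [e1, e2, h2, h2] at h5
  have h6 : s' • e + s • e' = e + e' := add_left_cancel h5
  have h7 : (s' • e + e) + (s • e' + e') = 0 := by
    have e3 : (s' • e + e) + (s • e' + e') = (s' • e + s • e') + (e + e') := by abel
    rw [e3, h6, h2]
  exact (HE.add_eq_zero' h2).1 h7

/-- `s_e` centralises `e` -/
theorem mem_self {A : Subgroup Y} {E F : AddSubgroup V} (hm : Mem A E F)
    {w e : V} {s : Y} (hs : s ∈ A) (he : s • w + w + e ∈ F) : s • e = e := by
  have h3 := hm.FB s hs _ he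
  rw [smul_add, smul_add, ← mul_smul, hm.sq s hs, one_smul] at h3
  have e1 : w + s • w + s • e = (s • w + w) + s • e := by abel
  rw [e1] at h3
  exact add_left_cancel h3

/-- `C_V(s) ≤ E` for `1 ≠ s ∈ A` -/
theorem mem_E_of_fix {A : Subgroup Y} {E F : AddSubgroup V} (hm : Mem A E F) (h2 : ∀ v : V, v + v = 0)
    {s : Y} (hs : s ∈ A) (hs1 : s ≠ 1) {v : V} (hv : s • v = v) : v ∈ E := by
  by_contra hvE
  apply hs1
  apply hm.inj v hvE s hs
  rw [hv, h2]
  exact F.zero_mem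

/-- `{s ∈ A | [w, s] ∈ D}` -/
def pre (A : Subgroup Y) (w : V) (D : AddSubgroup V) : Set Y := {s | s ∈ A ∧ s • w + w ∈ D}

theorem card_pre {A : Subgroup Y} {E F : AddSubgroup V} (hm : Mem A E F) (h2 : ∀ v : V, v + v = 0)
    {w : V} (hw : w ∉ E) {D : AddSubgroup V} (hFD : F ≤ D) (hDE : D ≤ E) :
    Nat.card (pre A w D) * Nat.card F = Nat.card D := by
  let f : pre A w D × F → D := fun p => ⟨(p.1 : Y) • w + w + p.2, D.add_mem p.1.2.2 (hFD p.2.2)⟩
  have hf : Function.Bijective f := by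
    constructor
    · rintro ⟨⟨a, ha, ha'⟩, ⟨x, hx⟩⟩ ⟨⟨b, hb, hb'⟩, ⟨y, hy⟩⟩ he
      have h3 : a • w + w + x = b • w + w + y := congrArg Subtype.val he
      have h5 : a • w = b • w + y + x := by
        have : a • w + w + x + w + x = b • w + w + y + w + x := by rw [h3]
        have e1 : a • w + w + x + w + x = a • w + (w + w) + (x + x) := by abel
        have e2 : b • w + w + y + w + x = b • w + (w + w) + y + x := by abel
        rw [e1, e2, h2, h2, add_zero, add_zero, add_zero] at this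
        exact this
      have h4 : (b * a) • w + w ∈ F := by
        rw [mul_smul, h5, smul_add, smul_add, ← mul_smul, hm.sq b hb, one_smul, hm.FB b hb y hy, hm.FB b hb x hx]
        have e3 : w + y + x + w = (w + w) + (y + x) := by abel
        rw [e3, h2, zero_add]
        exact F.add_mem hy hx
      have h6 := hm.inj w hw _ (mul_mem hb ha) h4
      have h7 : a = b := by
        have : b * (b * a) = b * 1 := by rw [h6]
        rw [← mul_assoc, hm.sq b hb, one_mul, mul_one] at this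
        exact this
      subst h7
      have h8 : x = y := add_left_cancel h3
      subst h8
      rfl
    · rintro ⟨e, he⟩
      obtain ⟨b, hb, h3⟩ := hm.surj w hw e (hDE he)
      have h4 : b • w + w ∈ D := by
        have h5 := D.add_mem (hFD h3) he
        have e1 : b • w + w + e + e = b • w + w + (e + e) := by abel
        rwa [e1, h2, add_zero] at h5
      refine ⟨⟨⟨b, hb, h4⟩, ⟨_, h3⟩⟩, Subtype.ext ?_⟩
      change b • w + w + (b • w + w + e) = e
      rw [← add_assoc, h2, zero_add]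
  rw [← Nat.card_prod]
  exact Nat.card_congr (Equiv.ofBijective f hf)

/-- a subgroup of `R` : `|B| ≤ c |B ∩ Q|` when `|R| = c |Q|` -/
theorem card_le_of_index [Finite Y] {R Q B : Subgroup Y} {c : ℕ} (hQR : Q ≤ R) (hBR : B ≤ R)
    (hc : Nat.card R = c * Nat.card Q) : Nat.card B ≤ c * Nat.card ↥(B ⊓ Q) := by
  have h1 : Q.relIndex R = c := by
    have h2 := relIndex_mul_relIndex ⊥ Q R bot_le hQR
    rw [relIndex_bot_left, relIndex_bot_left, hc, mul_comm] at h2
    exact Nat.eq_of_mul_eq_mul_right Nat.card_pos h2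
  have h3 : Q.relIndex B ≤ Q.relIndex R := by
    apply relIndex_le_of_le_right hBR
    rw [h1]
    intro h4
    rw [h4, zero_mul] at hc
    exact absurd hc Nat.card_pos.ne'
  have h4 := relIndex_mul_relIndex ⊥ (B ⊓ Q) B bot_le inf_le_left
  rw [relIndex_bot_left, relIndex_bot_left, inf_relIndex_left] at h4
  rw [← h4, mul_comm]
  exact Nat.mul_le_mul_right _ (h3.trans h1.le)

/-- and `B Q = R` in the case of equality -/
theorem exists_mul_of_card [Finite Y] {R Q B : Subgroup Y} {c : ℕ} (hQR : Q ≤ R) (hBR : B ≤ R)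
    (hc : Nat.card R = c * Nat.card Q) (hB : c * Nat.card ↥(B ⊓ Q) ≤ Nat.card B) {r : Y} (hr : r ∈ R) :
    ∃ b ∈ B, ∃ q ∈ Q, r = b * q := by
  have h1 : Q.relIndex R = c := by
    have h2 := relIndex_mul_relIndex ⊥ Q R bot_le hQR
    rw [relIndex_bot_left, relIndex_bot_left, hc, mul_comm] at h2
    exact Nat.eq_of_mul_eq_mul_right Nat.card_pos h2
  have h4 := relIndex_mul_relIndex ⊥ (B ⊓ Q) B bot_le inf_le_left
  rw [relIndex_bot_left, relIndex_bot_left, inf_relIndex_left] at h4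
  rw [← h4, mul_comm] at hB
  have h5 : c ≤ Q.relIndex B := Nat.le_of_mul_le_mul_left hB Nat.card_pos
  let φ := quotientSubgroupOfEmbeddingOfLE Q hBR
  have hs : Function.Surjective φ := by
    have h6 : Nat.card (R ⧸ Q.subgroupOf R) ≤ Nat.card (B ⧸ Q.subgroupOf B) := by
      change Q.relIndex R ≤ Q.relIndex B
      rw [h1]; exact h5
    have h7 : Nat.card (R ⧸ Q.subgroupOf R) = Nat.card (B ⧸ Q.subgroupOf B) :=
      le_antisymm h6 (Nat.card_le_card_of_injective φ φ.injective)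
    exact ((Nat.bijective_iff_injective_and_card φ).2 ⟨φ.injective, h7.symm⟩).2
  obtain ⟨b, hb⟩ := hs (QuotientGroup.mk (⟨r, hr⟩ : R))
  obtain ⟨⟨b, hbB⟩, rfl⟩ := QuotientGroup.mk_surjective b
  have h8 : (QuotientGroup.mk (⟨b, hBR hbB⟩ : R) : R ⧸ Q.subgroupOf R) = QuotientGroup.mk (⟨r, hr⟩ : R) := hb
  rw [QuotientGroup.eq] at h8
  refine ⟨b, hbB, b⁻¹ * r, h8, by group⟩

/-- The data of one member `A` of `H` outside the point `M`. -/
structure Dat (A R Q Q' : Subgroup Y) (E F V₀ C C' W' : AddSubgroup V) (c : ℕ) : Prop where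
  two : ∀ v : V, v + v = 0
  mem : Mem A E F
  mu : ∀ A₀ ≤ A, Nat.card A₀ * Nat.card ↥(fx V A₀ ⊓ E) ≤ Nat.card E
  QR : Q ≤ R
  Q'R : Q' ≤ R
  V0E : V₀ ≤ E
  CF : C ≤ F
  CV : C ≤ V₀
  V0F : ∀ x ∈ V₀, x ∈ F → x ∈ C
  C'V : C' ≤ V₀
  CC' : ∀ x ∈ C, x ∈ C' → x = 0
  natA : ∀ x ∈ V₀, x ∉ C → ∀ a ∈ A, a • x + x ∈ C → a ∈ Q
  RV0 : ∀ r ∈ R, ∀ x ∈ V₀, r • x = x
  V0W' : V₀ ≤ W'
  root' : ∀ y ∈ W', ∀ r ∈ R, r • y + y ∈ V₀
  nat' : ∀ y ∈ W', y ∉ V₀ → ∀ r ∈ R, r • y = y → r ∈ Q'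
  QW' : ∀ q ∈ Q', ∀ y ∈ W', q • y = y
  cV : Nat.card V₀ = c * Nat.card C
  cC' : Nat.card C' = Nat.card C
  cW' : Nat.card W' = c * Nat.card V₀
  cR' : Nat.card R = c * Nat.card Q'
  cA : Nat.card A = c * Nat.card ↥(A ⊓ Q)
  c2 : 2 ≤ c

namespace Dat

variable [Finite Y] [Finite V] {A R Q Q' : Subgroup Y} {E F V₀ C C' W' : AddSubgroup V} {c : ℕ}
  (d : Dat A R Q Q' E F V₀ C C' W' c)
include d

theorem exists_v : ∃ v ∈ V₀, v ∉ C := by
  by_contra hcon
  push Not at hcon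
  have h1 : Nat.card V₀ ≤ Nat.card C := by
    have : V₀ = C := le_antisymm hcon d.CV
    rw [this]
  rw [d.cV] at h1
  have h2 : 0 < Nat.card C := Nat.card_pos
  have h3 := d.c2
  nlinarith

/-- `S₁ ≤ B₁` -/
theorem s_mem {w : V} (hw : w ∉ E) {v : V} (hv : v ∈ V₀) {s : Y} (hs : s ∈ A) (he : s • w + w + v ∈ F) :
    s ∈ Q := by
  by_cases hvC : v ∈ C
  · have h1 : s • w + w ∈ F := by
      have := F.add_mem he (d.CF hvC)
      have e1 : s • w + w + v + v = s • w + w + (v + v) := by abel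
      rwa [e1, d.two, add_zero] at this
    rw [d.mem.inj w hw s hs h1]
    exact one_mem _
  · apply d.natA v hv hvC s hs
    rw [mem_self d.mem hs he, d.two]
    exact C.zero_mem

/-- LEMMA (1) -/
theorem lem {w : V} (hw : w ∉ E) {y : V} (hy : y ∈ W') (hyE : y ∈ E) {s : Y} (hs : s ∈ A)
    (he : s • w + w + y ∈ F) :
    s ∈ Q ∧ ∀ v ∈ V₀, ∀ s' ∈ A, s' • w + w + v ∈ F → s' • y = y := by
  -- `[y, s'] = [v, s] ∈ C`
  have key : ∀ v ∈ V₀, ∀ s' ∈ A, s' • w + w + v ∈ F → s' • y + y ∈ C ∧ s' • y + y = s • v + v := by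
    intro v hv s' hs' he'
    have h1 := d.s_mem hw hv hs' he'
    have h2 : s' • y + y ∈ V₀ := d.root' y hy s' (d.QR h1)
    have h3 : s' • y + y ∈ F := d.mem.EB s' hs' y hyE
    exact ⟨d.V0F _ h2 h3, mem_sym d.mem d.two hs hs' he he'⟩
  obtain ⟨v₀, hv₀, hv₀C⟩ := d.exists_v
  obtain ⟨s₀, hs₀, he₀⟩ := d.mem.surj w hw v₀ (d.V0E hv₀)
  have h1 := key v₀ hv₀ s₀ hs₀ he₀
  have hsQ : s ∈ Q := by
    apply d.natA v₀ hv₀ hv₀C s hs
    rw [← h1.2]
    exact h1.1
  refine ⟨hsQ, fun v hv s' hs' he' => ?_⟩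
  have h2 := (key v hv s' hs' he').2
  rw [d.RV0 s (d.QR hsQ) v hv, d.two] at h2
  exact (HE.add_eq_zero' d.two).1 h2

/-- an element of `A ∩ Q` outside `Q'`, `W' ≤ E`: its commutators with `W'` lie in `C` -/
theorem comm_C (hW : W' ≤ E) {a : Y} (ha : a ∈ A) (haQ : a ∈ Q) {y : V} (hy : y ∈ W') : a • y + y ∈ C :=
  d.V0F _ (d.root' y hy a (d.QR haQ)) (d.mem.EB a ha y (hW hy))

/-- the case `W' ∩ E₁ > V₀` -/
structure Two (A R Q Q' : Subgroup Y) (E F V₀ C C' W' : AddSubgroup V) (c : ℕ) : Prop where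
  WE : W' ≤ E
  cC : Nat.card C = c
  card : c * c ≤ Nat.card ↥(A ⊓ Q ⊓ Q')
  cardA : Nat.card A = c * c * Nat.card ↥(A ⊓ Q ⊓ Q')
  comm : ∀ y ∈ W', ∀ r ∈ R, r • y + y ∈ C
  cen : ∀ v : V, (∀ a ∈ A ⊓ Q ⊓ Q', a • v = v) → v ∈ W' ⊔ F

theorem two' {b : Y} (hb : b ∈ A) (hbQ : b ∈ Q) (hbQ' : b ∉ Q') {y₀ : V} (hy₀ : y₀ ∈ W') (hy₀E : y₀ ∈ E)
    (hy₀V : y₀ ∉ V₀) : Two A R Q Q' E F V₀ C C' W' c := by
  obtain ⟨w, hw⟩ := d.mem.ne
  have hc2 := d.c2
  have hC0 : 0 < Nat.card C := Nat.card_pos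
  have hF0 : 0 < Nat.card F := Nat.card_pos
  -- `S₁ ≤ Q'`
  have hS : ∀ v ∈ V₀, ∀ s ∈ A, s • w + w + v ∈ F → s ∈ Q' := by
    intro v hv s hs he
    obtain ⟨s₀, hs₀, he₀⟩ := d.mem.surj w hw y₀ hy₀E
    exact d.nat' y₀ hy₀ hy₀V s (d.QR (d.s_mem hw hv hs he)) ((d.lem hw hy₀ hy₀E hs₀ he₀).2 v hv s hs he)
  -- `W' ≤ E`
  have hWE : W' ≤ E := by
    obtain ⟨v, hv, hvC⟩ := d.exists_v
    obtain ⟨s, hs, he⟩ := d.mem.surj w hw v (d.V0E hv)
    have hs1 : s ≠ 1 := by
      rintro rfl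
      apply hvC
      apply d.V0F v hv
      rwa [one_smul, d.two, zero_add] at he
    intro y hy
    exact mem_E_of_fix d.mem d.two hs hs1 (d.QW' s (hS v hv s hs he) y hy)
  -- `b` on `W'`
  have hbR : b ∈ R := d.QR hbQ
  have hbC : ∀ y ∈ W', b • y + y ∈ C := fun y hy => d.comm_C hWE hb hbQ hy
  have hbV : ∀ y ∈ W', b • y = y → y ∈ V₀ := by
    intro y hy h1
    by_contra h2
    exact hbQ' (d.nat' y hy h2 b hbR h1)
  -- `c ≤ |C|`
  have hcC : c ≤ Nat.card C := by
    let φ : W' →+ C :=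
      { toFun := fun y => ⟨b • (y : V) + y, hbC y y.2⟩
        map_zero' := Subtype.ext (by
          change b • (0 : V) + 0 = 0
          rw [smul_zero, add_zero])
        map_add' := fun y z => Subtype.ext (by
          change b • ((y : V) + z) + (y + z) = (b • (y : V) + y) + (b • (z : V) + z)
          rw [smul_add]; abel) }
    have hker : φ.ker = V₀.addSubgroupOf W' := by
      ext y
      rw [AddMonoidHom.mem_ker, AddSubgroup.mem_addSubgroupOf]
      constructor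
      · intro h1
        have h2 : b • (y : V) + y = 0 := congrArg Subtype.val h1
        exact hbV y y.2 ((HE.add_eq_zero' d.two).1 h2)
      · intro h1
        apply Subtype.ext
        change b • (y : V) + y = 0
        rw [d.RV0 b hbR y h1, d.two]
    have h1 : Nat.card φ.range * Nat.card φ.ker = Nat.card W' := by
      rw [mul_comm, ← AddSubgroup.card_mul_index φ.ker, AddSubgroup.index_ker]
    rw [hker, Nat.card_congr (AddSubgroup.addSubgroupOfEquivOfLe d.V0W').toEquiv, d.cW'] at h1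
    have h2 : Nat.card φ.range = c := Nat.eq_of_mul_eq_mul_right Nat.card_pos h1
    rw [← h2]
    exact Nat.card_le_card_of_injective _ φ.range.subtype_injective
  -- `|C| = c`
  have hCc : Nat.card C = c := by
    apply le_antisymm _ hcC
    have h1 := card_sup_as C C'
    have h2 : C ⊓ C' = ⊥ := by
      rw [eq_bot_iff]
      rintro x ⟨hx1, hx2⟩
      rw [AddSubgroup.mem_bot]
      exact d.CC' x hx1 hx2
    rw [h2, AddSubgroup.card_bot, mul_one, d.cC'] at h1
    have h3 : Nat.card ↥(C ⊔ C') ≤ Nat.card V₀ := Nat.card_le_card_of_injective _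
      (AddSubgroup.inclusion_injective (sup_le d.CV d.C'V))
    rw [h1, d.cV] at h3
    exact Nat.le_of_mul_le_mul_right h3 hC0
  -- `W' ∩ F = C`
  have hWF : W' ⊓ F = C := by
    apply le_antisymm
    · rintro y ⟨hy, hyF⟩
      exact d.V0F y (hbV y hy (d.mem.FB b hb y hyF)) hyF
    · exact le_inf (d.CV.trans d.V0W') d.CF
  -- `|W' + F| = c² |F|`
  have hWF' : Nat.card ↥(W' ⊔ F) = c * c * Nat.card F := by
    have h1 := card_sup_as W' F
    rw [hWF, d.cW', d.cV] at h1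
    apply Nat.eq_of_mul_eq_mul_right hC0
    rw [h1]; ring
  have hDE : W' ⊔ F ≤ E := sup_le hWE d.mem.FE
  -- `A₀`
  set A₀ := A ⊓ Q ⊓ Q' with hA₀
  have hpre : pre A w (W' ⊔ F) ⊆ A₀ := by
    rintro s ⟨hs, hsD⟩
    obtain ⟨y, hy, f, hf, he⟩ := AddSubgroup.mem_sup.1 hsD
    have h1 : s • w + w + y ∈ F := by
      rw [← he]
      have e1 : y + f + y = (y + y) + f := by abel
      rw [e1, d.two, zero_add]; exact hf
    have h2 := d.lem hw hy (hWE hy) hs h1
    refine ⟨⟨hs, h2.1⟩, ?_⟩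
    by_cases hyV : y ∈ V₀
    · exact hS y hyV s hs h1
    · exact d.nat' y hy hyV s (d.QR h2.1) (mem_self d.mem hs h1)
  have hcard : c * c ≤ Nat.card A₀ := by
    have h1 := card_pre d.mem d.two hw (D := W' ⊔ F) le_sup_right hDE
    rw [hWF'] at h1
    rw [← Nat.eq_of_mul_eq_mul_right hF0 h1]
    exact Nat.card_mono (Set.toFinite _) hpre
  have hA₀pos : 0 < Nat.card A₀ := Nat.card_pos
  -- (MU)
  have hE := d.mem.card_E d.two
  have hfix : W' ⊔ F ≤ fx V A₀ ⊓ E := by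
    refine le_inf ?_ hDE
    refine sup_le (fun y hy a ha => d.QW' a ha.2 y hy) (fun y hy a ha => d.mem.FB a ha.1.1 y hy)
  have hA₀A : A₀ ≤ A := inf_le_left.trans inf_le_left
  have hmu := d.mu A₀ hA₀A
  have hfixc : c * c * Nat.card F ≤ Nat.card ↥(fx V A₀ ⊓ E) := by
    rw [← hWF']
    exact Nat.card_le_card_of_injective _ (AddSubgroup.inclusion_injective hfix)
  have h3 : c * c * Nat.card A₀ ≤ Nat.card A := by
    have h4 : Nat.card A₀ * (c * c * Nat.card F) ≤ Nat.card F * Nat.card A :=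
      (Nat.mul_le_mul_left _ hfixc).trans (hmu.trans hE.le)
    have h5 : c * c * Nat.card A₀ * Nat.card F ≤ Nat.card A * Nat.card F := by
      calc c * c * Nat.card A₀ * Nat.card F = Nat.card A₀ * (c * c * Nat.card F) := by ring
        _ ≤ _ := h4
        _ = _ := by ring
    exact Nat.le_of_mul_le_mul_right h5 hF0
  have h4 : Nat.card ↥(A ⊓ Q) ≤ c * Nat.card A₀ := card_le_of_index d.Q'R (inf_le_right.trans d.QR) d.cR'
  have hcardA : Nat.card A = c * c * Nat.card A₀ := by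
    apply le_antisymm _ h3
    rw [d.cA, mul_assoc]
    exact Nat.mul_le_mul_left _ h4
  have h5 : c * Nat.card ↥(A ⊓ Q ⊓ Q') ≤ Nat.card ↥(A ⊓ Q) := by
    have h6 := d.cA
    rw [hcardA, mul_assoc] at h6
    exact (Nat.eq_of_mul_eq_mul_left (by omega) h6).le
  refine ⟨hWE, hCc, hcard, hcardA, ?_, ?_⟩
  · intro y hy r hr
    obtain ⟨a, ha, q, hq, rfl⟩ := exists_mul_of_card d.Q'R (inf_le_right.trans d.QR) d.cR' h5 hr
    rw [mul_smul, d.QW' q hq y hy]
    exact d.comm_C hWE ha.1 ha.2 hy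
  · intro v hv
    have h6 : W' ⊔ F = fx V A₀ ⊓ E := by
      apply eq_of_le_as hfix
      rw [hWF']
      rw [hE, hcardA] at hmu
      have h7 : Nat.card A₀ * Nat.card ↥(fx V A₀ ⊓ E) ≤ Nat.card A₀ * (c * c * Nat.card F) := by
        refine hmu.trans (le_of_eq ?_)
        ring
      exact Nat.le_of_mul_le_mul_left h7 hA₀pos
    rw [h6]
    refine ⟨hv, ?_⟩
    have h7 : ∃ s ∈ A₀, s ≠ 1 := by
      by_contra hcon
      push Not at hcon
      have h8 : A₀ = ⊥ := by
        rw [eq_bot_iff]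
        intro s hs
        rw [mem_bot]; exact hcon s hs
      rw [h8, Subgroup.card_bot] at hcard
      nlinarith
    obtain ⟨s, hs, hs1⟩ := h7
    exact mem_E_of_fix d.mem d.two (hA₀A hs) hs1 (hv s hs)

end Dat

namespace One

variable {U : Set (Subgroup Y)} {T : Sylow 2 Y} {M H R : Subgroup Y} {t : Y} {c : ℕ}

theorem c_two [Finite Y] (a : Amal U T M H R t) (h : Amb V U T M) (o : One V H R c) : 2 ≤ c := by
  obtain ⟨B, hB, hBR, hBQ⟩ := Amal.exists_not_QQ a h
  by_contra hcon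
  have h1 : c ≤ 1 := by omega
  have h2 : QQ H R = R := by
    apply eq_of_le_of_card_ge QQ_le
    rw [o.cR]
    nlinarith [Nat.card_pos (α := QQ H R)]
  apply hBQ
  rw [h2]; exact hBR

theorem conj_QQ_le (a : Amal U T M H R t) : MulAut.conj t • QQ H R ≤ R := by
  intro r hr
  rw [mem_conj] at hr
  have h1 := a.t_norm _ (QQ_le hr)
  have e : t * (t⁻¹ * r * t) * t⁻¹ = r := by group
  rwa [e] at h1

/-- `|B| = c |B ∩ Q|` -/
theorem card_B [Finite Y] [Finite V] (a : Amal U T M H R t) (h : Amb V U T M) (o : One V H R c)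
    {B : Subgroup Y} (hB : B ∈ U) (hBR : B ≤ R) (hBQ : ¬ B ≤ QQ H R) (hE : WW V H R ≤ Ee V B) :
    Nat.card B = c * Nat.card ↥(B ⊓ QQ H R) := by
  apply le_antisymm (card_le_of_index QQ_le hBR o.cR)
  have hm := h.cls.mem B hB
  obtain ⟨b, hb, hbQ⟩ := SetLike.not_le_iff_exists.1 hBQ
  have h1 : WW V H R ⊓ fx V B = fx V R := by
    apply le_antisymm
    · rintro x ⟨hx, hxF⟩
      by_contra hxR
      apply hbQ
      apply o.nat x hx hxR b (hBR hb)
      rw [hxF b hb, h.two]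
      exact (fx V H).zero_mem
    · exact le_inf fx_le_WW (fx_mono hBR)
  have h2 := card_sup_as (WW V H R) (fx V B)
  rw [h1, o.cW] at h2
  have h3 : Nat.card ↥(WW V H R ⊔ fx V B) = c * Nat.card (fx V B) := by
    apply Nat.eq_of_mul_eq_mul_right (Nat.card_pos (α := fx V R))
    rw [h2]; ring
  have h4 : WW V H R ⊔ fx V B ≤ fx V (B ⊓ QQ H R) ⊓ Ee V B := by
    refine le_inf (sup_le ?_ (fx_mono inf_le_left)) (sup_le hE hm.FE)
    intro x hx q hq
    exact Amal.QQ_fix a h hq.2 hx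
  have h5 := h.cls.mu B hB (B ⊓ QQ H R) inf_le_left
  have h6 : Nat.card ↥(WW V H R ⊔ fx V B) ≤ Nat.card ↥(fx V (B ⊓ QQ H R) ⊓ Ee V B) :=
    Nat.card_le_card_of_injective _ (AddSubgroup.inclusion_injective h4)
  rw [h3] at h6
  rw [hm.card_E h.two] at h5
  have h7 : Nat.card ↥(B ⊓ QQ H R) * (c * Nat.card (fx V B)) ≤ Nat.card (fx V B) * Nat.card B :=
    (Nat.mul_le_mul_left _ h6).trans h5
  apply Nat.le_of_mul_le_mul_right (c := Nat.card (fx V B)) _ Nat.card_pos
  calc c * Nat.card ↥(B ⊓ QQ H R) * Nat.card (fx V B) = Nat.card ↥(B ⊓ QQ H R) * (c * Nat.card (fx V B)) := by ring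
    _ ≤ _ := h7
    _ = _ := by ring

theorem conj_inf_QQ {g : Y} (hg : g ∈ H) (B : Subgroup Y) :
    MulAut.conj g • B ⊓ QQ H R = MulAut.conj g • (B ⊓ QQ H R) := by
  ext y
  constructor
  · intro h0
    have h1 : y ∈ MulAut.conj g • B := h0.1
    have h2 : y ∈ QQ H R := h0.2
    rw [mem_conj] at h1 ⊢
    refine ⟨h1, ?_⟩
    have := conj_mem_QQ (H.inv_mem hg) h2
    rwa [inv_inv] at this
  · intro h1
    rw [mem_conj] at h1
    refine ⟨mem_conj.2 h1.1, ?_⟩
    have := conj_mem_QQ hg h1.2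
    have e : g * (g⁻¹ * y * g) * g⁻¹ = y := by group
    rwa [e] at this

theorem dat [Finite Y] [Finite V] (a : Amal U T M H R t) (h : Amb V U T M) (o : One V H R c)
    {B : Subgroup Y} (hB : B ∈ U) (hBR : B ≤ R) (hBQ : ¬ B ≤ QQ H R) (hE : WW V H R ≤ Ee V B)
    {g : Y} (hg : g ∈ H) (hM : ¬ MulAut.conj g • B ≤ M) :
    Dat (MulAut.conj g • B) R (QQ H R) (MulAut.conj t • QQ H R) (Ee V (MulAut.conj g • B))
      (fx V (MulAut.conj g • B)) (fx V R) (fx V H) (t • fx V H) (t • WW V H R) c := by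
  have hA : MulAut.conj g • B ∈ U := h.cls.conj B hB g
  have hAH : MulAut.conj g • B ≤ H := by
    intro y hy
    rw [mem_conj] at hy
    have := H.mul_mem (H.mul_mem hg (a.RH (hBR hy))) (H.inv_mem hg)
    have e : g * (g⁻¹ * y * g) * g⁻¹ = y := by group
    rwa [e] at this
  have hinf := a.fx_inf (V := V) hAH hM
  have hWH : ∀ x ∈ H, ∀ w ∈ WW V H R, x • w ∈ WW V H R := fun x hx w hw => smul_mem_WW hx hw
  exact
    { two := h.two
      mem := h.cls.mem _ hA
      mu := h.cls.mu _ hA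
      QR := QQ_le
      Q'R := conj_QQ_le a
      V0E := by
        intro x hx
        rw [Ee_conj, mem_smul_as]
        exact hE (hWH _ (H.inv_mem hg) _ (fx_le_WW hx))
      CF := fx_mono hAH
      CV := a.C_le
      V0F := fun x hx hxF => by
        rw [← hinf]; exact ⟨hxF, hx⟩
      C'V := by
        intro x hx
        rw [mem_smul_as] at hx
        have := a.smul_V0 (a.C_le hx)
        rwa [smul_inv_smul] at this
      CC' := by
        intro x hx hx'
        rw [mem_smul_as] at hx'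
        apply Amal.C_inf a h hx
        rwa [← a.inv_smul_V0 (a.C_le hx)]
      natA := by
        intro x hx hxC b hb hbx
        rw [mem_conj] at hb
        have h1 : g⁻¹ • x ∈ WW V H R := hWH _ (H.inv_mem hg) _ (fx_le_WW hx)
        have h2 : g⁻¹ • x ∉ fx V R := by
          intro h3
          apply hxC
          have h5 : x ∈ fx V (MulAut.conj g • B) := by
            rw [fx_conj, mem_smul_as]
            exact fx_mono hBR h3
          rw [← hinf]
          exact ⟨h5, hx⟩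
        have h3 : (g⁻¹ * b * g) • g⁻¹ • x + g⁻¹ • x ∈ fx V H := by
          have e1 : (g⁻¹ * b * g) • g⁻¹ • x + g⁻¹ • x = g⁻¹ • (b • x + x) := by
            rw [smul_add, ← mul_smul, ← mul_smul]
            congr 2
            group
          rw [e1, hbx _ (H.inv_mem hg)]
          exact hbx
        have h4 := conj_mem_QQ hg (o.nat _ h1 h2 _ (hBR hb) h3)
        have e : g * (g⁻¹ * b * g) * g⁻¹ = b := by group
        rwa [e] at h4
      RV0 := fun r hr x hx => hx r hr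
      V0W' := by
        intro x hx
        rw [mem_smul_as]
        exact fx_le_WW (a.smul_V0' hx)
      root' := by
        intro y hy r hr
        rw [mem_smul_as] at hy
        have h1 := a.smul_V0 (o.root _ hy _ (a.symm_smul hr))
        have e1 : t • ((t⁻¹ * r * t) • t⁻¹ • y + t⁻¹ • y) = r • y + y := by
          rw [smul_add, smul_inv_smul, ← mul_smul, ← mul_smul]
          congr 2
          group
        rwa [e1] at h1
      nat' := by
        intro y hy hyV r hr hry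
        rw [mem_smul_as] at hy
        rw [mem_conj]
        apply o.nat _ hy _ _ (a.symm_smul hr)
        · have e1 : (t⁻¹ * r * t) • t⁻¹ • y = t⁻¹ • y := by
            rw [← mul_smul]
            have e2 : t⁻¹ * r * t * t⁻¹ = t⁻¹ * r := by group
            rw [e2, mul_smul, hry]
          rw [e1, h.two]
          exact (fx V H).zero_mem
        · intro h1
          apply hyV
          have := a.smul_V0 h1
          rwa [smul_inv_smul] at this
      QW' := by
        intro q hq y hy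
        rw [mem_conj] at hq
        rw [mem_smul_as] at hy
        have h1 := Amal.QQ_fix a h hq hy
        have e1 : (t⁻¹ * q * t) • t⁻¹ • y = t⁻¹ • q • y := by
          rw [← mul_smul, ← mul_smul]
          congr 1
          group
        rw [e1] at h1
        exact smul_left_cancel _ h1
      cV := o.cV
      cC' := card_smul_as t _
      cW' := by rw [card_smul_as]; exact o.cW
      cR' := by rw [conj_card]; exact o.cR
      cA := by
        rw [conj_inf_QQ hg, conj_card, conj_card]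
        exact card_B a h o hB hBR hBQ hE
      c2 := c_two a h o }

/-- the case `W' ∩ E₁ > V₀` is impossible -/
theorem not_two [Finite Y] [Finite V] (a : Amal U T M H R t) (h : Amb V U T M) (o : One V H R c)
    {B : Subgroup Y} (hB : B ∈ U) (hBR : B ≤ R) (hBQ : ¬ B ≤ QQ H R) (hE : ∀ B ∈ U, B ≤ R → WW V H R ≤ Ee V B)
    {g : Y} (hg : g ∈ H) (hM : ¬ MulAut.conj g • B ≤ M)
    (w : Dat.Two (MulAut.conj g • B) R (QQ H R) (MulAut.conj t • QQ H R) (Ee V (MulAut.conj g • B))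
      (fx V (MulAut.conj g • B)) (fx V R) (fx V H) (t • fx V H) (t • WW V H R) c) : False := by
  have hc2 := c_two a h o
  set A := MulAut.conj g • B with hAdef
  have hA : A ∈ U := h.cls.conj B hB g
  have hmA := h.cls.mem A hA
  have hAH : A ≤ H := by
    intro y hy
    rw [hAdef, mem_conj] at hy
    have := H.mul_mem (H.mul_mem hg (a.RH (hBR hy))) (H.inv_mem hg)
    have e : g * (g⁻¹ * y * g) * g⁻¹ = y := by group
    rwa [e] at this
  -- all members have the order of `A`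
  have hcardU : ∀ D ∈ U, c * c * (c * c) ≤ Nat.card D := by
    intro D hD
    obtain ⟨y, rfl⟩ := h.cls.eq A hA D hD
    rw [conj_card, w.cardA]
    exact Nat.mul_le_mul_left _ w.card
  -- `Ψ`
  let Psi : AddSubgroup V := AddSubgroup.closure {v | ∃ x ∈ H, ∃ y ∈ t • WW V H R, v = x • y}
  have hPsiH : ∀ x ∈ H, ∀ v ∈ Psi, x • v ∈ Psi := by
    intro x hx v hv
    induction hv using AddSubgroup.closure_induction with
    | mem v hv =>
      obtain ⟨y, hy, z, hz, rfl⟩ := hv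
      exact AddSubgroup.subset_closure ⟨x * y, H.mul_mem hx hy, z, hz, by rw [mul_smul]⟩
    | zero => rw [smul_zero]; exact zero_mem _
    | add b c _ _ h1 h2 => rw [smul_add]; exact add_mem h1 h2
    | neg b _ h1 => rw [smul_neg]; exact neg_mem h1
  have hW'Psi : ∀ y ∈ t • WW V H R, y ∈ Psi := fun y hy =>
    AddSubgroup.subset_closure ⟨1, H.one_mem, y, hy, (one_smul Y y).symm⟩
  -- `[Ψ, Q] ≤ C`
  have hPsiQ : ∀ v ∈ Psi, ∀ q ∈ QQ H R, q • v + v ∈ fx V H := by
    intro v hv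
    induction hv using AddSubgroup.closure_induction with
    | mem v hv =>
      obtain ⟨x, hx, y, hy, rfl⟩ := hv
      intro q hq
      have h1 : x⁻¹ * q * x ∈ QQ H R := by
        have := conj_mem_QQ (H.inv_mem hx) hq
        rwa [inv_inv] at this
      have h2 := w.comm y hy _ (QQ_le h1)
      have e1 : q • x • y + x • y = x • ((x⁻¹ * q * x) • y + y) := by
        rw [smul_add, ← mul_smul, ← mul_smul]
        congr 2
        group
      rw [e1, h2 x hx]
      exact h2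
    | zero => intro q _; rw [smul_zero, add_zero]; exact zero_mem _
    | add b c _ _ h1 h2 =>
      intro q hq
      have e1 : q • (b + c) + (b + c) = (q • b + b) + (q • c + c) := by rw [smul_add]; abel
      rw [e1]
      exact add_mem (h1 q hq) (h2 q hq)
    | neg b _ h1 =>
      intro q hq
      have e1 : q • (-b) + (-b) = -(q • b + b) := by rw [smul_neg]; abel
      rw [e1]
      exact neg_mem (h1 q hq)
  -- `Ψ ≤ E_D` for every member `D ≤ R`
  have hPsiE : ∀ D ∈ U, D ≤ R → Psi ≤ Ee V D := by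
    intro D hD hDR v hv
    by_contra hvE
    have hmD := h.cls.mem D hD
    have h1 : D ⊓ QQ H R = ⊥ := by
      rw [eq_bot_iff]
      rintro b ⟨hb, hbQ⟩
      rw [mem_bot]
      exact hmD.inj v hvE b hb (fx_mono (hDR.trans a.RH) (hPsiQ v hv b hbQ))
    have h2 := card_le_of_index QQ_le hDR o.cR
    rw [h1, Subgroup.card_bot, mul_one] at h2
    have h3 := hcardU D hD
    have h4 : 2 * 2 ≤ c * c := Nat.mul_le_mul hc2 hc2
    have h5 : c * c * (2 * 2) ≤ c * c * (c * c) := Nat.mul_le_mul_left _ h4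
    nlinarith
  have hPsiE' : ∀ D ∈ U, D ≤ R → ∀ v ∈ Psi, t • v ∈ Ee V D := by
    intro D hD hDR v hv
    have h1 : MulAut.conj t⁻¹ • D ≤ R := by
      intro r hr
      rw [mem_conj] at hr
      have h2 := a.symm_smul (hDR hr)
      have e : t⁻¹ * (t⁻¹⁻¹ * r * t⁻¹) * t = r := by group
      rwa [e] at h2
    have h2 := hPsiE _ (h.cls.conj D hD t⁻¹) h1 hv
    rw [Ee_conj, mem_smul_as, inv_inv] at h2
    exact h2
  -- `A₀`
  set A₀ := A ⊓ QQ H R ⊓ MulAut.conj t • QQ H R with hA₀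
  -- `[t Ψ, A₀] ≤ C'`
  have hcomm' : ∀ b ∈ A₀, ∀ v ∈ Psi, b • t • v + t • v ∈ t • fx V H := by
    intro b hb v hv
    have h1 : t⁻¹ * b * t ∈ QQ H R := mem_conj.1 hb.2
    rw [mem_smul_as]
    have h2 := hPsiQ v hv _ h1
    have e1 : t⁻¹ • (b • t • v + t • v) = (t⁻¹ * b * t) • v + v := by
      rw [smul_add, inv_smul_smul, ← mul_smul, ← mul_smul]
    rw [e1]; exact h2
  by_cases hcase : ∀ b ∈ A₀, ∀ v ∈ Psi, b • t • v = t • v
  · -- (a)
    have hsub : ∀ u ∈ A, ∀ v ∈ Psi, u • t • v + t • v ∈ Psi := by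
      intro u hu v hv
      obtain ⟨y, hy, f, hf, he⟩ := AddSubgroup.mem_sup.1 (w.cen (t • v) fun b hb => hcase b hb v hv)
      rw [← he]
      have e1 : u • (y + f) + (y + f) = (u • y + y) + (f + f) := by
        rw [smul_add, hf u hu]; abel
      rw [e1, h.two, add_zero]
      exact Psi.add_mem (hPsiH u (hAH hu) y (hW'Psi y hy)) (hW'Psi y hy)
    -- `N = Ψ + tΨ`
    let N : AddSubgroup V := Psi ⊔ t • Psi
    have hNR : ∀ r ∈ R, ∀ n ∈ N, r • n ∈ N := by
      intro r hr n hn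
      obtain ⟨x, hx, y, hy, rfl⟩ := AddSubgroup.mem_sup.1 hn
      rw [smul_add]
      refine N.add_mem (AddSubgroup.mem_sup_left (hPsiH r (a.RH hr) x hx)) (AddSubgroup.mem_sup_right ?_)
      rw [mem_smul_as] at hy ⊢
      have h1 := hPsiH _ (a.RH (a.symm_smul hr)) _ hy
      have e1 : (t⁻¹ * r * t) • t⁻¹ • y = t⁻¹ • r • y := by
        rw [← mul_smul, ← mul_smul]
        congr 1
        group
      rwa [e1] at h1
    have hNA : ∀ u ∈ A, ∀ n ∈ N, u • n ∈ N := by
      intro u hu n hn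
      obtain ⟨x, hx, y, hy, rfl⟩ := AddSubgroup.mem_sup.1 hn
      rw [smul_add]
      refine N.add_mem (AddSubgroup.mem_sup_left (hPsiH u (hAH hu) x hx)) ?_
      have hy' := hy
      rw [mem_smul_as] at hy'
      have h1 := hsub u hu _ hy'
      rw [smul_inv_smul] at h1
      have h2 : u • y = (u • y + y) + y := by rw [add_assoc, h.two, add_zero]
      rw [h2]
      exact N.add_mem (AddSubgroup.mem_sup_left h1) (AddSubgroup.mem_sup_right hy)
    have hNH : ∀ x ∈ H, ∀ n ∈ N, x • n ∈ N := by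
      have hle : R ⊔ A ≤
          ({ carrier := {x | ∀ n ∈ N, x • n ∈ N}
             one_mem' := fun n hn => by rw [one_smul]; exact hn
             mul_mem' := fun {x y} hx hy n hn => by rw [mul_smul]; exact hx _ (hy n hn)
             inv_mem' := fun {x} hx n hn => by
               have hbij : Function.Surjective (fun n : N => (⟨x • (n : V), hx n n.2⟩ : N)) := by
                 apply Finite.surjective_of_injective
                 intro p q hpq
                 exact Subtype.ext (smul_left_cancel x (congrArg Subtype.val hpq))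
               obtain ⟨m, hm⟩ := hbij ⟨n, hn⟩
               have h1 : x • (m : V) = n := congrArg Subtype.val hm
               rw [← h1, inv_smul_smul]
               exact m.2 } : Subgroup Y) := sup_le (fun r hr => hNR r hr) (fun u hu => hNA u hu)
      rw [a.gen hAH hM] at hle
      exact fun x hx => hle hx
    have hNt : ∀ n ∈ N, t • n ∈ N := by
      intro n hn
      obtain ⟨x, hx, y, hy, rfl⟩ := AddSubgroup.mem_sup.1 hn
      rw [smul_add]
      refine N.add_mem (AddSubgroup.mem_sup_right (smul_mem_smul_as hx)) (AddSubgroup.mem_sup_left ?_)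
      rw [mem_smul_as] at hy
      have h1 := hPsiH _ (a.RH a.t_sq) _ hy
      have e1 : (t * t) • t⁻¹ • y = t • y := by
        rw [← mul_smul]
        congr 1
        group
      rwa [e1] at h1
    have hNE : N ≤ Ee V B := by
      refine sup_le (hPsiE B hB hBR) ?_
      intro y hy
      rw [mem_smul_as] at hy
      have := hPsiE' B hB hBR _ hy
      rwa [smul_inv_smul] at this
    rcases Amal.no_sub a h hNH hNt with h1 | h1
    · -- `N = 0`
      have h2 : fx V R ≤ N := fun x hx => AddSubgroup.mem_sup_left (hW'Psi x (by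
        rw [mem_smul_as]
        exact fx_le_WW (a.smul_V0' hx)))
      rw [h1] at h2
      have h3 : fx V R = ⊥ := le_bot_iff.1 h2
      have h4 : fx V H = ⊥ := le_bot_iff.1 (h3 ▸ a.C_le)
      have h5 := o.cV
      rw [h3, h4, AddSubgroup.card_bot] at h5
      omega
    · exact h1 B hB hNE
  · -- (b)
    push Not at hcase
    obtain ⟨b, hb, v, hv, hne⟩ := hcase
    have hd := dat a h o hB hBR hBQ (hE B hB hBR) hg hM
    have hex : ∃ v ∈ Psi, t • v ∉ Ee V A := by
      by_contra hcon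
      push Not at hcon
      apply hne
      have h1 : b • t • v + t • v ∈ fx V A := hmA.EB b hb.1.1 _ (hcon v hv)
      have h2 := hcomm' b hb v hv
      have h3 := hd.V0F _ (hd.C'V h2) h1
      exact (HE.add_eq_zero' h.two).1 (hd.CC' _ h3 h2)
    obtain ⟨v, hv, hvE⟩ := hex
    have h1 : Nat.card A₀ ≤ Nat.card ↥(t • fx V H) := by
      let f : A₀ → ↥(t • fx V H) := fun b => ⟨(b : Y) • t • v + t • v, hcomm' b b.2 v hv⟩
      apply Nat.card_le_card_of_injective f
      rintro ⟨x, hx⟩ ⟨y, hy⟩ hxy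
      have h2 : x • t • v + t • v = y • t • v + t • v := congrArg Subtype.val hxy
      have h3 : x • t • v = y • t • v := add_right_cancel h2
      have h4 : (y * x) • t • v + t • v ∈ fx V A := by
        rw [mul_smul, h3, ← mul_smul, hmA.sq y hy.1.1, one_smul, h.two]
        exact zero_mem _
      have h5 := hmA.inj _ hvE _ (mul_mem hy.1.1 hx.1.1) h4
      apply Subtype.ext
      change x = y
      have : y * (y * x) = y * 1 := by rw [h5]
      rw [← mul_assoc, hmA.sq y hy.1.1, one_mul, mul_one] at this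
      exact this
    rw [hd.cC', w.cC] at h1
    have h2 := w.card
    nlinarith

/-- The output of **THE THEOREM (bb OMEGA 20060)** : `k = 1`, no field automorphisms, any `C`.
`W' ∩ E₁ = V₀`, `B₁ ∩ Q' = 1`, `|B₁| = c`, `|U| = c²`, `T_H = B₁ Q'`, `B₁ = S₁`. -/
structure Out (A : Subgroup Y) (R Q Q' : Subgroup Y) (V₀ W' : AddSubgroup V) (c : ℕ) : Prop where
  cap : ∀ y ∈ W', y ∈ Ee V A → y ∈ V₀
  inf : A ⊓ Q ⊓ Q' = ⊥
  cB : Nat.card ↥(A ⊓ Q) = c
  cA : Nat.card A = c * c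
  mul : ∀ r ∈ R, ∃ b ∈ A ⊓ Q, ∃ q ∈ Q', r = b * q
  S : ∀ w : V, w ∉ Ee V A → ∀ s : Y, s ∈ A ⊓ Q ↔ s ∈ A ∧ s • w + w ∈ V₀ ⊔ fx V A
  c2 : 2 ≤ c

/-- **THE THEOREM (bb OMEGA 20060)** -/
theorem caseC [Finite Y] [Finite V] (a : Amal U T M H R t) (h : Amb V U T M) (o : One V H R c)
    {B : Subgroup Y} (hB : B ∈ U) (hBR : B ≤ R) (hBQ : ¬ B ≤ QQ H R) (hE : ∀ B ∈ U, B ≤ R → WW V H R ≤ Ee V B)
    {g : Y} (hg : g ∈ H) (hM : ¬ MulAut.conj g • B ≤ M)
    (star : ∃ b ∈ MulAut.conj g • B, b ∈ QQ H R ∧ b ∉ MulAut.conj t • QQ H R) :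
    Out (MulAut.conj g • B) R (QQ H R) (MulAut.conj t • QQ H R) (fx V R) (t • WW V H R) c := by
  have hd := dat a h o hB hBR hBQ (hE B hB hBR) hg hM
  obtain ⟨b, hbA, hbQ, hbQ'⟩ := star
  have hcap : ∀ y ∈ t • WW V H R, y ∈ Ee V (MulAut.conj g • B) → y ∈ fx V R := by
    intro y hy hyE
    by_contra hyV
    exact not_two a h o hB hBR hBQ hE hg hM (hd.two' hbA hbQ hbQ' hy hyE hyV)
  set A := MulAut.conj g • B with hAdef
  have hc2 := hd.c2
  -- `A₀ = 1`
  have hinf : A ⊓ QQ H R ⊓ MulAut.conj t • QQ H R = ⊥ := by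
    rw [eq_bot_iff]
    rintro s ⟨⟨hsA, hsQ⟩, hsQ'⟩
    rw [mem_bot]
    by_contra hs1
    have h1 : t • WW V H R = fx V R := le_antisymm
      (fun y hy => hcap y hy (mem_E_of_fix hd.mem hd.two hsA hs1 (hd.QW' s hsQ' y hy))) hd.V0W'
    have h2 := hd.cW'
    rw [h1] at h2
    have h3 : 0 < Nat.card (fx V R) := Nat.card_pos
    nlinarith
  have hle : Nat.card ↥(A ⊓ QQ H R) ≤ c := by
    have h1 := card_le_of_index (B := A ⊓ QQ H R) hd.Q'R (inf_le_right.trans hd.QR) hd.cR'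
    rwa [hinf, Subgroup.card_bot, mul_one] at h1
  -- `S₁`
  have hVF : Nat.card ↥(fx V R ⊔ fx V A) = c * Nat.card (fx V A) := by
    have h1 := card_sup_as (fx V R) (fx V A)
    have h2 : fx V R ⊓ fx V A = fx V H := le_antisymm (fun x hx => hd.V0F x hx.1 hx.2) (le_inf hd.CV hd.CF)
    rw [h2, hd.cV] at h1
    apply Nat.eq_of_mul_eq_mul_right (Nat.card_pos (α := fx V H))
    rw [h1]; ring
  have hpre : ∀ w : V, w ∉ Ee V A → Nat.card (pre A w (fx V R ⊔ fx V A)) = c := by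
    intro w hw
    have h1 := card_pre hd.mem hd.two hw (D := fx V R ⊔ fx V A) le_sup_right (sup_le hd.V0E hd.mem.FE)
    rw [hVF] at h1
    exact Nat.eq_of_mul_eq_mul_right (Nat.card_pos (α := fx V A)) h1
  have hpresub : ∀ w : V, w ∉ Ee V A → pre A w (fx V R ⊔ fx V A) ⊆ (A ⊓ QQ H R : Subgroup Y) := by
    rintro w hw s ⟨hs, hsD⟩
    obtain ⟨v, hv, f, hf, he⟩ := AddSubgroup.mem_sup.1 hsD
    refine ⟨hs, hd.s_mem hw hv hs ?_⟩
    rw [← he]
    have e1 : v + f + v = (v + v) + f := by abel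
    rw [e1, hd.two, zero_add]; exact hf
  have hcB : Nat.card ↥(A ⊓ QQ H R) = c := by
    apply le_antisymm hle
    obtain ⟨w, hw⟩ := hd.mem.ne
    rw [← hpre w hw]
    exact Nat.card_mono (Set.toFinite _) (hpresub w hw)
  refine ⟨hcap, hinf, hcB, ?_, ?_, ?_, hc2⟩
  · rw [hd.cA, hcB]
  · intro r hr
    apply exists_mul_of_card (B := A ⊓ QQ H R) hd.Q'R (inf_le_right.trans hd.QR) hd.cR' _ hr
    rw [hinf, Subgroup.card_bot, mul_one, hcB]
  · intro w hw s
    have h1 : pre A w (fx V R ⊔ fx V A) = (A ⊓ QQ H R : Subgroup Y) := by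
      apply Set.eq_of_subset_of_ncard_le (hpresub w hw) _ (Set.toFinite _)
      change Nat.card ↥(A ⊓ QQ H R) ≤ Nat.card (pre A w (fx V R ⊔ fx V A))
      rw [hpre w hw, hcB]
    have h2 : s ∈ pre A w (fx V R ⊔ fx V A) ↔ s ∈ (A ⊓ QQ H R : Subgroup Y) := by rw [h1]; rfl
    exact h2.symm

/-- with `|V| = q |E|` and (PF) `q² ≤ |U|`: `c = q`, `V = W' + E₁` -/
theorem caseC_top [Finite Y] [Finite V] {A : Subgroup Y} {q : ℕ} (a : Amal U T M H R t)
    (o : One V H R c) (hV0 : fx V R ≤ Ee V A)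
    (w : Out A R (QQ H R) (MulAut.conj t • QQ H R) (fx V R) (t • WW V H R) c)
    (hq : Nat.card V = q * Nat.card (Ee V A)) (hpf : q * q ≤ Nat.card A) :
    c = q ∧ t • WW V H R ⊔ Ee V A = ⊤ := by
  have h1 := card_sup_as (t • WW V H R) (Ee V A)
  have h2 : t • WW V H R ⊓ Ee V A = fx V R := by
    apply le_antisymm
    · rintro y ⟨hy, hyE⟩
      exact w.cap y hy hyE
    · refine le_inf ?_ hV0
      intro x hx
      rw [mem_smul_as]
      exact fx_le_WW (a.smul_V0' hx)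
  rw [h2, card_smul_as, o.cW] at h1
  have h3 : Nat.card ↥(t • WW V H R ⊔ Ee V A) = c * Nat.card (Ee V A) := by
    apply Nat.eq_of_mul_eq_mul_right (Nat.card_pos (α := fx V R))
    rw [h1]; ring
  have h4 : Nat.card ↥(t • WW V H R ⊔ Ee V A) ≤ Nat.card V :=
    Nat.card_le_card_of_injective _ (AddSubgroup.subtype_injective _)
  rw [h3, hq] at h4
  have h5 : c ≤ q := Nat.le_of_mul_le_mul_right h4 Nat.card_pos
  rw [w.cA] at hpf
  have h6 : q ≤ c := by
    by_contra hcon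
    push Not at hcon
    nlinarith
  have h7 : c = q := le_antisymm h5 h6
  refine ⟨h7, ?_⟩
  apply eq_of_le_as le_top
  rw [AddSubgroup.card_top, hq, h3, h7]

end One

end Cfsg.Agent.Omega.NO1.TH

end

section


/-!
# N1, one component: the world is inherited by subgroups (bb OMEGA 20114, helper620; 20994, helper406)

Case (A) of the amalgam: a member `B ≤ R = T_H` with `W ≰ E_B`.  Then `O₂(H) = 1` (LEMMA Q, `LemQ.lean`) and all
fields of `World` hold for `H`, the class `cl B` of the `H`-conjugates of `B`, `R ∈ Syl₂(H)`, `H ∩ M`, the same `V`.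
-/

set_option autoImplicit false
set_option linter.unusedSectionVars false

namespace Cfsg.Agent.Omega.NO1.TH

open Subgroup Cfsg.Agent.Omega.NO1.AB
open scoped Pointwise

universe u

section sub

variable {Y : Type u} [Group Y] {V : Type u} [AddCommGroup V] [DistribMulAction Y V] {H : Subgroup Y}

/-! ### subgroups of `H` as subgroups of `Y` -/

theorem Ee_map (B : Subgroup H) : Ee V (B.map H.subtype) = Ee V B := by
  ext v
  constructor
  · intro h b hb
    have h1 := h b ⟨b, hb, rfl⟩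
    rw [fx_map] at h1
    exact h1
  · rintro h _ ⟨b, hb, rfl⟩
    rw [fx_map]
    exact h b hb

theorem fx_subgroupOf {B : Subgroup Y} (hBH : B ≤ H) : fx V (B.subgroupOf H) = fx V B := by
  rw [← fx_map, map_subgroupOf_eq_of_le hBH]

theorem Ee_subgroupOf {B : Subgroup Y} (hBH : B ≤ H) : Ee V (B.subgroupOf H) = Ee V B := by
  rw [← Ee_map, map_subgroupOf_eq_of_le hBH]

theorem card_map_sub (B : Subgroup H) : Nat.card ↥(B.map H.subtype) = Nat.card B :=
  (Nat.card_congr (B.equivMapOfInjective _ H.subtype_injective).toEquiv).symm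

theorem conj_map (h : H) (B : Subgroup H) :
    (MulAut.conj h • B).map H.subtype = MulAut.conj (h : Y) • B.map H.subtype := by
  ext y
  rw [mem_conj]
  constructor
  · rintro ⟨b, hb, rfl⟩
    rw [SetLike.mem_coe, mem_conj] at hb
    exact ⟨_, hb, rfl⟩
  · rintro ⟨b, hb, hby⟩
    refine ⟨h * b * h⁻¹, conj_mem_conj hb, ?_⟩
    change (h : Y) * b * (h : Y)⁻¹ = y
    have hby' : (b : Y) = (h : Y)⁻¹ * y * h := hby
    rw [hby']
    group

theorem mem_of_map {B : Subgroup H} {E F : AddSubgroup V} (h : Mem (B.map H.subtype) E F) : Mem B E F where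
  comm := fun b hb c hc => Subtype.ext (h.comm b ⟨b, hb, rfl⟩ c ⟨c, hc, rfl⟩)
  sq := fun b hb => Subtype.ext (h.sq b ⟨b, hb, rfl⟩)
  FE := h.FE
  VB := fun b hb => h.VB b ⟨b, hb, rfl⟩
  EB := fun b hb => h.EB b ⟨b, hb, rfl⟩
  FB := fun b hb => h.FB b ⟨b, hb, rfl⟩
  CB := fun v hv => h.CB v (by
    rintro _ ⟨b, hb, rfl⟩
    exact hv b hb)
  inj := fun w hw b hb hbw => Subtype.ext (h.inj w hw b ⟨b, hb, rfl⟩ hbw)
  surj := fun w hw e he => by
    obtain ⟨_, ⟨b, hb, rfl⟩, h1⟩ := h.surj w hw e he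
    exact ⟨b, hb, h1⟩
  ne := h.ne

/-- the class of `B` in `H` -/
def cl (B : Subgroup H) : Set (Subgroup H) := {C | ∃ h : H, C = MulAut.conj h • B}

theorem self_mem_cl (B : Subgroup H) : B ∈ cl B := ⟨1, by rw [map_one, one_smul]⟩

theorem cl_map {U : Set (Subgroup Y)} (hc : Cls V U) {B : Subgroup H} (hB : B.map H.subtype ∈ U) {C : Subgroup H}
    (hC : C ∈ cl B) : C.map H.subtype ∈ U := by
  obtain ⟨h, rfl⟩ := hC
  rw [conj_map]
  exact hc.conj _ hB _

/-- the class is a class of members -/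
theorem cls_sub {U : Set (Subgroup Y)} (hc : Cls V U) {B : Subgroup H} (hB : B.map H.subtype ∈ U) :
    Cls V (cl B) where
  two := hc.two
  mem := fun C hC => by
    have h1 := hc.mem _ (cl_map hc hB hC)
    rw [Ee_map, fx_map] at h1
    exact mem_of_map h1
  mu := fun C hC A₀ hA₀ => by
    have h1 := hc.mu _ (cl_map hc hB hC) (A₀.map H.subtype) (map_mono hA₀)
    rw [card_map_sub, fx_map, Ee_map] at h1
    exact h1
  conj := by
    rintro _ ⟨h, rfl⟩ y
    exact ⟨y * h, by rw [conj_smul_smul]⟩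
  eq := by
    rintro _ ⟨h, rfl⟩ _ ⟨k, rfl⟩
    refine ⟨k * h⁻¹, ?_⟩
    rw [conj_smul_smul]
    congr 2
    group

/-- SOC is inherited -/
theorem soc_sub {U : Set (Subgroup Y)} (hc : Cls V U)
    (soc : ∀ B ∈ U, ∀ X : Subgroup Y, B ≤ X → (∃ v : V, v ≠ 0 ∧ ∀ x ∈ X, x • v = v) → B ⊓ ZN.o2 X ≠ ⊥)
    {B : Subgroup H} (hB : B.map H.subtype ∈ U) {C : Subgroup H} (hC : C ∈ cl B) (X : Subgroup H) (hCX : C ≤ X)
    (hX : ∃ v : V, v ≠ 0 ∧ ∀ x ∈ X, x • v = v) : C ⊓ ZN.o2 X ≠ ⊥ := by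
  obtain ⟨v, hv0, hv⟩ := hX
  intro h1
  apply soc _ (cl_map hc hB hC) (X.map H.subtype) (map_mono hCX) ⟨v, hv0, by
    rintro _ ⟨x, hx, rfl⟩
    exact hv x hx⟩
  rw [ZN.o2_map H.subtype H.subtype_injective, ← Subgroup.map_inf _ _ _ H.subtype_injective, h1, Subgroup.map_bot]

/-- lines are inherited -/
theorem Line.sub {B : Subgroup H} {x : V} {A₁ : Subgroup Y} (h : Line V (B.map H.subtype) x A₁) :
    Line V B x (A₁.subgroupOf H) := by
  have hA : A₁ ≤ H := h.le.trans (map_subtype_le B)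
  have hm : (A₁.subgroupOf H).map H.subtype = A₁ := map_subgroupOf_eq_of_le hA
  have hcard : Nat.card (A₁.subgroupOf H) = Nat.card A₁ := by
    rw [← card_map_sub, hm]
  refine ⟨?_, ?_, fun s hs => h.fix s hs, fun s hs r hr => h.quad s hs r hr, fun E' h1 h2 b hb => ?_⟩
  · intro s hs
    obtain ⟨b, hb, hbs⟩ := h.le (show (s : Y) ∈ A₁ from hs)
    have : b = s := Subtype.ext hbs
    rwa [← this]
  · rw [hcard]
    have := h.card
    rwa [Ee_map] at this
  · rw [hcard] at h2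
    exact h.tr E' (fun s hs v hv => h1 ⟨s, hA hs⟩ hs v hv) h2 b ⟨b, hb, rfl⟩

end sub

section world

variable {Y : Type u} [Group Y] {V : Type u} [AddCommGroup V] [DistribMulAction Y V] {U : Set (Subgroup Y)}
  {T : Sylow 2 Y} {M H R : Subgroup Y} {t : Y} {q : ℕ}

/-- `a² ≤ |B|`, `2 ≤ a` : `|V : E_B| < |B|` -/
theorem World.lt (w : World V U T M q) {B : Subgroup Y} (hB : B ∈ U) : (Ee V B).index < Nat.card B := by
  rw [w.ind B hB]
  have h1 := w.pf B hB
  have h2 := w.two_le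
  nlinarith

/-- **(q3)**: in case (A) no `H`-submodule `≠ 0` lies in `E_B` -/
theorem Amal.irr_sub [Finite Y] [Finite V] (a : Amal U T M H R t) (h : Amb V U T M)
    (soc : ∀ B ∈ U, ∀ X : Subgroup Y, B ≤ X → (∃ v : V, v ≠ 0 ∧ ∀ x ∈ X, x • v = v) → B ⊓ ZN.o2 X ≠ ⊥)
    {B : Subgroup Y} (hB : B ∈ U) (hBR : B ≤ R) (hlt : (Ee V B).index < Nat.card B)
    (hW : ¬ WW V H R ≤ Ee V B) {W : AddSubgroup V} (hWi : ∀ x : H, ∀ w ∈ W, x • w ∈ W) {C : Subgroup H}
    (hC : C ∈ cl (B.subgroupOf H)) (hWC : W ≤ Ee V C) : W = ⊥ := by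
  obtain ⟨P, _, hl, hW'⟩ := a.exists_lq h soc hB hBR hlt hW
  by_contra hne
  have h1 := hl.le_of_ne (hl.inf_core hW') (A := W) (fun x _ w hw => hWi x w hw) hne
  apply hl.VO_not_le hW'
  refine h1.trans ?_
  obtain ⟨x, rfl⟩ := hC
  rw [Ee_conj, Ee_subgroupOf (hBR.trans a.RH)] at hWC
  intro w hw
  have h2 := hWC (hWi x w hw)
  rw [mem_smul_as, inv_smul_smul] at h2
  exact h2

end world

end Cfsg.Agent.Omega.NO1.TH

end

section


/-!
# N1, BETA, the amalgam `(H, H^t)`: (L1) (bb OMEGA 21480, helper411), part 1: `t`-transport, factors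
-/

set_option autoImplicit false
set_option linter.unusedSectionVars false

namespace Cfsg.Agent.Omega.NO1.TH

open Subgroup Cfsg.Agent.Omega.NO1.AB
open scoped Pointwise

universe u

variable {Y : Type u} [Group Y] {V : Type u} [AddCommGroup V] [DistribMulAction Y V]

/-- the fixer of a subgroup of `V` -/
def fxr (S : AddSubgroup V) : Subgroup Y where
  carrier := {y | ∀ v ∈ S, y • v = v}
  one_mem' := fun v _ => one_smul Y v
  mul_mem' := fun {a b} ha hb v hv => by rw [mul_smul, hb v hv, ha v hv]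
  inv_mem' := fun {a} ha v hv => by rw [inv_smul_eq_iff, ha v hv]

theorem mem_fxr {S : AddSubgroup V} {y : Y} : y ∈ (fxr S : Subgroup Y) ↔ ∀ v ∈ S, y • v = v := Iff.rfl

theorem mem_brk {W : AddSubgroup V} {P : Subgroup Y} {w : V} (hw : w ∈ W) {p : Y} (hp : p ∈ P) :
    p • w + w ∈ brk W P := AddSubgroup.subset_closure ⟨w, hw, p, hp, rfl⟩

theorem brk_le {W X : AddSubgroup V} {P : Subgroup Y} (h : ∀ w ∈ W, ∀ p ∈ P, p • w + w ∈ X) : brk W P ≤ X := by
  refine (AddSubgroup.closure_le _).2 ?_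
  rintro _ ⟨w, hw, p, hp, rfl⟩
  exact h w hw p hp

theorem smul_brk {W W' : AddSubgroup V} {P P' : Subgroup Y} {g : Y} (hW : ∀ w ∈ W, g • w ∈ W')
    (hP : ∀ p ∈ P, g * p * g⁻¹ ∈ P') {v : V} (hv : v ∈ brk W P) : g • v ∈ brk W' P' := by
  induction hv using AddSubgroup.closure_induction with
  | mem v hv =>
    obtain ⟨w, hw, p, hp, rfl⟩ := hv
    have e : g • (p • w + w) = (g * p * g⁻¹) • (g • w) + g • w := by
      rw [smul_add, mul_smul, mul_smul, inv_smul_smul]
    rw [e]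
    exact mem_brk (hW w hw) (hP p hp)
  | zero => rw [smul_zero]; exact zero_mem _
  | add a b _ _ h1 h2 => rw [smul_add]; exact add_mem h1 h2
  | neg a _ h1 => rw [smul_neg]; exact neg_mem h1

theorem smul_conj (g q : Y) (v : V) : q • g • v = g • (g⁻¹ * q * g) • v := by
  rw [← mul_smul, ← mul_smul]; congr 1; group

/-- `C_Q(W + C_{W'}(J))` -/
def QS (V : Type u) [AddCommGroup V] [DistribMulAction Y V] (U : Set (Subgroup Y)) (H H' R : Subgroup Y) :
    Subgroup Y where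
  carrier := {q | q ∈ QQ H R ∧ (∀ x ∈ WW V H R, q • x = x) ∧ ∀ x ∈ WJ V U H' R, q • x = x}
  one_mem' := ⟨one_mem _, fun v _ => one_smul Y v, fun v _ => one_smul Y v⟩
  mul_mem' := fun {a b} ha hb => ⟨mul_mem ha.1 hb.1, fun v hv => by rw [mul_smul, hb.2.1 v hv, ha.2.1 v hv],
    fun v hv => by rw [mul_smul, hb.2.2 v hv, ha.2.2 v hv]⟩
  inv_mem' := fun {a} ha => ⟨inv_mem ha.1, fun v hv => by rw [inv_smul_eq_iff, ha.2.1 v hv],
    fun v hv => by rw [inv_smul_eq_iff, ha.2.2 v hv]⟩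

/-- `C_Q(⟨W'^H⟩)` -/
def QSS (V : Type u) [AddCommGroup V] [DistribMulAction Y V] (H H' R : Subgroup Y) : Subgroup Y where
  carrier := {q | q ∈ QQ H R ∧ ∀ g ∈ H, ∀ w ∈ WW V H' R, q • g • w = g • w}
  one_mem' := ⟨one_mem _, fun g _ v _ => one_smul Y _⟩
  mul_mem' := fun {a b} ha hb => ⟨mul_mem ha.1 hb.1, fun g hg v hv => by
    rw [mul_smul, hb.2 g hg v hv, ha.2 g hg v hv]⟩
  inv_mem' := fun {a} ha => ⟨inv_mem ha.1, fun g hg v hv => by rw [inv_smul_eq_iff, ha.2 g hg v hv]⟩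

theorem conj_QSS {H H' R : Subgroup Y} {x q : Y} (hx : x ∈ H) (hq : q ∈ QSS V H H' R) :
    x * q * x⁻¹ ∈ QSS V H H' R := by
  refine ⟨conj_mem_QQ hx hq.1, fun g hg w hw => ?_⟩
  rw [← mul_smul]
  have e : x * q * x⁻¹ * g = x * (q * (x⁻¹ * g)) := by group
  rw [e, mul_smul, mul_smul, hq.2 _ (H.mul_mem (H.inv_mem hx) hg) w hw, ← mul_smul]
  congr 1
  group

/-! ### factors -/

namespace LFac

variable {U : Set (Subgroup Y)} {H R : Subgroup Y} {ι : Type} {P : ι → Subgroup Y} {Ψ : ι → AddSubgroup V}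
  (f : LFac V U H R P Ψ) (two : ∀ v : V, v + v = 0)
include f two

/-- the group generated by the `P p` acts on `Ψ p` as `P p` -/
theorem proj {q : Y} (hq : q ∈ ⨆ p, P p) (p : ι) : ∃ r ∈ P p, ∀ x ∈ Ψ p, q • x = r • x := by
  let K : Subgroup Y :=
    { carrier := {q | (∀ x ∈ WJ V U H R, q • x = x) ∧ ∃ r ∈ P p, ∀ x ∈ Ψ p, q • x = r • x}
      one_mem' := ⟨fun x _ => one_smul Y x, 1, one_mem _, fun x _ => rfl⟩
      mul_mem' := by
        rintro b c ⟨hb1, r, hr, hb2⟩ ⟨hc1, s, hs, hc2⟩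
        refine ⟨fun x hx => by rw [mul_smul, hc1 x hx, hb1 x hx], r * s, mul_mem hr hs, fun x hx => ?_⟩
        have h1 : s • x = (s • x + x) + x := by rw [add_assoc, two, add_zero]
        have h2 : ∀ y : Y, y • s • x = y • (s • x + x) + y • x := fun y => by rw [← smul_add, ← h1]
        rw [mul_smul, mul_smul, hc2 x hx, h2, h2, hb1 _ (f.quad p s hs x hx),
          f.fixJ p r hr _ (f.quad p s hs x hx), hb2 x hx]
      inv_mem' := by
        rintro b ⟨hb1, r, hr, hb2⟩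
        refine ⟨fun x hx => by rw [inv_smul_eq_iff, hb1 x hx], r⁻¹, inv_mem hr, fun x hx => ?_⟩
        have h1 := f.quad p r hr x hx
        have h2 : b⁻¹ • (r • x + x) = r • x + x := by rw [inv_smul_eq_iff, hb1 _ h1]
        have h3 : r⁻¹ • (r • x + x) = r • x + x := by rw [inv_smul_eq_iff, f.fixJ p r hr _ h1]
        rw [smul_add, ← hb2 x hx, inv_smul_smul, hb2 x hx, add_comm] at h2
        rw [smul_add, inv_smul_smul, add_comm] at h3
        exact add_right_cancel (h2.trans h3.symm) }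
  have hK : (⨆ p, P p) ≤ K := by
    apply iSup_le
    intro p' r hr
    refine ⟨f.fixJ p' r hr, ?_⟩
    by_cases hp : p' = p
    · subst hp
      exact ⟨r, hr, fun x _ => rfl⟩
    · exact ⟨1, one_mem _, fun x hx => by rw [f.orth p' p hp r hr x hx, one_smul]⟩
  exact (hK hq).2

omit two in
theorem fix {q : Y} (hq : q ∈ ⨆ p, P p) {x : V} (hx : x ∈ WJ V U H R) : q • x = x := by
  have hK : (⨆ p, P p) ≤ fxr (WJ V U H R) := iSup_le fun p r hr => f.fixJ p r hr
  exact hK hq x hx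

/-- `[W, ⟨P p⟩] ≤ C_W(J)` -/
theorem comm {q : Y} (hq : q ∈ ⨆ p, P p) {w : V} (hw : w ∈ WW V H R) : q • w + w ∈ WJ V U H R := by
  let D : AddSubgroup V :=
    { carrier := {w | q • w + w ∈ WJ V U H R}
      zero_mem' := by
        change q • (0 : V) + 0 ∈ WJ V U H R
        rw [smul_zero, add_zero]; exact zero_mem _
      add_mem' := fun {v w} hv hw => by
        change q • (v + w) + (v + w) ∈ WJ V U H R
        have e : q • (v + w) + (v + w) = (q • v + v) + (q • w + w) := by rw [smul_add]; abel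
        rw [e]; exact add_mem hv hw
      neg_mem' := fun {v} hv => by
        change q • (-v) + (-v) ∈ WJ V U H R
        rw [smul_neg, ← neg_add]; exact neg_mem hv }
  have h1 : WJ V U H R ⊔ ⨆ p, Ψ p ≤ D := by
    refine sup_le (fun x hx => ?_) (iSup_le fun p x hx => ?_)
    · change q • x + x ∈ WJ V U H R
      rw [f.fix hq hx, two]; exact zero_mem _
    · change q • x + x ∈ WJ V U H R
      obtain ⟨r, hr, h2⟩ := f.proj two hq p
      rw [h2 x hx]
      exact f.quad p r hr x hx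
  exact h1 (f.sup hw)

theorem mem_brk_of {q : Y} (hq : q ∈ ⨆ p, P p) {p : ι} {x : V} (hx : x ∈ Ψ p) : q • x + x ∈ brk (Ψ p) (P p) := by
  obtain ⟨r, hr, h2⟩ := f.proj two hq p
  rw [h2 x hx]
  exact mem_brk hx hr

end LFac

/-! ### transport by `t` -/

/-- members `≤ R` -/
theorem fix_of_conj {U : Set (Subgroup Y)} (hc : Cls V U) {R R' : Subgroup Y} {x : Y}
    (hx : ∀ r ∈ R, x⁻¹ * r * x ∈ R') {v : V} (hv : ∀ B ∈ U, B ≤ R' → ∀ b ∈ B, b • v = v) :
    ∀ B ∈ U, B ≤ R → ∀ b ∈ B, b • x • v = x • v := by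
  intro B hB hBR b hb
  rw [smul_conj, hv (MulAut.conj x⁻¹ • B) (hc.conj B hB _) ?_ (x⁻¹ * b * x)]
  · rw [mem_conj]
    have e : (x⁻¹)⁻¹ * (x⁻¹ * b * x) * x⁻¹ = b := by group
    rwa [e]
  · intro y hy
    rw [mem_conj] at hy
    have h1 := hx _ (hBR hy)
    have e : x⁻¹ * ((x⁻¹)⁻¹ * y * x⁻¹) * x = y := by group
    rwa [e] at h1

namespace Amal

variable {U : Set (Subgroup Y)} {T : Sylow 2 Y} {M H R : Subgroup Y} {t : Y}

section one

variable (a : Amal U T M H R t)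
include a

theorem RH' : R ≤ MulAut.conj t • H := fun r hr => by
  rw [mem_conj]; exact a.RH (a.symm_smul hr)

omit a in
theorem t_mem {x : Y} (hx : x ∈ H) : t * x * t⁻¹ ∈ MulAut.conj t • H := conj_mem_conj hx

omit a in
theorem t_mem' {x : Y} (hx : x ∈ MulAut.conj t • H) : t⁻¹ * x * t ∈ H := by rwa [mem_conj] at hx

theorem t_mem2 {x : Y} (hx : x ∈ MulAut.conj t • H) : t * x * t⁻¹ ∈ H := by
  have h1 := H.mul_mem (H.mul_mem (a.RH a.t_sq) (t_mem' hx)) (H.inv_mem (a.RH a.t_sq))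
  have e : t * t * (t⁻¹ * x * t) * (t * t)⁻¹ = t * x * t⁻¹ := by group
  rwa [e] at h1

theorem t_mem3 {x : Y} (hx : x ∈ H) : t⁻¹ * x * t ∈ MulAut.conj t • H := by
  rw [mem_conj]
  have h1 := H.mul_mem (H.mul_mem (H.inv_mem (a.RH a.t_sq)) hx) (a.RH a.t_sq)
  have e : t⁻¹ * (t⁻¹ * x * t) * t = (t * t)⁻¹ * x * (t * t) := by group
  rwa [e]

/-- `t W = W'` -/
theorem smul_W {w : V} (hw : w ∈ WW V H R) : t • w ∈ WW V (MulAut.conj t • H) R := by
  induction hw using AddSubgroup.closure_induction with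
  | mem v hv =>
    obtain ⟨x, hx, w, hw, rfl⟩ := hv
    have e : t • x • w = (t * x * t⁻¹) • t • w := by
      rw [← mul_smul, ← mul_smul]; congr 1; group
    rw [e]
    exact smul_mem_WW (t_mem hx) (fx_le_WW (a.smul_V0 hw))
  | zero => rw [smul_zero]; exact zero_mem _
  | add b c _ _ h1 h2 => rw [smul_add]; exact add_mem h1 h2
  | neg b _ h1 => rw [smul_neg]; exact neg_mem h1

theorem smul_W' {w : V} (hw : w ∈ WW V (MulAut.conj t • H) R) : t • w ∈ WW V H R := by
  induction hw using AddSubgroup.closure_induction with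
  | mem v hv =>
    obtain ⟨x, hx, w, hw, rfl⟩ := hv
    have e : t • x • w = (t * x * t⁻¹) • t • w := by
      rw [← mul_smul, ← mul_smul]; congr 1; group
    rw [e]
    exact smul_mem_WW (a.t_mem2 hx) (fx_le_WW (a.smul_V0 hw))
  | zero => rw [smul_zero]; exact zero_mem _
  | add b c _ _ h1 h2 => rw [smul_add]; exact add_mem h1 h2
  | neg b _ h1 => rw [smul_neg]; exact neg_mem h1

theorem inv_smul_W {w : V} (hw : w ∈ WW V H R) : t⁻¹ • w ∈ WW V (MulAut.conj t • H) R := by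
  have e : t⁻¹ • w = t • (t * t)⁻¹ • w := by
    rw [← mul_smul]; congr 1; group
  rw [e]
  exact a.smul_W (smul_mem_WW (H.inv_mem (a.RH a.t_sq)) hw)

theorem inv_smul_W' {w : V} (hw : w ∈ WW V (MulAut.conj t • H) R) : t⁻¹ • w ∈ WW V H R := by
  have e : t⁻¹ • w = t • (t * t)⁻¹ • w := by
    rw [← mul_smul]; congr 1; group
  rw [e]
  exact a.smul_W' (smul_mem_WW (inv_mem (a.RH' a.t_sq)) hw)

theorem t_QQ {q : Y} (hq : q ∈ QQ H R) : t * q * t⁻¹ ∈ QQ (MulAut.conj t • H) R := by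
  intro x hx
  have h1 := a.t_norm _ (hq _ (t_mem' hx))
  have e : t * (t⁻¹ * x * t * q * (t⁻¹ * x * t)⁻¹) * t⁻¹ = x * (t * q * t⁻¹) * x⁻¹ := by group
  rwa [e] at h1

theorem t_QQ' {q : Y} (hq : q ∈ QQ (MulAut.conj t • H) R) : t⁻¹ * q * t ∈ QQ H R := by
  intro x hx
  have h1 := a.symm_smul (hq _ (t_mem hx))
  have e : t⁻¹ * (t * x * t⁻¹ * q * (t * x * t⁻¹)⁻¹) * t = x * (t⁻¹ * q * t) * x⁻¹ := by group
  rwa [e] at h1

theorem t_QQ2 {q : Y} (hq : q ∈ QQ (MulAut.conj t • H) R) : t * q * t⁻¹ ∈ QQ H R := by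
  have h1 := conj_mem_QQ (a.RH a.t_sq) (a.t_QQ' hq)
  have e : t * t * (t⁻¹ * q * t) * (t * t)⁻¹ = t * q * t⁻¹ := by group
  rwa [e] at h1

theorem t_QQ3 {q : Y} (hq : q ∈ QQ H R) : t⁻¹ * q * t ∈ QQ (MulAut.conj t • H) R := by
  have h1 := conj_mem_QQ (inv_mem (a.RH' a.t_sq)) (a.t_QQ hq)
  have e : (t * t)⁻¹ * (t * q * t⁻¹) * ((t * t)⁻¹)⁻¹ = t⁻¹ * q * t := by group
  rwa [e] at h1

end one

section amb

variable (a : Amal U T M H R t) (h : Amb V U T M)
include a h

theorem QQ_fix' {q : Y} (hq : q ∈ QQ (MulAut.conj t • H) R) {w : V} (hw : w ∈ WW V (MulAut.conj t • H) R) :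
    q • w = w := by
  have h1 := QQ_fix a h (a.t_QQ' hq) (a.inv_smul_W' hw)
  rw [mul_smul, mul_smul, smul_inv_smul] at h1
  exact smul_left_cancel t⁻¹ h1

theorem mem_QQ' [Finite Y] [Finite V] {r : Y} (hr : r ∈ R) (h1 : ∀ w ∈ WW V (MulAut.conj t • H) R, r • w = w) :
    r ∈ QQ (MulAut.conj t • H) R := by
  have h2 : t⁻¹ * r * t ∈ QQ H R := by
    rw [mem_QQ_iff a h (a.symm_smul hr)]
    intro w hw
    rw [mul_smul, mul_smul, h1 _ (a.smul_W hw), inv_smul_smul]
  have h3 := a.t_QQ h2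
  have e : t * (t⁻¹ * r * t) * t⁻¹ = r := by group
  rwa [e] at h3

theorem WJ_inv {r : Y} (hr : r ∈ R) {w : V} (hw : w ∈ WJ V U H R) : r • w ∈ WJ V U H R :=
  ⟨smul_mem_WW (a.RH hr) hw.1, fix_of_conj h.cls
    (fun s hs => R.mul_mem (R.mul_mem (R.inv_mem hr) hs) hr) hw.2⟩

theorem WJ_inv' {r : Y} (hr : r ∈ R) {w : V} (hw : w ∈ WJ V U (MulAut.conj t • H) R) :
    r • w ∈ WJ V U (MulAut.conj t • H) R :=
  ⟨smul_mem_WW (a.RH' hr) hw.1, fix_of_conj h.cls
    (fun s hs => R.mul_mem (R.mul_mem (R.inv_mem hr) hs) hr) hw.2⟩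

theorem t_WJ {w : V} (hw : w ∈ WJ V U H R) : t • w ∈ WJ V U (MulAut.conj t • H) R :=
  ⟨a.smul_W hw.1, fix_of_conj h.cls (fun _ hs => a.symm_smul hs) hw.2⟩

theorem t_WJ' {w : V} (hw : w ∈ WJ V U (MulAut.conj t • H) R) : t • w ∈ WJ V U H R :=
  ⟨a.smul_W' hw.1, fix_of_conj h.cls (fun _ hs => a.symm_smul hs) hw.2⟩

theorem t_WJi {w : V} (hw : w ∈ WJ V U H R) : t⁻¹ • w ∈ WJ V U (MulAut.conj t • H) R :=
  ⟨a.inv_smul_W hw.1, fix_of_conj h.cls (fun _ hs => by rw [inv_inv]; exact a.t_norm _ hs) hw.2⟩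

theorem t_WJi' {w : V} (hw : w ∈ WJ V U (MulAut.conj t • H) R) : t⁻¹ • w ∈ WJ V U H R :=
  ⟨a.inv_smul_W' hw.1, fix_of_conj h.cls (fun _ hs => by rw [inv_inv]; exact a.t_norm _ hs) hw.2⟩

theorem D0_inv {x : Y} (hx : x ∈ H) {w : V} (hw : w ∈ D0 V U H R) : x • w ∈ D0 V U H R :=
  ⟨smul_mem_WW hx hw.1, fix_of_conj h.cls (fun s hs => H.mul_mem (H.mul_mem (H.inv_mem hx) hs) hx) hw.2⟩

/-- `t` and `Q_*` -/
theorem t_QS {q : Y} (hq : q ∈ QS V U H (MulAut.conj t • H) R) : t * q * t⁻¹ ∈ QS V U (MulAut.conj t • H) H R := by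
  refine ⟨a.t_QQ hq.1, fun w hw => ?_, fun w hw => ?_⟩
  · rw [mul_smul, mul_smul, hq.2.1 _ (a.inv_smul_W' hw), smul_inv_smul]
  · rw [mul_smul, mul_smul, hq.2.2 _ (t_WJi a h hw), smul_inv_smul]

theorem ti_QS {q : Y} (hq : q ∈ QS V U H (MulAut.conj t • H) R) :
    t⁻¹ * q * t ∈ QS V U (MulAut.conj t • H) H R := by
  refine ⟨a.t_QQ3 hq.1, fun w hw => ?_, fun w hw => ?_⟩
  · rw [mul_smul, mul_smul, hq.2.1 _ (a.smul_W' hw), inv_smul_smul]
  · rw [mul_smul, mul_smul, hq.2.2 _ (t_WJ a h hw), inv_smul_smul]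

theorem t_QS' {q : Y} (hq : q ∈ QS V U (MulAut.conj t • H) H R) : t * q * t⁻¹ ∈ QS V U H (MulAut.conj t • H) R := by
  refine ⟨a.t_QQ2 hq.1, fun w hw => ?_, fun w hw => ?_⟩
  · rw [mul_smul, mul_smul, hq.2.1 _ (a.inv_smul_W hw), smul_inv_smul]
  · rw [mul_smul, mul_smul, hq.2.2 _ (t_WJi' a h hw), smul_inv_smul]

theorem ti_QS' {q : Y} (hq : q ∈ QS V U (MulAut.conj t • H) H R) :
    t⁻¹ * q * t ∈ QS V U H (MulAut.conj t • H) R := by
  refine ⟨a.t_QQ' hq.1, fun w hw => ?_, fun w hw => ?_⟩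
  · rw [mul_smul, mul_smul, hq.2.1 _ (a.smul_W hw), inv_smul_smul]
  · rw [mul_smul, mul_smul, hq.2.2 _ (t_WJ' a h hw), inv_smul_smul]

/-- a subgroup of `V` which is invariant under `R` and a member `≤ H` outside `M` -/
theorem Hinv {A : Subgroup Y} (hAH : A ≤ H) (hAM : ¬ A ≤ M) {W : AddSubgroup V} (h1 : Nm R W) (h2 : Nm A W) :
    Nm H W := by
  have h3 := h1.sup h2
  rwa [a.gen hAH hAM] at h3

end amb

end Amal

end Cfsg.Agent.Omega.NO1.TH

end

section


/-!
# N1, BETA, the amalgam `(H, H^t)`: (L1) (bb OMEGA 21480, helper411), part 2: the theorem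
-/

set_option autoImplicit false
set_option linter.unusedSectionVars false

namespace Cfsg.Agent.Omega.NO1.TH

open Subgroup Cfsg.Agent.Omega.NO1.AB
open scoped Pointwise

universe u

variable {Y : Type u} [Group Y] {V : Type u} [AddCommGroup V] [DistribMulAction Y V]

namespace LOne

variable {U : Set (Subgroup Y)} {T : Sylow 2 Y} {M H R : Subgroup Y} {t : Y} {ι : Type} {P : ι → Subgroup Y}
  {Ψ : ι → AddSubgroup V} {ι' : Type} {P' : ι' → Subgroup Y} {Ψ' : ι' → AddSubgroup V} {A : Subgroup Y}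
  (a : Amal U T M H R t) (h : Amb V U T M) (i : LIn V U M H R t P Ψ P' Ψ' A)
include a h i

/-! ### (1) -/

/-- `B₁` centralises `C_{W'}(J)` -/
theorem B_fix {b : Y} (hb : b ∈ A) (hbQ : b ∈ QQ H R) {x : V} (hx : x ∈ WJ V U (MulAut.conj t • H) R) :
    b • x = x := by
  obtain ⟨Δ, _, h1, _⟩ := i.exact
  refine i.fac'.fix ?_ hx
  exact (iSup₂_le fun p _ => le_iSup P' p) (h1 b hb hbQ)

/-- `A`-invariance from `v = w + f`, `w` centralised by the normal subgroup -/
theorem A_inv_aux {v : V} (hv : v ∈ WW V H R ⊔ fx V A) {u : Y} (hu : u ∈ A) : u • v + v ∈ WW V H R := by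
  obtain ⟨w, hw, f, hf, rfl⟩ := AddSubgroup.mem_sup.1 hv
  have e : u • (w + f) + (w + f) = (u • w + w) + (f + f) := by rw [smul_add, hf u hu]; abel
  rw [e, h.two, add_zero]
  exact add_mem (smul_mem_WW (i.AH hu) hw) hw

/-- **(1)**: `W + C_{W'}(J)` is `H`-invariant -/
theorem Wp_inv : Nm H (WW V H R ⊔ WJ V U (MulAut.conj t • H) R) := by
  apply a.Hinv h i.AH i.AM
  · intro r hr v hv
    obtain ⟨w, hw, x, hx, rfl⟩ := AddSubgroup.mem_sup.1 hv
    rw [smul_add]
    exact add_mem (AddSubgroup.mem_sup_left (smul_mem_WW (a.RH hr) hw))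
      (AddSubgroup.mem_sup_right (a.WJ_inv' h hr hx))
  · intro u hu v hv
    obtain ⟨w, hw, x, hx, rfl⟩ := AddSubgroup.mem_sup.1 hv
    rw [smul_add]
    refine add_mem (AddSubgroup.mem_sup_left (smul_mem_WW (i.AH hu) hw)) ?_
    have h1 := A_inv_aux a h i (i.CB x fun b hb hbQ => B_fix a h i hb hbQ hx) hu
    have e : u • x = (u • x + x) + x := by rw [add_assoc, h.two, add_zero]
    rw [e]
    exact add_mem (AddSubgroup.mem_sup_left h1) (AddSubgroup.mem_sup_right hx)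

theorem conj_QS {x q : Y} (hx : x ∈ H) (hq : q ∈ QS V U H (MulAut.conj t • H) R) :
    x * q * x⁻¹ ∈ QS V U H (MulAut.conj t • H) R := by
  have h1 : ∀ v ∈ WW V H R ⊔ WJ V U (MulAut.conj t • H) R, q • v = v := by
    intro v hv
    obtain ⟨w, hw, y, hy, rfl⟩ := AddSubgroup.mem_sup.1 hv
    rw [smul_add, hq.2.1 w hw, hq.2.2 y hy]
  have h2 : ∀ v ∈ WW V H R ⊔ WJ V U (MulAut.conj t • H) R, (x * q * x⁻¹) • v = v := by
    intro v hv
    rw [mul_smul, mul_smul, h1 _ (Wp_inv a h i x⁻¹ (inv_mem hx) v hv), smul_inv_smul]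
  exact ⟨conj_mem_QQ hx hq.1, fun v hv => h2 v (AddSubgroup.mem_sup_left hv),
    fun v hv => h2 v (AddSubgroup.mem_sup_right hv)⟩

theorem conj_QS' {x q : Y} (hx : x ∈ MulAut.conj t • H) (hq : q ∈ QS V U (MulAut.conj t • H) H R) :
    x * q * x⁻¹ ∈ QS V U (MulAut.conj t • H) H R := by
  have h1 := a.t_QS h (conj_QS a h i (Amal.t_mem' hx) (a.ti_QS' h hq))
  have e : t * (t⁻¹ * x * t * (t⁻¹ * q * t) * (t⁻¹ * x * t)⁻¹) * t⁻¹ = x * q * x⁻¹ := by group
  rwa [e] at h1

theorem B_QS {b : Y} (hb : b ∈ A) (hbQ : b ∈ QQ H R) : b ∈ QS V U H (MulAut.conj t • H) R :=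
  ⟨hbQ, fun _ hw => Amal.QQ_fix a h hbQ hw, fun _ hx => B_fix a h i hb hbQ hx⟩

theorem QS_le {q : Y} (hq : q ∈ QS V U H (MulAut.conj t • H) R) : q ∈ ⨆ p, P' p :=
  i.fac'.ofJ q (QQ_le hq.1) hq.2.2

theorem QS_le' {q : Y} (hq : q ∈ QS V U (MulAut.conj t • H) H R) : q ∈ ⨆ p, P p :=
  i.fac.ofJ q (QQ_le hq.1) hq.2.2

/-! ### (2) -/

/-- the decomposition of `W'` -/
theorem dec {w : V} (hw : w ∈ WW V (MulAut.conj t • H) R) :
    ∃ y ∈ WW V (MulAut.conj t • H) R, (∀ b ∈ A, b ∈ QQ H R → b • y = y) ∧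
      ∀ q ∈ ⨆ p, P' p, (q • w + w) + (q • y + y) ∈ fx V A := by
  obtain ⟨Δ, _, h1, h2⟩ := i.exact
  let D : AddSubgroup V :=
    { carrier := {w | ∃ y ∈ WW V (MulAut.conj t • H) R, (∀ b ∈ A, b ∈ QQ H R → b • y = y) ∧
        ∀ q ∈ ⨆ p, P' p, (q • w + w) + (q • y + y) ∈ fx V A}
      zero_mem' := ⟨0, zero_mem _, fun b _ _ => smul_zero b, fun q _ => by
        rw [smul_zero, add_zero, add_zero]; exact zero_mem _⟩
      add_mem' := by
        rintro v w ⟨y, hy1, hy2, hy3⟩ ⟨z, hz1, hz2, hz3⟩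
        refine ⟨y + z, add_mem hy1 hz1, fun b hb hbQ => by rw [smul_add, hy2 b hb hbQ, hz2 b hb hbQ],
          fun q hq => ?_⟩
        have e : q • (v + w) + (v + w) + (q • (y + z) + (y + z)) =
            ((q • v + v) + (q • y + y)) + ((q • w + w) + (q • z + z)) := by
          rw [smul_add, smul_add]; abel
        rw [e]
        exact add_mem (hy3 q hq) (hz3 q hq)
      neg_mem' := by
        rintro v ⟨y, hy1, hy2, hy3⟩
        refine ⟨-y, neg_mem hy1, fun b hb hbQ => by rw [smul_neg, hy2 b hb hbQ], fun q hq => ?_⟩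
        have e : q • (-v) + (-v) + (q • (-y) + (-y)) = -((q • v + v) + (q • y + y)) := by
          rw [smul_neg, smul_neg]; abel
        rw [e]
        exact neg_mem (hy3 q hq) }
  have h3 : WJ V U (MulAut.conj t • H) R ⊔ ⨆ p, Ψ' p ≤ D := by
    refine sup_le (fun x hx => ?_) (iSup_le fun p x hx => ?_)
    · refine ⟨x, hx.1, fun b hb hbQ => B_fix a h i hb hbQ hx, fun q hq => ?_⟩
      rw [h.two]; exact zero_mem _
    · by_cases hp : p ∈ Δ
      · refine ⟨0, zero_mem _, fun b _ _ => smul_zero b, fun q hq => ?_⟩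
        rw [smul_zero, add_zero, add_zero]
        obtain ⟨r, hr, h4⟩ := i.fac'.proj h.two hq p
        obtain ⟨b, hb, hbQ, h5⟩ := h2 p hp r hr
        have h6 : r • x = b • x := by
          have h7 := a.QQ_fix' h h5 (i.fac'.Ψle p hx)
          rw [mul_smul, inv_smul_eq_iff] at h7
          exact h7
        rw [h4 x hx, h6]
        have h8 := i.le₁ 1 (one_mem _) x (i.fac'.Ψle p hx)
        rw [one_smul] at h8
        exact h8 b hb
      · refine ⟨x, i.fac'.Ψle p hx, fun b hb hbQ => ?_, fun q hq => ?_⟩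
        · have h4 : (⨆ p' ∈ Δ, P' p') ≤ fxr (Ψ' p) := iSup₂_le fun p' hp' r hr =>
            i.fac'.orth p' p (fun e => hp (e ▸ hp')) r hr
          exact h4 (h1 b hb hbQ) x hx
        · rw [h.two]; exact zero_mem _
  exact h3 (i.fac'.sup hw)

/-- **(2)**: `I' = [W', Q_*]` is `H`-invariant -/
theorem I_inv : Nm H (brk (WW V (MulAut.conj t • H) R) (QS V U H (MulAut.conj t • H) R)) := by
  apply a.Hinv h i.AH i.AM
  · intro r hr v hv
    exact smul_brk (fun w hw => smul_mem_WW (a.RH' hr) hw) (fun q hq => conj_QS a h i (a.RH hr) hq) hv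
  · intro u hu v hv
    have key : ∀ v, v ∈ brk (WW V (MulAut.conj t • H) R) (QS V U H (MulAut.conj t • H) R) →
        u • v ∈ brk (WW V (MulAut.conj t • H) R) (QS V U H (MulAut.conj t • H) R) := by
      intro v hv
      induction hv using AddSubgroup.closure_induction with
      | mem v hv =>
        obtain ⟨w, hw, q, hq, rfl⟩ := hv
        obtain ⟨y, hy, h1, h2⟩ := dec a h i hw
        have h3 := h2 q (QS_le a h i hq) u hu
        obtain ⟨w₁, hw₁, f, hf, hyf⟩ := AddSubgroup.mem_sup.1 (i.CB y h1)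
        -- `q y + y = q f + f`
        have h4 : ∀ q' : Y, q' ∈ QS V U H (MulAut.conj t • H) R → q' • y + y = q' • f + f := by
          intro q' hq'
          rw [← hyf, smul_add, hq'.2.1 w₁ hw₁]
          have e : w₁ + q' • f + (w₁ + f) = (w₁ + w₁) + (q' • f + f) := by abel
          rw [e, h.two, zero_add]
        have h5 : u • (q • y + y) = (u * q * u⁻¹) • y + y := by
          rw [h4 q hq, h4 _ (conj_QS a h i (i.AH hu) hq), smul_add, mul_smul, mul_smul]
          have h6 : u⁻¹ • f = f := by rw [inv_smul_eq_iff, hf u hu]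
          rw [h6, hf u hu]
        rw [smul_add, h5] at h3
        have h7 : u • (q • w + w) = ((q • w + w) + (q • y + y)) + ((u * q * u⁻¹) • y + y) := by
          rw [← h3, add_assoc, h.two, add_zero]
        rw [h7]
        exact add_mem (add_mem (mem_brk hw hq) (mem_brk hy hq))
          (mem_brk hy (conj_QS a h i (i.AH hu) hq))
      | zero => rw [smul_zero]; exact zero_mem _
      | add b c _ _ h1 h2 => rw [smul_add]; exact add_mem h1 h2
      | neg b _ h1 => rw [smul_neg]; exact neg_mem h1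
    exact key v hv

theorem I_le : brk (WW V (MulAut.conj t • H) R) (QS V U H (MulAut.conj t • H) R) ≤ WJ V U (MulAut.conj t • H) R :=
  brk_le fun _ hw _ hq => i.fac'.comm h.two (QS_le a h i hq) hw

/-- **(2)**: the members `≤ H` centralise `I'` -/
theorem I_fix [Finite Y] {z : V} (hz : z ∈ brk (WW V (MulAut.conj t • H) R) (QS V U H (MulAut.conj t • H) R)) :
    ∀ B ∈ U, B ≤ H → ∀ b ∈ B, b • z = z := by
  intro B hB hBH b hb
  obtain ⟨x, hx, hxB⟩ := conj_into a.RH a.R2 (fun R' h1 h2 => a.le_card H a.bad R' h1 h2) hBH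
    (h.cls.mem B hB).isPGroup
  have h1 := (I_le a h i (I_inv a h i x hx z hz)).2 _ (h.cls.conj B hB x) hxB _ (conj_mem_conj hb)
  rw [mul_smul, mul_smul, inv_smul_smul] at h1
  exact smul_left_cancel x h1

/-! ### `I = t I'` -/

theorem t_I {z : V} (hz : z ∈ brk (WW V H R) (QS V U (MulAut.conj t • H) H R)) :
    t⁻¹ • z ∈ brk (WW V (MulAut.conj t • H) R) (QS V U H (MulAut.conj t • H) R) :=
  smul_brk (fun _ hw => a.inv_smul_W hw) (fun _ hq => by rw [inv_inv]; exact a.ti_QS' h hq) hz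

theorem t_I' {z : V} (hz : z ∈ brk (WW V (MulAut.conj t • H) R) (QS V U H (MulAut.conj t • H) R)) :
    t • z ∈ brk (WW V H R) (QS V U (MulAut.conj t • H) H R) :=
  smul_brk (fun _ hw => a.smul_W' hw) (fun q hq => a.t_QS h hq) hz

theorem J_inv : Nm (MulAut.conj t • H) (brk (WW V H R) (QS V U (MulAut.conj t • H) H R)) := by
  intro x hx z hz
  have h1 := t_I' a h i (I_inv a h i _ (Amal.t_mem' hx) _ (t_I a h i hz))
  rw [← mul_smul, ← mul_smul] at h1
  have e : t * (t⁻¹ * x * t) * t⁻¹ = x := by group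
  rwa [e] at h1

theorem J_fix [Finite Y] {z : V} (hz : z ∈ brk (WW V H R) (QS V U (MulAut.conj t • H) H R)) :
    ∀ B ∈ U, B ≤ MulAut.conj t • H → ∀ b ∈ B, b • z = z := by
  have h1 := fix_of_conj h.cls (x := t) (R := MulAut.conj t • H) (R' := H) (fun r hr => Amal.t_mem' hr)
    (I_fix a h i (t_I a h i hz))
  rwa [smul_inv_smul] at h1

/-- `JQ'` is induced by `Q_*` -/
theorem full {r : Y} (hr : r ∈ R) (hJ : ∀ x ∈ WJ V U (MulAut.conj t • H) R, r • x = x) :
    ∃ q ∈ QS V U H (MulAut.conj t • H) R, q⁻¹ * r ∈ QQ (MulAut.conj t • H) R := by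
  obtain ⟨Δ, ⟨p0, hp0⟩, h1, h2⟩ := i.exact
  let N : Subgroup Y :=
    { carrier := {r | r ∈ R ∧ ∃ q ∈ QS V U H (MulAut.conj t • H) R, q⁻¹ * r ∈ QQ (MulAut.conj t • H) R}
      one_mem' := ⟨one_mem _, 1, one_mem _, by rw [inv_one, one_mul]; exact one_mem _⟩
      mul_mem' := by
        rintro r s ⟨hr, q, hq, hqr⟩ ⟨hs, q', hq', hqs⟩
        refine ⟨mul_mem hr hs, q * q', mul_mem hq hq', ?_⟩
        have h3 := mul_mem (conj_mem_QQ (inv_mem (a.RH' (QQ_le hq'.1))) hqr) hqs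
        have e : q'⁻¹ * (q⁻¹ * r) * (q'⁻¹)⁻¹ * (q'⁻¹ * s) = (q * q')⁻¹ * (r * s) := by group
        rwa [e] at h3
      inv_mem' := by
        rintro r ⟨hr, q, hq, hqr⟩
        refine ⟨inv_mem hr, q⁻¹, inv_mem hq, ?_⟩
        have h3 := conj_mem_QQ (a.RH' (QQ_le hq.1)) (inv_mem hqr)
        have e : q * (q⁻¹ * r)⁻¹ * q⁻¹ = q⁻¹⁻¹ * r⁻¹ := by group
        rwa [e] at h3 }
  have hN0 : P' p0 ≤ N := by
    intro r hr
    obtain ⟨b, hb, hbQ, h5⟩ := h2 p0 hp0 r hr
    exact ⟨i.fac'.le p0 hr, b, B_QS a h i hb hbQ, h5⟩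
  have hN : (⨆ p, P' p) ≤ N := by
    apply iSup_le
    intro p r hr
    obtain ⟨s, hs, hP, _⟩ := i.fac'.trans p0 p
    have hrR := i.fac'.le p hr
    rw [hP, mem_conj] at hr
    obtain ⟨_, q, hq, hqr⟩ := hN0 hr
    refine ⟨hrR, s * q * s⁻¹, conj_QS a h i (a.RH hs) hq, ?_⟩
    have h3 := conj_mem_QQ (a.RH' hs) hqr
    have e : s * (q⁻¹ * (s⁻¹ * r * s)) * s⁻¹ = (s * q * s⁻¹)⁻¹ * r := by group
    rwa [e] at h3
  exact (hN (i.fac'.ofJ r hr hJ)).2

theorem full' {r : Y} (hr : r ∈ R) (hJ : ∀ x ∈ WJ V U H R, r • x = x) :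
    ∃ q ∈ QS V U (MulAut.conj t • H) H R, q⁻¹ * r ∈ QQ H R := by
  obtain ⟨q, hq, h1⟩ := full a h i (a.symm_smul hr) (fun x hx => by
    rw [mul_smul, mul_smul, hJ _ (a.t_WJ' h hx), inv_smul_smul])
  refine ⟨_, a.t_QS h hq, ?_⟩
  have h2 := a.t_QQ2 h1
  have e : t * (q⁻¹ * (t⁻¹ * r * t)) * t⁻¹ = (t * q * t⁻¹)⁻¹ * r := by group
  rwa [e] at h2

/-- `I_p ≤ I` -/
theorem Ip_le (p : ι) : brk (Ψ p) (P p) ≤ brk (WW V H R) (QS V U (MulAut.conj t • H) H R) := by
  apply brk_le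
  intro x hx r hr
  obtain ⟨q, hq, h1⟩ := full' a h i (i.fac.le p hr) (i.fac.fixJ p r hr)
  have h2 := a.QQ_fix h h1 (i.fac.Ψle p hx)
  rw [mul_smul, inv_smul_eq_iff] at h2
  rw [h2]
  exact mem_brk (i.fac.Ψle p hx) hq

/-! ### (3) -/

theorem J_inf [Finite Y] [Finite V] {z : V} (hz : z ∈ brk (WW V H R) (QS V U (MulAut.conj t • H) H R))
    (hz0 : z ∈ D0 V U H R) : z = 0 := by
  by_contra hne
  obtain ⟨w, ⟨hw1, hw2⟩, hw0, hw⟩ := HE.exists_fixed h.two (R := R) a.R2
    (brk (WW V H R) (QS V U (MulAut.conj t • H) H R) ⊓ D0 V U H R)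
    (fun r hr v hv => ⟨J_inv a h i r (a.RH' hr) v hv.1, a.D0_inv h (a.RH hr) hv.2⟩) ⟨z, ⟨hz, hz0⟩, hne⟩
  have h1 : ∀ {X : Subgroup Y}, (∀ x ∈ X, x • w = w) → X ≤ MulAction.stabilizer Y w := fun hX x hx => hX x hx
  have h2 : H ≤ MulAction.stabilizer Y w := by
    rw [← a.gen i.AH i.AM]
    exact sup_le (h1 hw) (h1 (hw2.2 A i.mA i.AH))
  have h3 : MulAut.conj t • H ≤ MulAction.stabilizer Y w := by
    rw [← a.gen i.AH i.AM, smul_sup]
    refine sup_le (fun x hx => ?_) (h1 (J_fix a h i hw1 _ (h.cls.conj A i.mA t) (conj_le_conj t i.AH)))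
    rw [mem_conj] at hx
    have := a.t_norm _ hx
    have e : t * (t⁻¹ * x * t) * t⁻¹ = x := by group
    rw [e] at this
    exact hw x this
  have h4 : t⁻¹ • w = 0 := by
    apply a.C_inf h
    · intro x hx
      rw [smul_conj]
      have h5 : ((t⁻¹)⁻¹ * x * t⁻¹) • w = w := h3 (by
        rw [inv_inv]; exact Amal.t_mem hx)
      rw [h5]
    · rw [smul_inv_smul]
      exact fun x hx => h2 hx
  apply hw0
  rw [inv_smul_eq_iff, smul_zero] at h4
  exact h4

/-! ### (4) -/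

/-- `S₁ ≤ B₁` -/
theorem S_le {w₀ x : V} (hw₀ : w₀ ∉ Ee V A) (hx : x ∈ WW V H R) {s : Y} (hs : s ∈ A)
    (he : s • w₀ + w₀ + x ∈ fx V A) : s ∈ QQ H R := by
  refine i.pre w₀ hw₀ s hs ?_
  have e : s • w₀ + w₀ = x + (s • w₀ + w₀ + x) := by
    have : x + (s • w₀ + w₀ + x) = (s • w₀ + w₀) + (x + x) := by abel
    rw [this, h.two, add_zero]
  rw [e]
  exact add_mem (AddSubgroup.mem_sup_left hx) (AddSubgroup.mem_sup_right he)

/-- `S₁ ≤ Q_**` -/
theorem S_QSS [Finite Y] {w₀ x : V} (hw₀ : w₀ ∉ Ee V A) (hx : x ∈ WW V H R) {s : Y} (hs : s ∈ A)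
    (he : s • w₀ + w₀ + x ∈ fx V A) : s ∈ QSS V H (MulAut.conj t • H) R := by
  have hm := h.cls.mem A i.mA
  have hsQ := S_le a h i hw₀ hx hs he
  refine ⟨hsQ, fun g hg w hw => ?_⟩
  obtain ⟨s', hs', he'⟩ := hm.surj w₀ hw₀ (g • w) (i.le₁ g hg w hw)
  -- `s'` is trivial on `W / D₀`
  have key : s' ∈ QQ H R := by
    apply i.faith s' hs'
    intro x₁ hx₁
    obtain ⟨s₁, hs₁, he₁⟩ := hm.surj w₀ hw₀ x₁ (i.WE hx₁)
    have h1 := mem_sym hm h.two hs₁ hs' he₁ he'
    have h2 : s₁ • (g • w) + g • w ∈ brk (WW V (MulAut.conj t • H) R) (QS V U H (MulAut.conj t • H) R) := by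
      have h3 := conj_QS a h i (inv_mem hg) (B_QS a h i hs₁ (S_le a h i hw₀ hx₁ hs₁ he₁))
      rw [inv_inv] at h3
      rw [smul_conj, ← smul_add]
      exact I_inv a h i g hg _ (mem_brk hw h3)
    exact ⟨add_mem (smul_mem_WW (i.AH hs') hx₁) hx₁, I_fix a h i (h1 ▸ h2)⟩
  have h1 := mem_sym hm h.two hs hs' he he'
  rw [a.QQ_fix h key hx, h.two] at h1
  exact (HE.add_eq_zero' h.two).1 h1.symm

/-- a non-trivial element of `Q_**` -/
theorem exists_S [Finite Y] [Finite V] : ∃ s ∈ QSS V H (MulAut.conj t • H) R, s ≠ 1 := by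
  have hm := h.cls.mem A i.mA
  obtain ⟨w₀, hw₀⟩ := hm.ne
  obtain ⟨x, hx, hxF⟩ : ∃ x ∈ WW V H R, x ∉ fx V A := by
    by_contra hcon
    push Not at hcon
    apply i.AQ
    obtain ⟨y, hy, hyA⟩ := conj_into a.RH a.R2 (fun R' h1 h2 => a.le_card H a.bad R' h1 h2) i.AH hm.isPGroup
    intro u hu
    have h1 : y * u * y⁻¹ ∈ QQ H R := by
      rw [a.mem_QQ_iff h (hyA (conj_mem_conj hu))]
      intro w hw
      rw [mul_smul, mul_smul, hcon _ (smul_mem_WW (inv_mem hy) hw) u hu, smul_inv_smul]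
    have h2 := conj_mem_QQ (inv_mem hy) h1
    have e : y⁻¹ * (y * u * y⁻¹) * y⁻¹⁻¹ = u := by group
    rwa [e] at h2
  obtain ⟨s, hs, he⟩ := hm.surj w₀ hw₀ x (i.WE hx)
  refine ⟨s, S_QSS a h i hw₀ hx hs he, ?_⟩
  rintro rfl
  rw [one_smul, h.two, zero_add] at he
  exact hxF he

/-! ### (5) -/

theorem QSS_fix' {q : Y} (hq : q ∈ QSS V H (MulAut.conj t • H) R) {w : V}
    (hw : w ∈ WW V (MulAut.conj t • H) R) : q • w = w := by
  have h1 := hq.2 1 (one_mem _) w hw
  rwa [one_smul] at h1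

theorem QSS_fix {q : Y} (hq : q ∈ QSS V H (MulAut.conj t • H) R) {w : V}
    (hw : w ∈ WW V H R) : q • w = w := a.QQ_fix h hq.1 hw

theorem QSS_QS [Finite Y] [Finite V] {q : Y} (hq : q ∈ QSS V H (MulAut.conj t • H) R) :
    q ∈ QS V U (MulAut.conj t • H) H R :=
  ⟨a.mem_QQ' h (QQ_le hq.1) fun _ hw => QSS_fix' a h i hq hw, fun _ hw => QSS_fix' a h i hq hw,
    fun _ hw => QSS_fix a h i hq hw.1⟩

/-- the group generated by the members `≤ H'` -/
def JJ (U : Set (Subgroup Y)) (H' : Subgroup Y) : Subgroup Y :=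
  Subgroup.closure {y | ∃ B ∈ U, B ≤ H' ∧ y ∈ B}

omit a h i in
theorem JJ_le {H' : Subgroup Y} : JJ U H' ≤ H' := by
  rw [JJ, closure_le]
  rintro y ⟨B, _, hB, hy⟩
  exact hB hy

omit a h i in
theorem conj_JJ (hc : Cls V U) {H' : Subgroup Y} {x g : Y} (hx : x ∈ H') (hg : g ∈ JJ U H') :
    x * g * x⁻¹ ∈ JJ U H' := by
  have h1 : JJ U H' ≤ (JJ U H').comap (MulAut.conj x).toMonoidHom := by
    conv_lhs => rw [JJ]
    rw [closure_le]
    rintro y ⟨B, hB, hBH, hy⟩
    refine subset_closure ⟨MulAut.conj x • B, hc.conj B hB x, ?_, conj_mem_conj hy⟩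
    intro z hz
    rw [mem_conj] at hz
    have h2 := mul_mem (mul_mem hx (hBH hz)) (inv_mem hx)
    have e : x * (x⁻¹ * z * x) * x⁻¹ = z := by group
    rwa [e] at h2
  exact h1 hg

theorem J_fixJJ [Finite Y] {z : V} (hz : z ∈ brk (WW V H R) (QS V U (MulAut.conj t • H) H R)) {g : Y}
    (hg : g ∈ JJ U (MulAut.conj t • H)) : g • z = z := by
  have h1 : JJ U (MulAut.conj t • H) ≤ MulAction.stabilizer Y z := by
    rw [JJ, closure_le]
    rintro y ⟨B, hB, hBH, hy⟩
    exact J_fix a h i hz B hB hBH y hy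
  exact h1 hg

/-- **(5a), (5b)** -/
theorem five_a [Finite Y] [Finite V] : ∃ p : ι, ∀ q ∈ QSS V H (MulAut.conj t • H) R,
    ∀ g ∈ JJ U (MulAut.conj t • H), ∀ x ∈ Ψ p, q • g • x = g • x := by
  obtain ⟨p, hp1⟩ := i.mov
  refine ⟨p, fun q hq g hg x hx => ?_⟩
  have hgH := JJ_le hg
  -- commutators with `Q'_*`
  have hcm : ∀ k ∈ QS V U (MulAut.conj t • H) H R, k • g • x + g • x ∈ brk (Ψ p) (P p) := by
    intro k hk
    have h1 := conj_QS' a h i (inv_mem hgH) hk
    rw [inv_inv] at h1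
    have h2 := i.fac.mem_brk_of h.two (QS_le' a h i h1) hx
    rw [smul_conj, ← smul_add, J_fixJJ a h i (Ip_le a h i p h2) hg]
    exact h2
  have hz : ∀ z ∈ brk (Ψ p) (P p), z ∈ fx V A → z = 0 := fun z hz h3 =>
    J_inf a h i (Ip_le a h i p hz) (hp1 z hz h3)
  -- (5a)
  have h1 := i.CK (g • x) (by
    intro k hk hkQ hkQ'
    have hkS : k ∈ QS V U (MulAut.conj t • H) H R :=
      ⟨hkQ', fun _ hw => a.QQ_fix' h hkQ' hw, fun _ hw => a.QQ_fix h hkQ hw.1⟩
    exact (HE.add_eq_zero' h.two).1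
      (hz _ (hcm k hkS) (i.le₂ g hgH x (i.fac.Ψle p hx) k hk)))
  obtain ⟨e, he, f, hf, hef⟩ := AddSubgroup.mem_sup.1 h1
  obtain ⟨w, hw, w', hw', rfl⟩ := AddSubgroup.mem_sup.1 he
  -- (5b)
  have h2 : ∀ q' ∈ QSS V H (MulAut.conj t • H) R, q' • g • x + g • x = q' • f + f := by
    intro q' hq'
    rw [← hef, smul_add, smul_add, QSS_fix a h i hq' hw, QSS_fix' a h i hq' hw']
    have e1 : w + w' + q' • f + (w + w' + f) = ((w + w) + (w' + w')) + (q' • f + f) := by abel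
    rw [e1, h.two, h.two, add_zero, zero_add]
  have h3 : ∀ u ∈ A, u • (q • g • x + g • x) = (u * q * u⁻¹) • g • x + g • x := by
    intro u hu
    rw [h2 q hq, h2 _ (conj_QSS (i.AH hu) hq), smul_add, mul_smul, mul_smul]
    have h6 : u⁻¹ • f = f := by rw [inv_smul_eq_iff, hf u hu]
    rw [h6, hf u hu]
  have h4 : ∀ q' ∈ QSS V H (MulAut.conj t • H) R, q' • g • x + g • x ∈ brk (Ψ p) (P p) :=
    fun q' hq' => hcm q' (QSS_QS a h i hq')
  have h5 : brk (Ψ p) (P p) ≤ Ee V A := brk_le fun y hy r hr =>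
    i.WE (add_mem (smul_mem_WW (a.RH (i.fac.le p hr)) (i.fac.Ψle p hy)) (i.fac.Ψle p hy))
  have h6 : q • g • x + g • x ∈ fx V A := by
    intro u hu
    apply (HE.add_eq_zero' h.two).1
    apply hz
    · rw [h3 u hu]
      exact add_mem (h4 _ (conj_QSS (i.AH hu) hq)) (h4 q hq)
    · exact h5 (h4 q hq) u hu
  exact (HE.add_eq_zero' h.two).1 (hz _ (h4 q hq) h6)

/-- **(5)** -/
theorem five [Finite Y] [Finite V] {q : Y} (hq : q ∈ QSS V H (MulAut.conj t • H) R) :
    ∀ g ∈ MulAut.conj t • H, ∀ w ∈ WW V H R, q • g • w = g • w := by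
  obtain ⟨p, hp⟩ := five_a a h i
  have h1 : ∀ q ∈ QSS V H (MulAut.conj t • H) R, ∀ g ∈ JJ U (MulAut.conj t • H), ∀ w ∈ WW V H R,
      q • g • w = g • w := by
    intro q hq g hg w hw
    let D : AddSubgroup V :=
      { carrier := {w | q • g • w = g • w}
        zero_mem' := by
          change q • g • (0 : V) = g • (0 : V)
          rw [smul_zero, smul_zero]
        add_mem' := fun {v w} hv hw => by
          change q • g • (v + w) = g • (v + w)
          have hv' : q • g • v = g • v := hv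
          have hw' : q • g • w = g • w := hw
          rw [smul_add, smul_add, hv', hw']
        neg_mem' := fun {v} hv => by
          change q • g • (-v) = g • (-v)
          have hv' : q • g • v = g • v := hv
          rw [smul_neg, smul_neg, hv'] }
    have h2 : WJ V U H R ⊔ ⨆ p, Ψ p ≤ D := by
      refine sup_le (fun x hx => ?_) (iSup_le fun p' x hx => ?_)
      · change q • g • x = g • x
        have h3 := conj_QS' a h i (inv_mem (JJ_le hg)) (QSS_QS a h i hq)
        rw [inv_inv] at h3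
        rw [smul_conj, h3.2.2 x hx]
      · change q • g • x = g • x
        obtain ⟨r, hr, _, hΨ⟩ := i.fac.trans p p'
        rw [hΨ, mem_smul_as] at hx
        have h3 := conj_QSS (inv_mem (a.RH hr)) hq
        have h4 := conj_JJ h.cls (inv_mem (a.RH' hr)) hg
        have h5 := hp _ h3 _ h4 _ hx
        rw [← mul_smul, ← mul_smul, ← mul_smul] at h5
        have e1 : r⁻¹ * q * r⁻¹⁻¹ * (r⁻¹ * g * r⁻¹⁻¹) * r⁻¹ = r⁻¹ * (q * g) := by group
        have e2 : r⁻¹ * g * r⁻¹⁻¹ * r⁻¹ = r⁻¹ * g := by group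
        rw [e1, e2, mul_smul, mul_smul, mul_smul] at h5
        exact smul_left_cancel r⁻¹ h5
    exact h2 (i.fac.sup hw)
  -- `H' = J R`
  intro g hg w hw
  have h2 : MulAut.conj t • H ≤ JJ U (MulAut.conj t • H) ⊔ R := by
    conv_lhs => rw [← a.gen i.AH i.AM, smul_sup]
    refine sup_le (fun x hx => mem_sup_right ?_) (fun x hx => mem_sup_left ?_)
    · rw [mem_conj] at hx
      have := a.t_norm _ hx
      have e : t * (t⁻¹ * x * t) * t⁻¹ = x := by group
      rwa [e] at this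
    · exact subset_closure ⟨_, h.cls.conj A i.mA t, conj_le_conj t i.AH, hx⟩
  let S : Subgroup Y :=
    { carrier := {g | ∃ y ∈ JJ U (MulAut.conj t • H), ∃ r ∈ R, g = y * r}
      one_mem' := ⟨1, one_mem _, 1, one_mem _, (mul_one 1).symm⟩
      mul_mem' := by
        rintro _ _ ⟨y, hy, r, hr, rfl⟩ ⟨y', hy', r', hr', rfl⟩
        refine ⟨y * (r * y' * r⁻¹), mul_mem hy (conj_JJ h.cls (a.RH' hr) hy'), r * r', mul_mem hr hr', ?_⟩
        group
      inv_mem' := by
        rintro _ ⟨y, hy, r, hr, rfl⟩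
        refine ⟨r⁻¹ * y⁻¹ * r⁻¹⁻¹, conj_JJ h.cls (inv_mem (a.RH' hr)) (inv_mem hy), r⁻¹, inv_mem hr, ?_⟩
        group }
  have h3 : JJ U (MulAut.conj t • H) ⊔ R ≤ S :=
    sup_le (fun y hy => ⟨y, hy, 1, one_mem _, (mul_one y).symm⟩) (fun r hr => ⟨1, one_mem _, r, hr, (one_mul r).symm⟩)
  obtain ⟨y, hy, r, hr, rfl⟩ := h3 (h2 hg)
  rw [mul_smul]
  exact h1 q hq y hy _ (smul_mem_WW (a.RH hr) hw)

theorem ti_QSS [Finite Y] [Finite V] {q : Y} (hq : q ∈ QSS V H (MulAut.conj t • H) R) :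
    t⁻¹ * q * t ∈ QSS V H (MulAut.conj t • H) R := by
  refine ⟨a.t_QQ' (QSS_QS a h i hq).1, fun g hg w hw => ?_⟩
  have h1 := five a h i hq _ (Amal.t_mem hg) _ (a.smul_W' hw)
  have e : (t * g * t⁻¹) • t • w = t • g • w := by
    rw [← mul_smul, ← mul_smul]; congr 1; group
  rw [e] at h1
  rw [mul_smul, mul_smul, h1, inv_smul_smul]

end LOne

/-- **(L1)** (bb OMEGA 21480): `LIn` is impossible. -/
theorem Amal.lOne [Finite Y] [Finite V] {U : Set (Subgroup Y)} {T : Sylow 2 Y} {M H R : Subgroup Y} {t : Y}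
    {ι : Type} {P : ι → Subgroup Y} {Ψ : ι → AddSubgroup V} {ι' : Type} {P' : ι' → Subgroup Y}
    {Ψ' : ι' → AddSubgroup V} {A : Subgroup Y} (a : Amal U T M H R t) (h : Amb V U T M)
    (i : LIn V U M H R t P Ψ P' Ψ' A) : False := by
  obtain ⟨s, hs, hs1⟩ := LOne.exists_S a h i
  have h1 : QSS V H (MulAut.conj t • H) R = ⊥ := by
    have hle : QSS V H (MulAut.conj t • H) R ≤ QQ H R := fun q hq => hq.1
    apply a.no_inv h.core ((Amal.QQ2 a h).to_le hle)
    · exact fun x hx y hy => conj_QSS hx hy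
    · intro q hq
      have h2 := conj_QSS (a.RH a.t_sq) (LOne.ti_QSS a h i hq)
      have e : t * t * (t⁻¹ * q * t) * (t * t)⁻¹ = t * q * t⁻¹ := by group
      rwa [e] at h2
    · exact fun q hq => LOne.ti_QSS a h i hq
  rw [h1, mem_bot] at hs
  exact hs1 hs

end Cfsg.Agent.Omega.NO1.TH

end
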