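import Cfsg.Agent.Mrg.Omega.NO1.TH.Fin
import Cfsg.Agent.Mrg.Omega.NO1.TH.Fact
import Cfsg.Agent.Mrg.Omega.NO1.AB.Beta

section


/-!
# N1, one component: the induction (bb OMEGA 20935, 21423)

`Out` is an arbitrary conclusion for a world; the sockets:
* `SockE` : no bad subgroup;
* `SockA` : an amalgam with `W ≰ E_B` for a member `B ≤ R` : a world for `H` and descent of `Out`;
* `SockOne`, `SockNat`, `SockSym` : `W ≤ E_B` for all members `B ≤ R`; `W / D` natural with `k = 1`, natural with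
  `k ≥ 2`, a sum of even-subset modules of `S_{2^m+1}`.
`out_of_socks` : `Out` for all worlds.
-/

set_option autoImplicit false
set_option linter.unusedSectionVars false

namespace Cfsg.Agent.Omega.NO1.TH

open Subgroup Cfsg.Agent.Omega.NO1.AB Cfsg.Agent.Omega.FFBr
open scoped Pointwise

universe u

/-- the type of conclusions -/
abbrev OutT : Type (u + 1) :=
  ∀ (Y V : Type u) [Group Y] [AddCommGroup V] [DistribMulAction Y V], Set (Subgroup Y) → Sylow 2 Y → Subgroup Y →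
    Prop

variable (Out : OutT.{u})

/-- no bad subgroup -/
def SockE : Prop :=
  ∀ (Y V : Type u) [Group Y] [Finite Y] [AddCommGroup V] [Finite V] [DistribMulAction Y V] (U : Set (Subgroup Y))
    (T : Sylow 2 Y) (M : Subgroup Y) (a : ℕ), World V U T M a → (∃ B, B ∈ U) →
      (∀ X : Subgroup Y, ¬ TH.Bad U M X) → Out Y V U T M

/-- `W ≰ E_B` -/
def SockA : Prop :=
  ∀ (Y V : Type u) [Group Y] [Finite Y] [AddCommGroup V] [Finite V] [DistribMulAction Y V] (U : Set (Subgroup Y))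
    (T : Sylow 2 Y) (M : Subgroup Y) (a : ℕ), World V U T M a → ∀ (H R : Subgroup Y) (t : Y), Amal U T M H R t →
      ∀ B ∈ U, B ≤ R → ¬ WW V H R ≤ Ee V B →
        ∃ (UH : Set (Subgroup H)) (P : Sylow 2 H), World V UH P (M.subgroupOf H) a ∧ (∃ B, B ∈ UH) ∧
          (Out H V UH P (M.subgroupOf H) → Out Y V U T M)

/-- natural, `k = 1` -/
def SockOne : Prop :=
  ∀ (Y V : Type u) [Group Y] [Finite Y] [AddCommGroup V] [Finite V] [DistribMulAction Y V] (U : Set (Subgroup Y))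
    (T : Sylow 2 Y) (M : Subgroup Y) (a : ℕ), World V U T M a → ∀ (H R : Subgroup Y) (t : Y), Amal U T M H R t →
      WE V U H R → ∀ (P : Sylow 2 (XH V H R)) (M₁ : Subgroup (XH V H R)), Abs (XH V H R) (Wm V H R) P M₁ →
        (∀ x : XH V H R, x ∈ P ↔ ∃ r : H, (r : Y) ∈ R ∧ pr V H R r = x) → ANoOver (XH V H R) (Wm V H R) →
          ∀ (F : Type) [Field F] [Finite F] [CharP F 2], AbsNat F (P : Subgroup (XH V H R)) (Wm V H R) 1 →
            Out Y V U T M

/-- natural, `k ≥ 2` -/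
def SockNat : Prop :=
  ∀ (Y V : Type u) [Group Y] [Finite Y] [AddCommGroup V] [Finite V] [DistribMulAction Y V] (U : Set (Subgroup Y))
    (T : Sylow 2 Y) (M : Subgroup Y) (a : ℕ), World V U T M a → ∀ (H R : Subgroup Y) (t : Y), Amal U T M H R t →
      WE V U H R → ∀ (P : Sylow 2 (XH V H R)) (M₁ : Subgroup (XH V H R)), Abs (XH V H R) (Wm V H R) P M₁ →
        (∀ x : XH V H R, x ∈ P ↔ ∃ r : H, (r : Y) ∈ R ∧ pr V H R r = x) → ANoOver (XH V H R) (Wm V H R) →
          ∀ (F : Type) [Field F] [Finite F] [CharP F 2] (k : ℕ), 2 ≤ k →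
            AbsNat F (P : Subgroup (XH V H R)) (Wm V H R) k → Out Y V U T M

/-- symmetric groups -/
def SockSym : Prop :=
  ∀ (Y V : Type u) [Group Y] [Finite Y] [AddCommGroup V] [Finite V] [DistribMulAction Y V] (U : Set (Subgroup Y))
    (T : Sylow 2 Y) (M : Subgroup Y) (a : ℕ), World V U T M a → ∀ (H R : Subgroup Y) (t : Y), Amal U T M H R t →
      WE V U H R → ∀ (P : Sylow 2 (XH V H R)) (M₁ : Subgroup (XH V H R)), Abs (XH V H R) (Wm V H R) P M₁ →
        (∀ x : XH V H R, x ∈ P ↔ ∃ r : H, (r : Y) ∈ R ∧ pr V H R r = x) → ANoOver (XH V H R) (Wm V H R) →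
          ∀ (k m : ℕ), 0 < k → 2 ≤ m → AbsSym (P : Subgroup (XH V H R)) (Wm V H R) k m → Out Y V U T M

variable {Out}

/-- **The induction.** -/
theorem out_of_socks (hE : SockE Out) (hA : SockA Out) (h1 : SockOne Out) (hN : SockNat Out) (hS : SockSym Out) :
    ∀ (n : ℕ) (Y V : Type u) [Group Y] [Finite Y] [AddCommGroup V] [Finite V] [DistribMulAction Y V]
      (U : Set (Subgroup Y)) (T : Sylow 2 Y) (M : Subgroup Y) (a : ℕ), Nat.card Y = n → World V U T M a →
        (∃ B, B ∈ U) → Out Y V U T M := by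
  intro n
  induction n using Nat.strong_induction_on with
  | _ n ih =>
    intro Y V _ _ _ _ _ U T M a hn w hU
    by_cases hb : ∃ X : Subgroup Y, TH.Bad U M X
    swap
    · exact hE Y V U T M a w hU fun X hX => hb ⟨X, hX⟩
    obtain ⟨H, R, t, am⟩ := w.toAmb.exists_amal hb
    by_cases hW : WE V U H R
    swap
    · unfold WE at hW
      push Not at hW
      obtain ⟨B, hB, hBR, hBW⟩ := hW
      obtain ⟨UH, P, wH, hUH, hout⟩ := hA Y V U T M a w H R t am B hB hBR hBW
      apply hout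
      refine ih (Nat.card H) ?_ H V UH P (M.subgroupOf H) a rfl wH hUH
      rw [← hn, ← Subgroup.card_top (G := Y)]
      exact Amb.card_lt' (lt_top_iff_ne_top.2 am.bad.ne)
    obtain ⟨P, M₁, hAbs, hP, hno, hC⟩ := am.ff' w.toAmb hW
    rcases hC with ⟨F, _, _, _, k, hk, ⟨N⟩⟩ | ⟨k, m, hk, hm, ⟨N⟩⟩
    · rcases Nat.lt_or_ge 1 k with h2 | h2
      · exact hN Y V U T M a w H R t am hW P M₁ hAbs hP hno F k h2 N
      · have : k = 1 := by omega
        subst this
        exact h1 Y V U T M a w H R t am hW P M₁ hAbs hP hno F N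
    · exact hS Y V U T M a w H R t am hW P M₁ hAbs hP hno k m hk hm N

end Cfsg.Agent.Omega.NO1.TH

end

section


/-!
# N1, the regime `HH = ∅` of CARD N1-ONE (bb OMEGA 20790, helper620): (0), (1) and (H1)

`HH = ∅` : no `Bad U M X`, i.e. every proper subgroup of `Y` which contains a member lies in a point.
(0) a 2-group with a member lies in one point; (1) `B` a member in the point `M'`, `X ≰ M'` ⟹ `⟨X, B⟩ = Y`,
`C_V(X) ∩ F_B = 0`; **(H1)** `|V : C_V(t)| ≥ |F|` for every 2-element `t ≠ 1`.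
-/

set_option autoImplicit false
set_option linter.unusedSectionVars false

namespace Cfsg.Agent.Omega.NO1.TH

open Subgroup Cfsg.Agent.Omega.NO1.AB
open scoped Pointwise

universe u

variable {Y : Type u} [Group Y] {V : Type u} [AddCommGroup V] [DistribMulAction Y V]

namespace Amb

variable {U : Set (Subgroup Y)} {T : Sylow 2 Y} {M : Subgroup Y} (h : Amb V U T M)
include h

/-- `C_V(Y) = 0` -/
theorem fx_top (hU : ∃ B, B ∈ U) : fx V (⊤ : Subgroup Y) = ⊥ := by
  obtain ⟨B, hB⟩ := hU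
  exact h.fx_top_of hB

/-- a member in `T` -/
theorem exists_member_le [Finite Y] (hU : ∃ B, B ∈ U) : ∃ B ∈ U, B ≤ (T : Subgroup Y) := by
  obtain ⟨B, hB⟩ := hU
  obtain ⟨k, _, hk⟩ := sylow_conj T (K := ⊤) le_top (h.cls.mem B hB).isPGroup le_top
  refine ⟨MulAut.conj k⁻¹ • B, h.cls.conj B hB _, fun r hr => ?_⟩
  rw [mem_conj] at hr
  have := hk _ hr
  have e : k⁻¹ * (k⁻¹⁻¹ * r * k⁻¹) * k = r := by group
  rwa [e] at this

/-- every member lies in a Sylow 2-subgroup, so in a point -/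
theorem exists_point [Finite Y] {R : Subgroup Y} (hR : IsPGroup 2 R) :
    ∃ k : Y, R ≤ MulAut.conj k • (T : Subgroup Y) := by
  obtain ⟨k, _, hk⟩ := sylow_conj T (K := ⊤) le_top hR le_top
  refine ⟨k, fun r hr => ?_⟩
  rw [mem_conj]
  exact hk _ hr

/-- **(H1), first half**: a 2-element `t ≠ 1` lies outside some point. -/
theorem exists_not_mem [Finite Y] {t : Y} (ht : IsPGroup 2 (zpowers t)) (h1 : t ≠ 1) :
    ∃ y : Y, t ∉ MulAut.conj y • M := by
  have : Fact (Nat.Prime 2) := ⟨Nat.prime_two⟩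
  by_contra hc
  push Not at hc
  set N := M.normalCore with hN
  have hNn : N.Normal := M.normalCore_normal
  have h2 := frattini_inf T N
  have h3 : normalizer (((T : Subgroup Y) ⊓ N : Subgroup Y) : Set Y) = ⊤ := by
    by_contra h4
    have hle : (T : Subgroup Y) ≤ normalizer (((T : Subgroup Y) ⊓ N : Subgroup Y) : Set Y) := by
      intro r hr
      rw [mem_normalizer_iff]
      intro y
      constructor
      · rintro ⟨hy1, hy2⟩
        exact ⟨(T : Subgroup Y).mul_mem ((T : Subgroup Y).mul_mem hr hy1) ((T : Subgroup Y).inv_mem hr),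
          hNn.conj_mem y hy2 r⟩
      · rintro ⟨hy1, hy2⟩
        refine ⟨?_, ?_⟩
        · have := (T : Subgroup Y).mul_mem ((T : Subgroup Y).mul_mem ((T : Subgroup Y).inv_mem hr) hy1) hr
          have e : r⁻¹ * (r * y * r⁻¹) * r = y := by group
          rwa [e] at this
        · have := hNn.conj_mem _ hy2 r⁻¹
          have e : r⁻¹ * (r * y * r⁻¹) * r⁻¹⁻¹ = y := by group
          rwa [e] at this
    have h5 := h.max _ hle h4
    apply h.Mne
    rw [eq_top_iff, ← h2]
    exact sup_le h5 M.normalCore_le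
  have h4 : ((T : Subgroup Y) ⊓ N).Normal := normalizer_eq_top_iff.1 h3
  have h5 := h.core _ h4 (T.2.to_le inf_le_left)
  have htN : t ∈ N := by
    intro g
    have := hc g⁻¹
    rw [mem_conj] at this
    simpa using this
  obtain ⟨k, hk⟩ := h.exists_point ht
  have h6 : k⁻¹ * t * k ∈ (T : Subgroup Y) := by
    have := hk (mem_zpowers t)
    rwa [mem_conj] at this
  have h7 : k⁻¹ * t * k ∈ ((T : Subgroup Y) ⊓ N : Subgroup Y) :=
    ⟨h6, by simpa using hNn.conj_mem t htN k⁻¹⟩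
  rw [h5, mem_bot] at h7
  apply h1
  have e : t = k * (k⁻¹ * t * k) * k⁻¹ := by group
  rw [e, h7, mul_one, mul_inv_cancel]

section empty

variable (he : ∀ X : Subgroup Y, ¬ Bad U M X)
include he

/-- `HH = ∅`: a proper subgroup with a member lies in a point -/
theorem le_point {X B : Subgroup Y} (hX : X ≠ ⊤) (hB : B ∈ U) (hBX : B ≤ X) :
    ∃ y : Y, X ≤ MulAut.conj y • M := by
  by_contra hc
  push Not at hc
  exact he X ⟨hX, ⟨B, hB, hBX⟩, hc⟩

/-- **(0)** -/
theorem one_point [Finite Y] {R : Subgroup Y} (hR : IsPGroup 2 R) (hm : ∃ B ∈ U, B ≤ R) {x y : Y}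
    (hx : R ≤ MulAut.conj x • M) (hy : R ≤ MulAut.conj y • M) : MulAut.conj x • M = MulAut.conj y • M :=
  h.one_of_max (n := 0) (fun X hX => absurd hX (he X)) _ R rfl hR hm (Nat.zero_le _) x y hx hy

/-- **(0)** for a member -/
theorem member_point [Finite Y] {B : Subgroup Y} (hB : B ∈ U) {x y : Y}
    (hx : B ≤ MulAut.conj x • M) (hy : B ≤ MulAut.conj y • M) : MulAut.conj x • M = MulAut.conj y • M :=
  h.one_point he (h.cls.mem B hB).isPGroup ⟨B, hB, le_rfl⟩ hx hy

/-- a proper subgroup with a member lies in the point of the member -/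
theorem le_of_member [Finite Y] {X B : Subgroup Y} {y : Y} (hX : X ≠ ⊤) (hB : B ∈ U) (hBX : B ≤ X)
    (hy : B ≤ MulAut.conj y • M) : X ≤ MulAut.conj y • M := by
  obtain ⟨z, hz⟩ := h.le_point he hX hB hBX
  rw [h.member_point he hB hy (hBX.trans hz)]
  exact hz

/-- **(1)** -/
theorem gen_top [Finite Y] {X B : Subgroup Y} {y : Y} (hB : B ∈ U) (hy : B ≤ MulAut.conj y • M)
    (hX : ¬ X ≤ MulAut.conj y • M) : X ⊔ B = ⊤ := by
  by_contra hne
  exact hX (le_sup_left.trans (h.le_of_member he hne hB le_sup_right hy))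

/-- **(1)**: `C_V(X) ∩ F_B = 0` -/
theorem fx_inf_bot [Finite Y] {X B : Subgroup Y} {y : Y} (hB : B ∈ U) (hy : B ≤ MulAut.conj y • M)
    (hX : ¬ X ≤ MulAut.conj y • M) : fx V X ⊓ fx V B = ⊥ := by
  rw [eq_bot_iff, ← h.fx_top ⟨B, hB⟩]
  rintro v ⟨h1, h2⟩
  have h3 : X ⊔ B ≤ MulAction.stabilizer Y v := sup_le (fun x hx => h1 x hx) fun b hb => h2 b hb
  rw [h.gen_top he hB hy hX] at h3
  exact fun y _ => h3 (mem_top y)

/-- **(1)**: `0 ≠ x ∈ F_B` ⟹ `C_Y(x) ≤ M_B` -/
theorem stab_le_point [Finite Y] {B : Subgroup Y} {y : Y} (hB : B ∈ U) (hy : B ≤ MulAut.conj y • M) {x : V}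
    (hx : x ∈ fx V B) (hx0 : x ≠ 0) : MulAction.stabilizer Y x ≤ MulAut.conj y • M := by
  by_contra hX
  have h1 := h.fx_inf_bot he hB hy hX
  apply hx0
  rw [← AddSubgroup.mem_bot, ← h1]
  exact ⟨fun k hk => hk, hx⟩

/-- `F_B ∩ F_C = 0` for members in different points -/
theorem fx_inf_fx [Finite Y] {B C : Subgroup Y} {x y : Y} (hB : B ∈ U) (hC : C ∈ U)
    (hx : B ≤ MulAut.conj x • M) (hy : C ≤ MulAut.conj y • M) (hne : MulAut.conj x • M ≠ MulAut.conj y • M) :
    fx V C ⊓ fx V B = ⊥ :=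
  h.fx_inf_bot he hB hx fun h1 => hne (h.member_point he hC h1 hy)

/-- **(H1)**: `|V : C_V(t)| ≥ |F_B|` for every 2-element `t ≠ 1` -/
theorem hOne [Finite Y] [Finite V] {t : Y} (ht : IsPGroup 2 (zpowers t)) (h1 : t ≠ 1) {B : Subgroup Y}
    (hB : B ∈ U) : Nat.card (fx V B) ≤ (fx V (zpowers t)).index := by
  obtain ⟨y, hy⟩ := h.exists_not_mem ht h1
  obtain ⟨C, hC, hCT⟩ := h.exists_member_le ⟨B, hB⟩
  have hC' := h.cls.conj C hC y
  have hle : MulAut.conj y • C ≤ MulAut.conj y • M := conj_le_conj y (hCT.trans h.TM)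
  have h2 := h.fx_inf_bot he hC' hle (X := zpowers t) fun h3 => hy (h3 (mem_zpowers t))
  rw [h.cls.card_fx hB hC']
  -- `F → V / C_V(t)` is injective
  rw [AddSubgroup.index]
  apply Nat.card_le_card_of_injective
    (fun x : fx V (MulAut.conj y • C) => (QuotientAddGroup.mk (x : V) : V ⧸ fx V (zpowers t)))
  rintro ⟨a, ha⟩ ⟨b, hb⟩ hab
  rw [QuotientAddGroup.eq] at hab
  have h4 : -a + b ∈ fx V (zpowers t) ⊓ fx V (MulAut.conj y • C) :=
    ⟨hab, (fx V _).add_mem ((fx V _).neg_mem ha) hb⟩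
  rw [h2, AddSubgroup.mem_bot, neg_add_eq_zero] at h4
  exact Subtype.ext h4

end empty

end Amb

end Cfsg.Agent.Omega.NO1.TH

end
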