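import Cfsg.Agent.Mrg.Omega.NO1.TH.KOneA
import Cfsg.Agent.Mrg.Omega.NO1.AB.Beta
import Cfsg.Agent.Mrg.Omega.NO1.TH.Fact
import Cfsg.Agent.Mrg.Omega.NO1.TH.Fin

section


/-!
# N1, the amalgam `(H, H^t)`, `k = 1`: THE END, (3) (bb OMEGA 20698, 21741)

`TwoE.endS` : `EndS` from `TwoE`.
-/

set_option autoImplicit false
set_option linter.unusedSectionVars false
set_option linter.unusedVariables false

namespace Cfsg.Agent.Omega.NO1.TH

open Subgroup Cfsg.Agent.Omega.NO1.AB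
open scoped Pointwise

universe u

variable {Y : Type u} [Group Y] {V : Type u} [AddCommGroup V] [DistribMulAction Y V]

/-- `TwoE` with the two modules `N`, `N'` and a member `B ≤ R`, `B ≰ Q` -/
structure TwoEN (V : Type u) [AddCommGroup V] [DistribMulAction Y V] (U : Set (Subgroup Y)) (T : Sylow 2 Y)
    (M H H' R P P' : Subgroup Y) (D D' W₁ W₁' : AddSubgroup V) (c : ℕ) (t : Y) (N N' : AddSubgroup V)
    (B : Subgroup Y) : Prop
    extends TwoE V U T M H H' R P P' D D' W₁ W₁' c t where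
  n : HasN V U H R P D W₁ c N
  n' : HasN V U H' R P' D' W₁' c N'
  hB : B ∈ U
  hBR : B ≤ R
  hBQ : ¬ B ≤ QQ H R
  hBQ' : ¬ B ≤ QQ H' R

theorem TwoEN.swap {U : Set (Subgroup Y)} {T : Sylow 2 Y} {M H H' R P P' : Subgroup Y} {D D' W₁ W₁' : AddSubgroup V}
    {c : ℕ} {t : Y} {N N' : AddSubgroup V} {B : Subgroup Y} (h : TwoEN V U T M H H' R P P' D D' W₁ W₁' c t N N' B) :
    TwoEN V U T M H' H R P' P D' D W₁' W₁ c t N' N B :=
  { h.toTwoE.swap with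
    n := h.n'
    n' := h.n
    hB := h.hB
    hBR := h.hBR
    hBQ := h.hBQ'
    hBQ' := h.hBQ }

theorem TwoE.twoN [Finite Y] [Finite V] {U : Set (Subgroup Y)} {T : Sylow 2 Y} {M H H' R P P' : Subgroup Y}
    {D D' W₁ W₁' : AddSubgroup V} {c : ℕ} {t : Y} (h : TwoE V U T M H H' R P P' D D' W₁ W₁' c t) :
    ∃ (N N' : AddSubgroup V) (B : Subgroup Y), TwoEN V U T M H H' R P P' D D' W₁ W₁' c t N N' B := by
  obtain ⟨N, hN⟩ := h.exists_N
  obtain ⟨N', hN'⟩ := h.swap.exists_N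
  obtain ⟨B, hB, hBR, hBQ⟩ := Amal.exists_not_QQ h.a h.amb
  exact ⟨N, N', B, { h with n := hN, n' := hN', hB := hB, hBR := hBR, hBQ := hBQ, hBQ' := h.not_Q' hB hBR hBQ }⟩

namespace TwoEN

variable [Finite Y] [Finite V] {U : Set (Subgroup Y)} {T : Sylow 2 Y} {M H H' R P P' : Subgroup Y}
  {D D' W₁ W₁' : AddSubgroup V} {c : ℕ} {t : Y} {N N' : AddSubgroup V} {B : Subgroup Y}
  (h : TwoEN V U T M H H' R P P' D D' W₁ W₁' c t N N' B)
include h

theorem BH : B ≤ H := h.hBR.trans h.a.RH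

theorem B_P : B ≤ P := (h.k.cover B h.hB h.hBR h.hBQ).1

theorem smul_N {x : Y} (hx : x ∈ H) : x • N = N := smul_of_mem fun w hw => h.n.inv x hx w hw

/-- `[v, b] ∈ N` for `b ∈ B ∩ Q` -/
theorem comm_N {b : Y} (hb : b ∈ B) (hbQ : b ∈ QQ H R) (v : V) : b • v + v ∈ N := by
  by_cases hb1 : b = 1
  · rw [hb1, one_smul, h.two]; exact zero_mem _
  · rw [← h.n.range B h.hB h.BH h.hBQ b hb hbQ hb1]
    exact ⟨v, rfl⟩

/-- `N' = t N` -/
theorem N'_eq : N' = t • N := by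
  obtain ⟨A, hA, hAH, hAM⟩ := h.exists_A
  have hAQ := h.not_Q hAM
  obtain ⟨b, hb, hbQ, hb1⟩ := h.exists_b hA hAH hAQ
  rw [← h.n.range A hA hAH hAQ b hb hbQ hb1, ← h.range_conj]
  symm
  apply h.n'.range (MulAut.conj t • A) (h.amb.cls.conj A hA t)
  · rw [h.H'_eq]; exact conj_le_conj t hAH
  · rw [h.Q'_eq, conj_le_conj_iff]; exact hAQ
  · exact conj_mem_conj hb
  · exact h.t_Q hbQ
  · intro h5
    apply hb1
    have h6 : t⁻¹ * (t * b * t⁻¹) * t = 1 := by rw [h5]; group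
    have e : t⁻¹ * (t * b * t⁻¹) * t = b := by group
    rwa [e] at h6

theorem N_ne : N ≠ N' := by
  intro h1
  have h2 : N = ⊥ := by
    apply h.a.no_sub' h.amb h.n.inv
    · intro w hw
      have h3 : t • w ∈ t • N := smul_mem_smul_as hw
      rwa [← h.N'_eq, ← h1] at h3
    · exact h.hB
    · exact h.n.le.trans (h.a.WW_le_Ee h.amb h.we h.hB h.BH)
  have h3 := h.n.card
  rw [h2] at h3
  have h4 : Nat.card ↥(⊥ : AddSubgroup V) = 1 := AddSubgroup.card_bot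
  rw [h4] at h3
  have := h.four
  nlinarith

theorem QQB : B ⊓ QQ H R ⊓ (B ⊓ QQ H' R) = ⊥ := by
  by_contra hi
  obtain ⟨⟨b, hb⟩, hb1'⟩ := ne_bot_iff_exists_ne_one.1 hi
  have hb1 : b ≠ 1 := fun h2 => hb1' (Subtype.ext h2)
  apply h.N_ne
  rw [← h.n.range B h.hB h.BH h.hBQ b hb.1.1 hb.1.2 hb1,
    ← h.n'.range B h.hB h.swap.BH h.hBQ' b hb.2.1 hb.2.2 hb1]

theorem mulB {u : Y} (hu : u ∈ B) : ∃ q ∈ B ⊓ QQ H R, ∃ q' ∈ B ⊓ QQ H' R, u = q * q' :=
  h.mul_of_bot h.hB h.hBR h.hBQ h.QQB hu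

/-- `[V, B] ≤ N + N'` -/
theorem comm_Sig {u : Y} (hu : u ∈ B) (v : V) : u • v + v ∈ N ⊔ N' := by
  obtain ⟨q, hq, q', hq', rfl⟩ := h.mulB hu
  have e : (q * q') • v + v = (q • q' • v + q' • v) + (q' • v + v) := by
    rw [mul_smul]
    have e1 : q • q' • v + q' • v + (q' • v + v) = q • q' • v + v + (q' • v + q' • v) := by abel
    rw [e1, h.two, add_zero]
  rw [e]
  exact AddSubgroup.add_mem_sup (h.comm_N hq.1 hq.2 _) (h.swap.comm_N hq'.1 hq'.2 v)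

/-- `N ∩ F_B = I` -/
theorem N_F : N ⊓ fx V B = cmK P (WW V H R) := by
  apply le_antisymm
  · rw [← h.n.inf₁]
    exact le_inf inf_le_left fun v hv => h.fx_W₁ h.hB h.hBR h.hBQ (h.n.le hv.1) hv.2
  · exact le_inf h.n.I_le (h.cm_le_W₁.trans (h.W₁_fx h.hB h.hBR h.hBQ))

/-- `N ∩ N' = I` -/
theorem NN' : N ⊓ N' = cmK P (WW V H R) := by
  apply le_antisymm
  · rw [← h.N_F]
    refine le_inf inf_le_left ?_
    intro v hv u hu
    obtain ⟨q, hq, q', hq', rfl⟩ := h.mulB hu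
    rw [mul_smul, Amal.QQ_fix h.a' h.amb hq'.2 (h.n'.le hv.2), Amal.QQ_fix h.a h.amb hq.2 (h.n.le hv.1)]
  · refine le_inf h.n.I_le ?_
    rw [h.cm_eq']
    exact h.n'.I_le

/-- `N ∩ C(b') ≤ I` for `b' ∈ B - Q` -/
theorem mem_I_of {n : V} (hn : n ∈ N) {b : Y} (hb : b ∈ B) (hbQ : b ∉ QQ H R) (h1 : b • n = n) :
    n ∈ cmK P (WW V H R) := by
  rw [← h.n.inf₁]
  refine ⟨hn, ?_⟩
  by_contra h2
  apply hbQ
  apply h.k.free b (h.B_P hb) n (h.n.le hn) h2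
  rw [h1, h.two]
  exact zero_mem _

/-- `(N + N') ∩ F_B = I` -/
theorem Sig_F : (N ⊔ N') ⊓ fx V B = cmK P (WW V H R) := by
  apply le_antisymm
  · rintro v ⟨hv, hvF⟩
    obtain ⟨x, hx, y, hy, rfl⟩ := AddSubgroup.mem_sup.1 hv
    apply add_mem
    · obtain ⟨b, hb, hbQ, hb1⟩ := h.swap.exists_b h.hB h.swap.BH h.hBQ'
      have hbQ2 : b ∉ QQ H R := by
        intro h2
        have h3 : b ∈ B ⊓ QQ H R ⊓ (B ⊓ QQ H' R) := ⟨⟨hb, h2⟩, ⟨hb, hbQ⟩⟩
        rw [h.QQB, mem_bot] at h3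
        exact hb1 h3
      apply h.mem_I_of hx hb hbQ2
      have h2 := hvF b hb
      rw [smul_add, Amal.QQ_fix h.a' h.amb hbQ (h.n'.le hy)] at h2
      exact add_right_cancel h2
    · rw [h.cm_eq']
      obtain ⟨b, hb, hbQ, hb1⟩ := h.exists_b h.hB h.BH h.hBQ
      have hbQ2 : b ∉ QQ H' R := by
        intro h2
        have h3 : b ∈ B ⊓ QQ H R ⊓ (B ⊓ QQ H' R) := ⟨⟨hb, hbQ⟩, ⟨hb, h2⟩⟩
        rw [h.QQB, mem_bot] at h3
        exact hb1 h3
      apply h.swap.mem_I_of hy hb hbQ2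
      have h2 := hvF b hb
      rw [smul_add, Amal.QQ_fix h.a h.amb hbQ (h.n.le hx)] at h2
      exact add_left_cancel h2
  · rw [← h.N_F]
    exact inf_le_inf_right _ le_sup_left

/-- `E_B = N + N' + F_B` -/
theorem E_eq : Ee V B = N ⊔ N' ⊔ fx V B := by
  have hm := h.amb.cls.mem B h.hB
  symm
  apply eq_of_le_as
  · refine sup_le (sup_le ?_ ?_) hm.FE
    · exact h.n.le.trans (h.a.WW_le_Ee h.amb h.we h.hB h.BH)
    · exact h.n'.le.trans (h.a'.WW_le_Ee h.amb h.we' h.hB h.swap.BH)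
  · have h1 := card_sup_as N N'
    rw [h.NN', h.n.card, h.n'.card, h.card_I] at h1
    have h2 := card_sup_as (N ⊔ N') (fx V B)
    rw [h.Sig_F, h.card_I] at h2
    have h3 : Nat.card ↥(N ⊔ N') = c * c * c := by
      apply Nat.eq_of_mul_eq_mul_right h.c_pos
      rw [h1]; ring
    rw [h3] at h2
    rw [hm.card_E h.two, h.card_A' h.hB h.BH h.hBQ]
    apply le_of_eq
    apply Nat.eq_of_mul_eq_mul_right h.c_pos
    rw [h2]; ring

/-- `Q ≤ P'` -/
theorem Q_le_P' : QQ H R ≤ P' := by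
  intro q hq
  apply h.k'.mem_P q (QQ_le hq)
  intro w hw
  rw [← h.swap.W₁_eq_sup] at hw
  obtain ⟨d, hd, i, hi, rfl⟩ := AddSubgroup.mem_sup.1 hw
  rw [← h.cm_eq'] at hi
  have e : q • (d + i) + (d + i) = q • d + d := by
    rw [smul_add, Amal.QQ_fix h.a h.amb hq (h.n.le (h.n.I_le hi))]
    have e : q • d + i + (d + i) = q • d + d + (i + i) := by abel
    rw [e, h.two, add_zero]
  rw [e]
  exact add_mem (h.k'.D_H q (h.a'.RH (QQ_le hq)) d hd) hd

/-- `Q ∩ Q'` centralises `N'^x` -/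
theorem fix_conj {x : Y} (hx : x ∈ H) (hxM : x ∉ M) {y : Y} (hy : y ∈ QQ H R) (hy' : y ∈ QQ H' R) {n : V}
    (hn : n ∈ N') : y • x • n = x • n := by
  -- `[x n', y] ∈ x I` for all `n' ∈ N'`, `x ∈ H`
  have key : ∀ z ∈ H, ∀ m ∈ N', y • z • m + z • m ∈ z • cmK P (WW V H R) := by
    intro z hz m hm
    have h1 : z⁻¹ * y * z ∈ QQ H R := by
      have := conj_mem_QQ (H.inv_mem hz) hy
      rwa [inv_inv] at this
    rw [mem_smul_as]
    have e : z⁻¹ • (y • z • m + z • m) = (z⁻¹ * y * z) • m + m := by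
      simp only [smul_add, ← mul_smul]
      rw [inv_mul_cancel, one_smul, mul_assoc]
    rw [e, h.cm_eq', ← h.n'.inf₁]
    refine ⟨add_mem (h.n'.inv _ (h.a'.RH (QQ_le h1)) m hm) hm, ?_⟩
    exact h.k'.P_comm _ (h.Q_le_P' h1) m (h.n'.le hm)
  obtain ⟨u, hu, huQ⟩ := SetLike.not_le_iff_exists.1 h.hBQ
  have huH := h.BH hu
  -- `[u x n, y] = [x n, y]`
  have h1 : y • (u • x • n + x • n) = u • x • n + x • n := by
    obtain ⟨a, ha, b, hb, hab⟩ := AddSubgroup.mem_sup.1 (h.comm_Sig hu (x • n))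
    rw [← hab, smul_add, Amal.QQ_fix h.a h.amb hy (h.n.le ha), Amal.QQ_fix h.a' h.amb hy' (h.n'.le hb)]
  set z := y • x • n + x • n with hz
  have h2 : z = y • (u * x) • n + (u * x) • n := by
    rw [mul_smul]
    rw [smul_add] at h1
    have h3 : y • u • x • n + u • x • n + (y • x • n + x • n) = 0 := by
      have e : y • u • x • n + u • x • n + (y • x • n + x • n) =
        (y • u • x • n + y • x • n) + (u • x • n + x • n) := by abel
      rw [e, h1, h.two]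
    exact ((HE.add_eq_zero' h.two).1 h3).symm
  have h3 := key x hx n hn
  have h4 := key (u * x) (H.mul_mem huH hx) n hn
  rw [← h2] at h4
  rw [← hz] at h3
  -- `z ∈ x I ∩ u x I`
  rw [← smul_smul_as, mem_smul_as] at h4
  have huu : u⁻¹ = u := by
    rw [inv_eq_iff_mul_eq_one]
    exact (h.amb.cls.mem B h.hB).sq u hu
  rw [huu] at h4
  have h5 : ∀ w, w ∈ x • cmK P (WW V H R) → w ∈ W₁ → w = 0 := by
    intro w hw hw1
    have h6 : x⁻¹ • w ∈ D := by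
      rw [mem_smul_as] at hw
      exact h.k.opp x hx hxM _ (h.cm_le_W₁ hw) (by rw [smul_inv_smul]; exact hw1)
    rw [mem_smul_as] at hw
    have h7 : x⁻¹ • w ∈ cmK P (WW V H R) ⊓ D := ⟨hw, h6⟩
    rw [h.I_aux.2, AddSubgroup.mem_bot, smul_eq_zero_iff_eq] at h7
    exact h7
  have hzW : z ∈ WW V H R := by
    rw [mem_smul_as] at h3
    have h6 := smul_mem_WW hx (h.n.le (h.n.I_le h3))
    rwa [smul_inv_smul] at h6
  have h6 : u • z + z = 0 := h5 _ (add_mem h4 h3) (h.k.P_comm u (h.B_P hu) z hzW)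
  have h7 : z ∈ W₁ := by
    by_contra h8
    apply huQ
    apply h.k.free u (h.B_P hu) z hzW h8
    rw [h6]
    exact zero_mem _
  exact (HE.add_eq_zero' h.two).1 (h5 z h3 h7)

/-- **`Q ∩ Q' = 1`** -/
theorem QQ' : QQ H R ⊓ QQ H' R = ⊥ := by
  obtain ⟨x, hx, hxU, hxH, hxM'⟩ := h.exists_opp h.hB h.BH h.hBQ
  have hxM : x ∉ M := by
    intro h1
    apply hxM'
    rw [conj_le_iff]
    intro y hy
    rw [mem_conj, inv_inv]
    exact M.mul_mem (M.mul_mem h1 (h.RM (h.hBR hy))) (M.inv_mem h1)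
  have hR : ∀ r ∈ R, ∀ q ∈ QQ H R ⊓ QQ H' R, r * q * r⁻¹ ∈ QQ H R ⊓ QQ H' R := fun r hr q hq =>
    ⟨conj_mem_QQ (h.a.RH hr) hq.1, conj_mem_QQ (h.a'.RH hr) hq.2⟩
  have hB : ∀ r ∈ MulAut.conj x • B, ∀ q ∈ QQ H R ⊓ QQ H' R, r * q * r⁻¹ ∈ QQ H R ⊓ QQ H' R := by
    intro r hr q hq
    have h1 : r * q * r⁻¹ ∈ QQ H R := conj_mem_QQ (hxH hr) hq.1
    refine ⟨h1, ?_⟩
    -- it centralises `N'`
    have h2 : ∀ n ∈ N', (r * q * r⁻¹) • n = n := by
      intro n hn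
      have hr2 : r⁻¹ ∈ MulAut.conj x • B := (MulAut.conj x • B).inv_mem hr
      have hr3 := hr2
      rw [mem_conj] at hr3
      -- `r⁻¹ n = n + x (..)`
      have h3 := h.comm_Sig hr3 (x⁻¹ • n)
      obtain ⟨a, ha, b, hb, hab⟩ := AddSubgroup.mem_sup.1 h3
      have h4 : r⁻¹ • n = n + (x • a + x • b) := by
        rw [← smul_add, hab, smul_add]
        simp only [← mul_smul]
        rw [mul_inv_cancel, one_smul]
        have e : x * (x⁻¹ * r⁻¹ * x * x⁻¹) = r⁻¹ := by group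
        rw [e, add_comm (r⁻¹ • n), ← add_assoc, h.two, zero_add]
      have h5 : q • (n + (x • a + x • b)) = n + (x • a + x • b) := by
        rw [smul_add, smul_add, Amal.QQ_fix h.a' h.amb hq.2 (h.n'.le hn), h.fix_conj hx hxM hq.1 hq.2 hb,
          Amal.QQ_fix h.a h.amb hq.1 (h.n.le (h.n.inv x hx a ha))]
      rw [mul_smul, mul_smul, h4, h5, ← h4, smul_inv_smul]
    obtain ⟨n, hn, hn1⟩ : ∃ n ∈ N', n ∉ W₁' := by
      by_contra hcon
      push Not at hcon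
      have h3 : N' ≤ cmK P' (WW V H' R) := by
        rw [← h.n'.inf₁]
        exact le_inf le_rfl hcon
      have h4 := Nat.card_le_card_of_injective _ (AddSubgroup.inclusion_injective h3)
      rw [h.n'.card, h.swap.card_I] at h4
      have := h.four
      nlinarith
    apply h.k'.free _ (h.Q_le_P' h1) n (h.n'.le hn) hn1
    rw [h2 n hn, h.two]
    exact zero_mem _
  have hH : ∀ r ∈ H, ∀ q ∈ QQ H R ⊓ QQ H' R, r * q * r⁻¹ ∈ QQ H R ⊓ QQ H' R := by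
    have hle : H ≤ normalizer ((QQ H R ⊓ QQ H' R : Subgroup Y) : Set Y) := by
      refine h.gen_induct hxH hxM' ?_ ?_
      · intro r hr
        rw [mem_normalizer_iff]
        intro q
        refine ⟨fun hq => hR r hr q hq, fun hq => ?_⟩
        have h2 := hR r⁻¹ (R.inv_mem hr) _ hq
        have e : r⁻¹ * (r * q * r⁻¹) * r⁻¹⁻¹ = q := by group
        rwa [e] at h2
      · intro r hr
        rw [mem_normalizer_iff]
        intro q
        refine ⟨fun hq => hB r hr q hq, fun hq => ?_⟩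
        have h2 := hB r⁻¹ ((MulAut.conj x • B).inv_mem hr) _ hq
        have e : r⁻¹ * (r * q * r⁻¹) * r⁻¹⁻¹ = q := by group
        rwa [e] at h2
    intro r hr q hq
    exact (mem_normalizer_iff.1 (hle hr) q).1 hq
  apply h.a.no_inv h.amb.core (h.a.R2.to_le (inf_le_left.trans QQ_le)) hH
  · intro y hy
    refine ⟨?_, h.t_Q hy.1⟩
    have h1 := h.swap.t_Q hy.2
    exact h1
  · intro y hy
    refine ⟨h.t_Q_inv hy.2, ?_⟩
    exact h.swap.t_Q_inv hy.1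

/-- `Q ≤ B` -/
theorem Q_le_B : QQ H R ≤ B := by
  have h1 : Nat.card ↥(QQ H R) ≤ c := by
    -- `Q × Q' → P'`
    have h2 : Function.Injective (fun p : ↥(QQ H R) × ↥(QQ H' R) =>
        (⟨(p.1 : Y) * p.2, P'.mul_mem (h.Q_le_P' p.1.2) (h.k'.QP p.2.2)⟩ : P')) := by
      rintro ⟨a, b⟩ ⟨a', b'⟩ hab
      have h4 : (a : Y) * b = a' * b' := congrArg Subtype.val hab
      have h5 : (a' : Y)⁻¹ * a = b' * (b : Y)⁻¹ := by
        rw [eq_mul_inv_iff_mul_eq, mul_assoc, h4]; group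
      have h6 : (a' : Y)⁻¹ * a ∈ QQ H R ⊓ QQ H' R := ⟨(QQ H R).mul_mem ((QQ H R).inv_mem a'.2) a.2, by
        rw [h5]; exact (QQ H' R).mul_mem b'.2 ((QQ H' R).inv_mem b.2)⟩
      rw [h.QQ', mem_bot] at h6
      have h7 : (a : Y) = a' := (inv_mul_eq_one.1 h6).symm
      rw [h6] at h5
      have h8 : (b : Y) = b' := (mul_inv_eq_one.1 h5.symm).symm
      exact Prod.ext (Subtype.ext h7) (Subtype.ext h8)
    have h3 := Nat.card_le_card_of_injective _ h2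
    rw [Nat.card_prod, h.k'.card_P] at h3
    exact Nat.le_of_mul_le_mul_right h3 Nat.card_pos
  have h2 : B ⊓ QQ H R = QQ H R := by
    apply eq_of_le_of_card_ge inf_le_right
    rw [h.card_AQ h.hB h.BH h.hBQ]
    exact h1
  rw [← h2]
  exact inf_le_left

theorem card_Q : Nat.card ↥(QQ H R) = c := by
  rw [← h.card_AQ h.hB h.BH h.hBQ, inf_eq_right.2 h.Q_le_B]

/-- `B` is the only member in `R` -/
theorem uniq {A : Subgroup Y} (hA : A ∈ U) (hAR : A ≤ R) : A = B := by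
  have hAH := hAR.trans h.a.RH
  have hAQ : ¬ A ≤ QQ H R := by
    intro h1
    obtain ⟨y, hy⟩ := h.amb.cls.eq B h.hB A hA
    have h2 : Nat.card A = c * c := by rw [hy, conj_card, h.card_A' h.hB h.BH h.hBQ]
    have h3 := Nat.card_le_card_of_injective _ (inclusion_injective h1)
    rw [h2, h.card_Q] at h3
    have := h.four
    nlinarith
  have hAQ' := h.not_Q' hA hAR hAQ
  have h1 : QQ H R ≤ A := by
    have h2 : A ⊓ QQ H R = QQ H R := by
      apply eq_of_le_of_card_ge inf_le_right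
      rw [h.card_AQ hA hAH hAQ, h.card_Q]
    rw [← h2]
    exact inf_le_left
  have h1' : QQ H' R ≤ A := by
    have h2 : A ⊓ QQ H' R = QQ H' R := by
      apply eq_of_le_of_card_ge inf_le_right
      rw [h.swap.card_AQ hA (hAR.trans h.a'.RH) hAQ', h.swap.card_Q]
    rw [← h2]
    exact inf_le_left
  symm
  apply eq_of_le_of_card_ge
  · intro u hu
    obtain ⟨q, hq, q', hq', rfl⟩ := h.mulB hu
    exact A.mul_mem (h1 hq.2) (h1' hq'.2)
  · rw [h.card_A' h.hB h.BH h.hBQ, h.card_A' hA hAH hAQ]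

/-- the members in `H` are the `H`-conjugates of `B` -/
theorem exists_conjB {A : Subgroup Y} (hA : A ∈ U) (hAH : A ≤ H) : ∃ x ∈ H, A = MulAut.conj x • B := by
  obtain ⟨x, hx, h1, h2⟩ := h.a.exists_conj h.amb hA hAH
  refine ⟨x⁻¹, H.inv_mem hx, ?_⟩
  rw [← h.uniq h1 h2, conj_inv_smul']

theorem not_Q_of {A : Subgroup Y} (hA : A ∈ U) (hAH : A ≤ H) : ¬ A ≤ QQ H R := by
  obtain ⟨x, hx, rfl⟩ := h.exists_conjB hA hAH
  exact h.conj_not_Q hx h.hBQ

theorem Q_le_mem {A : Subgroup Y} (hA : A ∈ U) (hAH : A ≤ H) : QQ H R ≤ A := by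
  obtain ⟨x, hx, rfl⟩ := h.exists_conjB hA hAH
  intro q hq
  rw [mem_conj]
  have h1 := conj_mem_QQ (H.inv_mem hx) hq
  rw [inv_inv] at h1
  exact h.Q_le_B h1

theorem P_eq_B : P = B := by
  obtain ⟨h1, h2⟩ := h.k.cover B h.hB h.hBR h.hBQ
  rw [sup_eq_left.2 h.Q_le_B] at h2
  exact le_antisymm h2 h1

theorem D_fxB : D ≤ fx V B := h.k.DW.trans (h.W₁_fx h.hB h.hBR h.hBQ)

theorem D_fxA {A : Subgroup Y} (hA : A ∈ U) (hAH : A ≤ H) : D ≤ fx V A := by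
  obtain ⟨x, hx, rfl⟩ := h.exists_conjB hA hAH
  intro v hv
  rw [fx_conj, mem_smul_as]
  exact h.D_fxB (h.k.D_H _ (H.inv_mem hx) v hv)

theorem fixq {q : Y} (hq : q ∈ QQ H R) (hq1 : q ≠ 1) {v : V} (hv : q • v = v) : v ∈ N ⊔ fx V B := by
  have h1 := h.cent_b h.hB h.BH h.hBQ (h.Q_le_B hq) hq hq1 hv
  rw [← h.n.sup] at h1
  exact (sup_le (sup_le (h.D_fxB.trans le_sup_right) le_sup_left) le_sup_right : D ⊔ N ⊔ fx V B ≤ N ⊔ fx V B) h1

theorem exists_q : ∃ q ∈ QQ H R, q ≠ 1 := by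
  obtain ⟨b, hb, hbQ, hb1⟩ := h.exists_b h.hB h.BH h.hBQ
  exact ⟨b, hbQ, hb1⟩

theorem NF {A : Subgroup Y} (hA : A ∈ U) (hAH : A ≤ H) : N ⊔ fx V A = N ⊔ fx V B := by
  obtain ⟨q, hq, hq1⟩ := h.exists_q
  apply le_antisymm
  · intro v hv
    apply h.fixq hq hq1
    obtain ⟨n, hn, f, hf, rfl⟩ := AddSubgroup.mem_sup.1 hv
    rw [smul_add, Amal.QQ_fix h.a h.amb hq (h.n.le hn), hf q (h.Q_le_mem hA hAH hq)]
  · intro v hv
    have h1 : q • v = v := by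
      obtain ⟨n, hn, f, hf, rfl⟩ := AddSubgroup.mem_sup.1 hv
      rw [smul_add, Amal.QQ_fix h.a h.amb hq (h.n.le hn), hf q (h.Q_le_B hq)]
    obtain ⟨x, hx, rfl⟩ := h.exists_conjB hA hAH
    have h2 : x⁻¹ * q * x ∈ QQ H R := by
      have := conj_mem_QQ (H.inv_mem hx) hq
      rwa [inv_inv] at this
    have h3 : x⁻¹ * q * x ≠ 1 := by
      intro h4
      apply hq1
      have e : x * (x⁻¹ * q * x) * x⁻¹ = q := by group
      rw [← e, h4]; group
    have h4 : (x⁻¹ * q * x) • x⁻¹ • v = x⁻¹ • v := by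
      rw [← mul_smul, mul_inv_cancel_right, mul_smul, h1]
    obtain ⟨n, hn, f, hf, hnf⟩ := AddSubgroup.mem_sup.1 (h.fixq h2 h3 h4)
    have h5 : v = x • n + x • f := by
      rw [← smul_add, hnf, smul_inv_smul]
    rw [h5, fx_conj]
    exact AddSubgroup.add_mem_sup (h.n.inv x hx n hn) (smul_mem_smul_as hf)

theorem pt_eq {x : Y} (hx : x ∈ H) : N ⊓ fx V (MulAut.conj x • B) = x • cmK P (WW V H R) := by
  rw [← h.N_F, smul_inf_as, h.smul_N hx, fx_conj]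

theorem smul_I {x : Y} (hx : x ∈ H) (hxM : x ∈ M) : x • cmK P (WW V H R) = cmK P (WW V H R) := by
  rw [← h.n.inf₁, smul_inf_as, h.smul_N hx, h.smul_W₁ hx hxM]

theorem I_or {x : Y} (hx : x ∈ H) : x • cmK P (WW V H R) = cmK P (WW V H R) ∨
    cmK P (WW V H R) ⊓ x • cmK P (WW V H R) = ⊥ := by
  by_cases hxM : x ∈ M
  · exact Or.inl (h.smul_I hx hxM)
  · exact Or.inr (h.I_inf hx hxM)

/-- one side -/
theorem side : Side V U M H B (QQ H R) N (cmK P (WW V H R)) c where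
  QB := h.Q_le_B
  card_Q := h.card_Q
  Q_H := fun x hx q hq => conj_mem_QQ hx hq
  Q_le := fun A hA hAH => h.Q_le_mem hA hAH
  N_H := h.n.inv
  card_N := h.n.card
  card_I := h.card_I
  I_eq := h.N_F
  comm := fun q hq v => h.comm_N (h.Q_le_B hq) hq v
  onto := fun q hq hq1 n hn => by
    rw [← h.n.range B h.hB h.BH h.hBQ q (h.Q_le_B hq) hq hq1] at hn
    obtain ⟨v, rfl⟩ := hn
    exact ⟨v, rfl⟩
  cent := fun q hq hq1 v hv => h.fixq hq hq1 hv
  fix := fun q hq n hn => Amal.QQ_fix h.a h.amb hq (h.n.le hn)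
  NF := fun A hA hAH => h.NF hA hAH
  card_pt := fun A hA hAH => by
    obtain ⟨x, hx, rfl⟩ := h.exists_conjB hA hAH
    rw [h.pt_eq hx, card_smul_as, h.card_I]
  comm_A := fun A hA hAH a ha n hn => h.a.WW_le_Ee h.amb h.we hA hAH (h.n.le hn) a ha
  reg := fun A hA hAH n hn hnF i hi => by
    obtain ⟨x, hx, rfl⟩ := h.exists_conjB hA hAH
    rw [h.pt_eq hx, mem_smul_as] at hi
    rw [fx_conj, mem_smul_as] at hnF
    have h1 := h.n.inv _ (H.inv_mem hx) n hn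
    obtain ⟨p, hp, h2⟩ := h.k.onto (x⁻¹ • n) (h.n.le h1) (fun h3 => hnF (h.W₁_fx h.hB h.hBR h.hBQ h3)) (x⁻¹ • i)
      (h.cm_le_W₁ hi)
    have h3 : p • x⁻¹ • n + x⁻¹ • n + x⁻¹ • i ∈ D ⊓ N :=
      ⟨h2, add_mem (add_mem (h.n.inv p (h.a.RH (h.k.PR hp)) _ h1) h1) (h.n.I_le hi)⟩
    rw [h.n.inf, AddSubgroup.mem_bot] at h3
    have h4 := (HE.add_eq_zero' h.two).1 h3
    refine ⟨x * p * x⁻¹, conj_mem_conj (h.P_eq_B ▸ hp), ?_⟩
    have e : (x * p * x⁻¹) • n + n = x • (p • x⁻¹ • n + x⁻¹ • n) := by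
      simp only [smul_add, ← mul_smul]
      rw [mul_inv_cancel, one_smul, mul_assoc]
    rw [e, h4, smul_inv_smul]
  free := fun A hA hAH a ha n hn hnF h1 => h.cent hA hAH (h.not_Q_of hA hAH) (h.n.le hn) hnF ha h1
  pt := fun A hA hAH A₂ hA₂ hA₂H => by
    obtain ⟨x, hx, rfl⟩ := h.exists_conjB hA hAH
    obtain ⟨y, hy, rfl⟩ := h.exists_conjB hA₂ hA₂H
    rw [h.pt_eq hx, h.pt_eq hy]
    rcases h.I_or (H.mul_mem (H.inv_mem hx) hy) with h1 | h1
    · left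
      conv_lhs => rw [← h1]
      rw [smul_smul_as, mul_inv_cancel_left]
    · right
      rw [eq_bot_iff]
      rintro v ⟨hv, hvF⟩
      have h2 : v ∈ N ⊓ fx V (MulAut.conj y • B) := by
        refine ⟨?_, hvF⟩
        have hv' : v ∈ x • cmK P (WW V H R) := hv
        rw [mem_smul_as] at hv'
        have h3 := h.n.inv x hx _ (h.n.I_le hv')
        rwa [smul_inv_smul] at h3
      rw [h.pt_eq hy, mem_smul_as] at h2
      have hv' : v ∈ x • cmK P (WW V H R) := hv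
      rw [mem_smul_as] at hv'
      have h3 : x⁻¹ • v ∈ cmK P (WW V H R) ⊓ (x⁻¹ * y) • cmK P (WW V H R) := by
        refine ⟨hv', ?_⟩
        change x⁻¹ • v ∈ (x⁻¹ * y) • cmK P (WW V H R)
        rw [mem_smul_as, ← mul_smul]
        have e : (x⁻¹ * y)⁻¹ * x⁻¹ = y⁻¹ := by group
        rwa [e]
      rw [h1, AddSubgroup.mem_bot, smul_eq_zero_iff_eq] at h3
      exact h3
  le_M := fun A hA hAH => by
    constructor
    · intro hAM
      have h1 := h.WF_M hA hAH (h.not_Q_of hA hAH) hAM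
      rw [← h.n.inf₁, ← h1]
      apply le_antisymm
      · exact le_inf inf_le_left (le_inf (inf_le_left.trans h.n.le) inf_le_right)
      · exact le_inf inf_le_left (inf_le_right.trans inf_le_right)
    · intro h1
      obtain ⟨x, hx, rfl⟩ := h.exists_conjB hA hAH
      rw [h.pt_eq hx] at h1
      have hxM : x ∈ M := by
        by_contra hxM
        have h2 := h.I_inf hx hxM
        rw [h1, inf_idem] at h2
        have h3 := h.card_I
        have h4 : Nat.card ↥(⊥ : AddSubgroup V) = 1 := AddSubgroup.card_bot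
        rw [h2, h4] at h3
        have := h.four
        omega
      intro y hy
      rw [mem_conj] at hy
      have h2 := M.mul_mem (M.mul_mem hxM (h.RM (h.hBR hy))) (M.inv_mem hxM)
      have e : x * (x⁻¹ * y * x) * x⁻¹ = y := by group
      rwa [e] at h2
  opp := h.exists_A
  ker := fun x hx hx2 hN hF => by
    have h1 : IsPGroup 2 (zpowers x) := by
      intro g
      obtain ⟨k, hk⟩ := hx2
      refine ⟨k, ?_⟩
      obtain ⟨g, n, rfl⟩ := g
      apply Subtype.ext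
      change (x ^ n) ^ 2 ^ k = 1
      rw [← zpow_natCast, zpow_comm, zpow_natCast, hk, one_zpow]
    obtain ⟨g, hg, hgR⟩ := conj_into h.a.RH h.a.R2 (fun R' h1 h2 => h.a.card_le h.a.bad.ne le_rfl h1 h2)
      (zpowers_le.2 hx) h1
    have h2 : g * x * g⁻¹ ∈ R := hgR (conj_mem_conj (mem_zpowers x))
    have h3 : ∀ w ∈ WW V H R, x • w = w := by
      intro w hw
      rw [← h.n.sup] at hw
      obtain ⟨d, hd, n, hn, rfl⟩ := AddSubgroup.mem_sup.1 hw
      rw [smul_add, hN n hn, hF d fun A hA hAH => h.D_fxA hA hAH hd]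
    have h4 : g * x * g⁻¹ ∈ QQ H R := by
      rw [Amal.mem_QQ_iff h.a h.amb h2]
      intro w hw
      rw [mul_smul, mul_smul, h3 _ (smul_mem_WW (H.inv_mem hg) hw), smul_inv_smul]
    have h5 := conj_mem_QQ (H.inv_mem hg) h4
    have e : g⁻¹ * (g * x * g⁻¹) * g⁻¹⁻¹ = x := by group
    rwa [e] at h5

/-- **THE END, (3')**: both sides. -/
theorem endS : EndS V U T M H H' R B (QQ H R) (QQ H' R) N N' (cmK P (WW V H R)) c t where
  amb := h.amb
  a := h.a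
  a' := h.a'
  four := h.four
  s := h.side
  s' := by
    rw [h.cm_eq']
    exact h.swap.side
  H'_eq := h.H'_eq
  H_eq := h.H_eq
  Q'_eq := h.Q'_eq
  Q_eq := h.swap.Q'_eq
  N'_eq := h.N'_eq
  N_eq := h.swap.N'_eq
  hB := h.hB
  BR := h.hBR
  uniq := fun A hA hAR => h.uniq hA hAR
  tB := by
    have h1 : MulAut.conj t • B ≤ R := by
      intro y hy
      rw [mem_conj] at hy
      have h2 := h.a.t_norm _ (h.hBR hy)
      have e : t * (t⁻¹ * y * t) * t⁻¹ = y := by group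
      rwa [e] at h2
    have h2 := h.uniq (h.amb.cls.conj B h.hB t) h1
    intro b hb
    rw [← h2]
    exact conj_mem_conj hb
  QQ' := h.QQ'
  mul := fun b hb => by
    obtain ⟨q, hq, q', hq', rfl⟩ := h.mulB hb
    exact ⟨q, hq.2, q', hq'.2, rfl⟩
  NN' := h.NN'
  E_eq := h.E_eq
  P_eq := fun r hr hI => by
    rw [← h.P_eq_B]
    apply h.k.mem_P r hr
    intro w hw
    rw [← h.W₁_eq_sup] at hw
    obtain ⟨d, hd, i, hi, rfl⟩ := AddSubgroup.mem_sup.1 hw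
    have e : r • (d + i) + (d + i) = r • d + d := by
      rw [smul_add, hI i hi]
      have e : r • d + i + (d + i) = r • d + d + (i + i) := by abel
      rw [e, h.two, add_zero]
    rw [e]
    exact add_mem (h.k.D_H r (h.a.RH hr) d hd) hd
  card_V := h.ind B h.hB

end TwoEN

/-- **THE END, (0')-(3')** (bb OMEGA 20698, 21741): from 503's theorem (#20297) to `EndS`. -/
theorem TwoE.endS [Finite Y] [Finite V] {U : Set (Subgroup Y)} {T : Sylow 2 Y} {M H H' R P P' : Subgroup Y}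
    {D D' W₁ W₁' : AddSubgroup V} {c : ℕ} {t : Y} (h : TwoE V U T M H H' R P P' D D' W₁ W₁' c t) :
    ∃ (B Q Q' : Subgroup Y) (N N' I : AddSubgroup V), EndS V U T M H H' R B Q Q' N N' I c t := by
  obtain ⟨N, N', B, hn⟩ := h.twoN
  exact ⟨B, QQ H R, QQ H' R, N, N', _, hn.endS⟩

/-- the same with `|V : E_A| = a`, `a ≥ 4`, (PF) -/
theorem TwoK.endS [Finite Y] [Finite V] {U : Set (Subgroup Y)} {T : Sylow 2 Y} {M H H' R P P' : Subgroup Y}
    {D D' W₁ W₁' : AddSubgroup V} {c : ℕ} {t : Y} (h : TwoK V U T M H H' R P P' D D' W₁ W₁' c t) {a : ℕ}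
    (ha : 4 ≤ a) (hind : ∀ A ∈ U, (Ee V A).index = a) (hpf : ∀ A ∈ U, a ^ 2 ≤ Nat.card A)
    (hnoff : ∀ A : Subgroup Y, (∀ x ∈ A, ∀ y ∈ A, x * y = y * x) → (∀ x ∈ A, x * x = 1) → A ≠ ⊥ →
      Nat.card A < (fx V A).index) :
    a = c ∧ ∃ (B Q Q' : Subgroup Y) (N N' I : AddSubgroup V), EndS V U T M H H' R B Q Q' N N' I c t := by
  have hV : ∀ A ∈ U, Nat.card V = a * Nat.card ↥(Ee V A) := fun A hA => by
    rw [← hind A hA, AddSubgroup.index_mul_card]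
  obtain ⟨A, hA, hAH, hAM⟩ := h.exists_A
  obtain ⟨h1, -, -⟩ := h.main_top hA hAH hAM (hV A hA) (by rw [← sq]; exact hpf A hA)
  subst h1
  exact ⟨rfl, TwoE.endS { h with four := ha, ind := hV, noff := fun A hA hne => hnoff A hA.1 hA.2 hne }⟩

end Cfsg.Agent.Omega.NO1.TH

end

section


/-!
# N1, THE END (bb OMEGA 20698, 21741, helper70, helper456): (Ex) and the THEOREM

Both sides `(J, Q, N)`, `(J', Q', N')` of the amalgam, `B = Q Q'`, `N ∩ N' = I`.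
`TS.norm` : `g ∈ J'` which normalises `B` normalises `Q`.
-/

set_option autoImplicit false
set_option linter.unusedSectionVars false

namespace Cfsg.Agent.Omega.NO1.TH

open Subgroup Cfsg.Agent.Omega.NO1.AB
open scoped Pointwise

universe u

variable {Y : Type u} [Group Y] {V : Type u} [AddCommGroup V] [DistribMulAction Y V]

/-- both sides -/
structure TS (J J' B Q Q' : Subgroup Y) (N N' I E F : AddSubgroup V) (c : ℕ) : Prop where
  s : FS J B Q N I c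
  s' : FS J' B Q' N' I c
  mem : Mem B E F
  BQQ : ∀ b ∈ B, ∃ q ∈ Q, ∃ q' ∈ Q', b = q * q'
  QQ1 : ∀ q ∈ Q, q ∈ Q' → q = 1
  NB : ∀ b ∈ B, ∀ n ∈ N, b • n + n ∈ I
  NB' : ∀ b ∈ B, ∀ n ∈ N', b • n + n ∈ I
  reg : ∀ q ∈ Q', q ≠ 1 → ∀ n ∈ N, q • n = n → n ∈ I
  reg' : ∀ q ∈ Q, q ≠ 1 → ∀ n ∈ N', q • n = n → n ∈ I
  out : ∀ w, w ∉ E → ∀ q ∈ Q, q ≠ 1 → q • w + w ∉ I
  out' : ∀ w, w ∉ E → ∀ q ∈ Q', q ≠ 1 → q • w + w ∉ I
  EX : ∀ v ∈ E, ∃ x x' : V, (∀ q ∈ Q, q • x = x) ∧ (∀ q ∈ Q', q • x' = x') ∧ v = x + x'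
  XE : ∀ v : V, (∀ q ∈ Q, q • v = v) → v ∈ E
  XE' : ∀ v : V, (∀ q ∈ Q', q • v = v) → v ∈ E

namespace TS

variable {J J' B Q Q' : Subgroup Y} {N N' I E F : AddSubgroup V} {c : ℕ}
  (h : TS J J' B Q Q' N N' I E F c)
include h

theorem swap : TS J' J B Q' Q N' N I E F c where
  s := h.s'
  s' := h.s
  mem := h.mem
  BQQ := fun b hb => by
    obtain ⟨q, hq, q', hq', rfl⟩ := h.BQQ b hb
    exact ⟨q', hq', q, hq, h.mem.comm _ (h.s.QB hq) _ (h.s'.QB hq')⟩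
  QQ1 := fun q hq hq' => h.QQ1 q hq' hq
  NB := h.NB'
  NB' := h.NB
  reg := h.reg'
  reg' := h.reg
  out := h.out'
  out' := h.out
  EX := fun v hv => by
    obtain ⟨x, x', h1, h2, rfl⟩ := h.EX v hv
    exact ⟨x', x, h2, h1, add_comm _ _⟩
  XE := h.XE'
  XE' := h.XE

/-- `[v, x, y] = [v, y, x]` -/
theorem symm {x y : Y} (hx : x ∈ B) (hy : y ∈ B) (v : V) :
    y • (x • v + v) + (x • v + v) = x • (y • v + v) + (y • v + v) := by
  rw [smul_add, smul_add, ← mul_smul, ← mul_smul, h.mem.comm x hx y hy]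
  abel

/-- `v + v' = 0` means equality -/
theorem eq_of_add {v v' : V} (hv : v + v' = 0) : v = v' := by
  have h1 : v + v' = v' + v' := by rw [hv, h.s.two]
  exact add_right_cancel h1

/-- `[w, Q, b'] = I` for `w ∉ E`, `1 ≠ b' ∈ Q'` -/
theorem surj_I [Finite Y] [Finite V] {w : V} (hw : w ∉ E) {b' : Y} (hb' : b' ∈ Q') (hb1 : b' ≠ 1) {i : V} (hi : i ∈ I) :
    ∃ b ∈ Q, b • (b' • w + w) + (b' • w + w) = i := by
  have hn : b' • w + w ∈ N' := h.s'.VQ b' hb' w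
  have hnI := h.out' w hw b' hb' hb1
  let g : Q → I := fun b => ⟨(b : Y) • (b' • w + w) + (b' • w + w), h.NB' b (h.s.QB b.2) _ hn⟩
  have hg : Function.Injective g := by
    intro b b₂ hbb
    have h1 : (b : Y) • (b' • w + w) + (b' • w + w) = (b₂ : Y) • (b' • w + w) + (b' • w + w) :=
      congrArg Subtype.val hbb
    have h2 := add_right_cancel h1
    by_contra hne
    apply hnI
    apply h.reg' ((b₂ : Y)⁻¹ * b) (Q.mul_mem (Q.inv_mem b₂.2) b.2) _ _ hn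
    · rw [mul_smul, inv_smul_eq_iff]; exact h2
    · intro h3
      apply hne
      apply Subtype.ext
      exact (inv_mul_eq_one.1 h3).symm
  have hcard : Nat.card Q = Nat.card I := by rw [h.s.card_Q, h.s.card_I]
  have hs : Function.Surjective g := by
    have := Fintype.ofFinite Q
    have := Fintype.ofFinite I
    rw [Nat.card_eq_fintype_card, Nat.card_eq_fintype_card] at hcard
    exact ((Fintype.bijective_iff_injective_and_card g).2 ⟨hg, hcard⟩).2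
  obtain ⟨b, hb⟩ := hs ⟨i, hi⟩
  exact ⟨b, b.2, congrArg Subtype.val hb⟩

/-- **(Ex)**, first form -/
theorem ex_aux [Finite Y] [Finite V] {f : V → V} (hf : Sc J N f) {w : V} (hw : w ∉ E) :
    ∃ f', Sc J' N' f' ∧ (∀ i ∈ I, f i = f' i) ∧ ∃ wm : V, (∀ b ∈ Q, b • wm + wm = f (b • w + w)) ∧
      ∀ b ∈ Q', b • wm + wm = f' (b • w + w) := by
  obtain ⟨b₀, hb₀, hb0⟩ := h.s.exists_ne
  obtain ⟨d₀, hd₀, hd0⟩ := h.s'.exists_ne
  -- `v₁`
  obtain ⟨v₁, hv₁⟩ := h.s.onto b₀ hb₀ hb0 _ (hf.mem _ (h.s.VQ b₀ hb₀ w))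
  have hv₁' : ∀ b ∈ Q, b • v₁ + v₁ = f (b • w + w) := by
    intro b hb
    obtain ⟨m, hm, hmb⟩ := h.s.exists_mb hb₀ hb0 hb
    rw [← hmb v₁, hv₁, h.s.sc_comm hm hf _ (h.s.VQ b₀ hb₀ w), hmb w]
  -- `m'`
  have hn : d₀ • w + w ∈ N' := h.s'.VQ d₀ hd₀ w
  have hnI := h.out' w hw d₀ hd₀ hd0
  have hi₁ := h.NB' b₀ (h.s.QB hb₀) _ hn
  have hi₁0 : b₀ • (d₀ • w + w) + (d₀ • w + w) ≠ 0 := by
    intro h1
    exact hnI (h.reg' b₀ hb₀ hb0 _ hn (h.eq_of_add h1))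
  have hn₂ : d₀ • v₁ + v₁ ∈ N' := h.s'.VQ d₀ hd₀ v₁
  obtain ⟨f', -, -, hf', -, hfi⟩ := h.s'.exists_sc hd₀ hd0 hi₁ hi₁0 (h.NB' b₀ (h.s.QB hb₀) _ hn₂)
  have h1 : f' (d₀ • w + w) + (d₀ • v₁ + v₁) ∈ I := by
    apply h.reg' b₀ hb₀ hb0 _ (add_mem (hf'.mem _ hn) hn₂)
    have h2 : b₀ • f' (d₀ • w + w) + f' (d₀ • w + w) = b₀ • (d₀ • v₁ + v₁) + (d₀ • v₁ + v₁) := by
      rw [← hfi, hf'.add _ (h.s'.NJ _ (h.s'.BJ (h.s.QB hb₀)) _ hn) _ hn, hf'.comm _ (h.s'.BJ (h.s.QB hb₀)) _ hn]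
    apply h.eq_of_add
    rw [smul_add]
    calc b₀ • f' (d₀ • w + w) + b₀ • (d₀ • v₁ + v₁) + (f' (d₀ • w + w) + (d₀ • v₁ + v₁))
        = (b₀ • f' (d₀ • w + w) + f' (d₀ • w + w)) + (b₀ • (d₀ • v₁ + v₁) + (d₀ • v₁ + v₁)) := by abel
      _ = 0 := by rw [h2, h.s.two]
  obtain ⟨v₂, hv₂⟩ := h.s'.onto d₀ hd₀ hd0 _ (hf'.mem _ hn)
  have hv₂' : ∀ b ∈ Q', b • v₂ + v₂ = f' (b • w + w) := by
    intro b hb
    obtain ⟨m, hm, hmb⟩ := h.s'.exists_mb hd₀ hd0 hb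
    rw [← hmb v₂, hv₂, h.s'.sc_comm hm hf' _ hn, hmb w]
  have hE : v₁ + v₂ ∈ E := by
    by_contra hE
    apply h.out' _ hE d₀ hd₀ hd0
    rw [← hv₂] at h1
    have e : d₀ • (v₁ + v₂) + (v₁ + v₂) = d₀ • v₂ + v₂ + (d₀ • v₁ + v₁) := by
      rw [smul_add]; abel
    rw [e]; exact h1
  obtain ⟨x, x', hx, hx', hxx⟩ := h.EX _ hE
  have hwm : v₁ + x = v₂ + x' := by
    apply h.eq_of_add
    calc v₁ + x + (v₂ + x') = (v₁ + v₂) + (x + x') := by abel
      _ = 0 := by rw [hxx, h.s.two]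
  have hA : ∀ b ∈ Q, b • (v₁ + x) + (v₁ + x) = f (b • w + w) := by
    intro b hb
    rw [smul_add, hx b hb, ← hv₁' b hb]
    have := h.s.two x
    calc b • v₁ + x + (v₁ + x) = b • v₁ + v₁ + (x + x) := by abel
      _ = _ := by rw [this, add_zero]
  have hB : ∀ b ∈ Q', b • (v₁ + x) + (v₁ + x) = f' (b • w + w) := by
    intro b hb
    rw [hwm, smul_add, hx' b hb, ← hv₂' b hb]
    have := h.s.two x'
    calc b • v₂ + x' + (v₂ + x') = b • v₂ + v₂ + (x' + x') := by abel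
      _ = _ := by rw [this, add_zero]
  refine ⟨f', hf', ?_, v₁ + x, hA, hB⟩
  intro i hi
  obtain ⟨b, hb, rfl⟩ := h.surj_I hw hd₀ hd0 hi
  have hbB := h.s.QB hb
  have hdB := h.s'.QB hd₀
  have hnb := h.s.VQ b hb w
  -- `m [w, b, b'] = [m [w, b], b']`
  have h3 : f (b • (d₀ • w + w) + (d₀ • w + w)) = d₀ • f (b • w + w) + f (b • w + w) := by
    rw [← h.symm hbB hdB w, hf.add _ (h.s.NJ _ (h.s.BJ hdB) _ hnb) _ hnb, hf.comm _ (h.s.BJ hdB) _ hnb]
  have h4 : f' (b • (d₀ • w + w) + (d₀ • w + w)) = b • f' (d₀ • w + w) + f' (d₀ • w + w) := by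
    rw [hf'.add _ (h.s'.NJ _ (h.s'.BJ hbB) _ hn) _ hn, hf'.comm _ (h.s'.BJ hbB) _ hn]
  rw [h3, h4, ← hA b hb, ← hB d₀ hd₀]
  exact h.symm hbB hdB _

/-- the scalar of the other side -/
theorem exists_sc' [Finite Y] [Finite V] {f : V → V} (hf : Sc J N f) :
    ∃ f', Sc J' N' f' ∧ ∀ i ∈ I, f i = f' i := by
  obtain ⟨w, hw⟩ := h.mem.ne
  obtain ⟨f', hf', h1, -⟩ := h.ex_aux hf hw
  exact ⟨f', hf', h1⟩

/-- **(Ex)** -/
theorem ex [Finite Y] [Finite V] {f f' : V → V} (hf : Sc J N f) (hf' : Sc J' N' f') (hff : ∀ i ∈ I, f i = f' i)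
    {w : V} (hw : w ∉ E) :
    ∃ wm : V, (∀ b ∈ Q, b • wm + wm = f (b • w + w)) ∧ ∀ b ∈ Q', b • wm + wm = f' (b • w + w) := by
  obtain ⟨f₂, hf₂, h1, wm, hA, hB⟩ := h.ex_aux hf hw
  obtain ⟨i, hi, hi0⟩ := h.s'.exists_i0
  refine ⟨wm, hA, fun b hb => ?_⟩
  rw [hB b hb]
  apply h.s'.ext hf₂ hf' (h.s'.IN hi) hi0 _ _ (h.s'.VQ b hb w)
  rw [← h1 i hi, ← hff i hi]

/-- **THEOREM**: `g ∈ J'` normalises `B` ⟹ `g` normalises `Q` -/
theorem norm [Finite Y] [Finite V] (hc : 3 ≤ c) {g : Y} (hg : g ∈ J') (hgB : ∀ b ∈ B, g * b * g⁻¹ ∈ B)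
    (hgE : ∀ v, v ∉ E → g • v ∉ E) : ∀ q ∈ Q, g * q * g⁻¹ ∈ Q := by
  have two := h.s.two
  -- a scalar different from 0, 1
  obtain ⟨i₀, hi₀, hi₀0⟩ := h.s.exists_i0
  obtain ⟨i₂, hi₂, hi₂0, hi₂1⟩ : ∃ i₂ ∈ I, i₂ ≠ 0 ∧ i₂ ≠ i₀ := by
    by_contra hcon
    push Not at hcon
    have h1 : (I : Set V) ⊆ {0, i₀} := by
      intro x hx
      by_cases hx0 : x = 0
      · left; exact hx0
      · right; exact hcon x hx hx0
    have h2 : Nat.card I ≤ 2 := by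
      have h3 := Set.ncard_le_ncard h1 (Set.toFinite _)
      have h4 : ({0, i₀} : Set V).ncard ≤ 2 := Set.ncard_insert_le _ _ |>.trans (by simp)
      have h5 : Nat.card I = (I : Set V).ncard := rfl
      omega
    rw [h.s.card_I] at h2
    omega
  obtain ⟨b₀, hb₀, hb0⟩ := h.s.exists_ne
  obtain ⟨f, -, -, hf, -, hfi⟩ := h.s.exists_sc hb₀ hb0 hi₀ hi₀0 hi₂
  -- `f` and `f + 1` are injective
  have finj : ∀ n ∈ N, f n = 0 → n = 0 := by
    intro n hn hn0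
    by_contra hne
    apply hi₂0
    rw [← hfi]
    exact h.s.inj hf hn hne hn0 _ (h.s.IN hi₀)
  have finj1 : ∀ n ∈ N, f n + n = 0 → n = 0 := by
    intro n hn hn0
    by_contra hne
    apply hi₂1
    have h1 := h.s.inj (hf.addd Sc.id) hn hne hn0 _ (h.s.IN hi₀)
    rw [← hfi]
    exact h.eq_of_add h1
  obtain ⟨f', hf', hff⟩ := h.exists_sc' hf
  obtain ⟨w, hw⟩ := h.mem.ne
  have hgw := hgE w hw
  obtain ⟨wm, hwA, hwB⟩ := h.ex hf hf' hff hw
  obtain ⟨vm, hvA, hvB⟩ := h.ex hf hf' hff hgw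
  obtain ⟨x', hx'⟩ : ∃ x' : V, x' = g • wm + vm := ⟨_, rfl⟩
  have hcm : ∀ b ∈ Q', ∀ v : V, b • g • v = g • b • v := by
    intro b hb v
    rw [← mul_smul, ← mul_smul, h.s'.JQ g hg b hb]
  have hxQ : ∀ b ∈ Q', b • x' = x' := by
    intro b hb
    apply h.eq_of_add
    have h1 : b • g • wm + g • wm = b • vm + vm := by
      rw [hcm b hb, ← smul_add, hwB b hb, hvB b hb, ← hf'.comm g hg _ (h.s'.VQ b hb w), smul_add, hcm b hb]
    rw [hx', smul_add]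
    calc b • g • wm + b • vm + (g • wm + vm) = (b • g • wm + g • wm) + (b • vm + vm) := by abel
      _ = 0 := by rw [h1, two]
  have hxE := h.XE' x' hxQ
  have hgwm : g • wm = vm + x' := by
    rw [hx']
    calc g • wm = g • wm + (vm + vm) := by rw [two, add_zero]
      _ = _ := by abel
  -- the basic equations for `b ∈ Q`, `g b g⁻¹ = b₁ b₁'`
  have hconj : ∀ (b : Y) (v : V), g • (b • v + v) = (g * b * g⁻¹) • g • v + g • v := by
    intro b v
    rw [smul_add, ← mul_smul, ← mul_smul]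
    congr 2
    group
  have lin : ∀ b ∈ Q, ∀ bf ∈ Q, (∀ v : V, bf • v + v = f (b • v + v)) → ∀ b₁ ∈ Q, ∀ b₁' ∈ Q',
      g * b * g⁻¹ = b₁ * b₁' → ∀ β ∈ Q, (∀ v : V, β • v + v = f (b₁ • v + v)) → ∀ β' ∈ Q',
      (∀ v : V, β' • v + v = f' (b₁' • v + v)) → g * bf * g⁻¹ = β * β' := by
    intro b hb bf hbf hbfv b₁ hb₁ b₁' hb₁' hgb β hβ hβv β' hβ' hβv'
    have hB1 := h.s.QB hb₁
    have hB1' := h.s'.QB hb₁'
    have hBβ := h.s.QB hβ
    have hBβ' := h.s'.QB hβ'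
    have h1 : g • (bf • w + w) = (b₁ * b₁') • (vm + x') + (vm + x') := by
      rw [hbfv w, ← hwA b hb, hconj, hgb, hgwm]
    rw [hconj] at h1
    -- mod `F`
    have h2 : (g * bf * g⁻¹) • g • w + g • w + ((β * β') • g • w + g • w) ∈ F := by
      rw [h1]
      have e1 : (b₁ * b₁') • (vm + x') + (vm + x') =
          (b₁ • (b₁' • vm + vm) + (b₁' • vm + vm)) + (b₁' • vm + vm) + (b₁ • vm + vm) +
            ((b₁ * b₁') • x' + x') := by
        rw [mul_smul, mul_smul, smul_add, smul_add, smul_add]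
        have h3 := two (b₁ • vm)
        have h4 := two (b₁' • vm)
        have h5 := two vm
        calc b₁ • b₁' • vm + b₁ • b₁' • x' + (vm + x')
            = b₁ • b₁' • vm + vm + (b₁ • b₁' • x' + x') + 0 + 0 + 0 := by abel
          _ = b₁ • b₁' • vm + vm + (b₁ • b₁' • x' + x') + (b₁ • vm + b₁ • vm) + (b₁' • vm + b₁' • vm) +
              (vm + vm) := by rw [h3, h4, h5]
          _ = _ := by abel
      have e2 : (β * β') • g • w + g • w =
          (β • (β' • g • w + g • w) + (β' • g • w + g • w)) + (β' • g • w + g • w) + (β • g • w + g • w) := by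
        rw [mul_smul, smul_add]
        have h3 := two (β • g • w)
        have h4 := two (β' • g • w)
        have h5 := two (g • w)
        calc β • β' • g • w + g • w = β • β' • g • w + g • w + 0 + 0 + 0 := by abel
          _ = β • β' • g • w + g • w + (β • g • w + β • g • w) + (β' • g • w + β' • g • w) +
              (g • w + g • w) := by rw [h3, h4, h5]
          _ = _ := by abel
      rw [e1, e2, hvA b₁ hb₁, hvB b₁' hb₁', ← hβv, ← hβv']
      have h6 := h.mem.EB b₁ hB1 _ (h.mem.VB β' hBβ' (g • w))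
      have h7 := h.mem.EB β hBβ _ (h.mem.VB β' hBβ' (g • w))
      have h8 := h.mem.EB (b₁ * b₁') (B.mul_mem hB1 hB1') _ hxE
      have e3 : b₁ • (β' • g • w + g • w) + (β' • g • w + g • w) + (β' • g • w + g • w) + (β • g • w + g • w) +
          ((b₁ * b₁') • x' + x') +
          (β • (β' • g • w + g • w) + (β' • g • w + g • w) + (β' • g • w + g • w) + (β • g • w + g • w)) =
          (b₁ • (β' • g • w + g • w) + (β' • g • w + g • w)) +
          (β • (β' • g • w + g • w) + (β' • g • w + g • w)) + ((b₁ * b₁') • x' + x') +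
          ((β' • g • w + g • w) + (β' • g • w + g • w)) + ((β • g • w + g • w) + (β • g • w + g • w)) := by
        abel
      rw [e3, two (β' • g • w + g • w), two (β • g • w + g • w), add_zero, add_zero]
      exact add_mem (add_mem h6 h7) h8
    -- injectivity
    have hgbf := hgB bf (h.s.QB hbf)
    have hββ := B.mul_mem hBβ hBβ'
    have h3 : (g * bf * g⁻¹ * (β * β')) • g • w + g • w ∈ F := by
      have h4 := h.mem.EB (g * bf * g⁻¹) hgbf _ (h.mem.VB (β * β') hββ (g • w))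
      have e : (g * bf * g⁻¹ * (β * β')) • g • w + g • w =
          ((g * bf * g⁻¹) • ((β * β') • g • w + g • w) + ((β * β') • g • w + g • w)) +
            ((g * bf * g⁻¹) • g • w + g • w + ((β * β') • g • w + g • w)) := by
        rw [mul_smul, smul_add]
        have h5 := two ((β * β') • g • w)
        have h6 := two ((g * bf * g⁻¹) • g • w)
        have h7 := two (g • w)
        calc (g * bf * g⁻¹) • (β * β') • g • w + g • w
            = (g * bf * g⁻¹) • (β * β') • g • w + g • w + 0 + 0 + 0 := by abel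
          _ = (g * bf * g⁻¹) • (β * β') • g • w + g • w + ((β * β') • g • w + (β * β') • g • w) +
              ((g * bf * g⁻¹) • g • w + (g * bf * g⁻¹) • g • w) + (g • w + g • w) := by rw [h5, h6, h7]
          _ = _ := by abel
      rw [e]
      exact add_mem h4 h2
    have h4 := h.mem.inj _ hgw _ (B.mul_mem hgbf hββ) h3
    have h5 := h.mem.sq _ hββ
    exact mul_right_cancel (h4.trans h5.symm)
  -- equation (*)
  have star : ∀ b ∈ Q, ∀ b₁ ∈ Q, ∀ b₁' ∈ Q', g * b * g⁻¹ = b₁ * b₁' →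
      f (f (b₁' • (b₁ • g • w + g • w) + (b₁ • g • w + g • w))) +
        f (b₁' • (b₁ • g • w + g • w) + (b₁ • g • w + g • w)) = b₁ • x' + x' := by
    intro b hb b₁ hb₁ b₁' hb₁' hgb
    have hB1 := h.s.QB hb₁
    have hB1' := h.s'.QB hb₁'
    obtain ⟨bf, hbf, hbfv⟩ := h.s.exists_bf hf hb
    obtain ⟨β, hβ, hβv⟩ := h.s.exists_bf hf hb₁
    obtain ⟨β', hβ', hβv'⟩ := h.s'.exists_bf hf' hb₁'
    have hBβ := h.s.QB hβ
    have hBβ' := h.s'.QB hβ'
    have hl := lin b hb bf hbf hbfv b₁ hb₁ b₁' hb₁' hgb β hβ hβv β' hβ' hβv'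
    set n₁ := b₁ • g • w + g • w with hn₁
    set n₁' := b₁' • g • w + g • w with hn₁'
    have hN1 : n₁ ∈ N := h.s.VQ b₁ hb₁ _
    have hN1' : n₁' ∈ N' := h.s'.VQ b₁' hb₁' _
    set φ := b₁' • n₁ + n₁ with hφ
    have hφI : φ ∈ I := h.NB b₁' hB1' _ hN1
    have hφ' : b₁ • n₁' + n₁' = φ := (h.symm hB1 hB1' (g • w)).symm
    have h1 : g • (bf • w + w) = (b₁ * b₁') • (vm + x') + (vm + x') := by
      rw [hbfv w, ← hwA b hb, hconj, hgb, hgwm]
    rw [hconj, hl] at h1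
    -- (i)
    have hi : (β * β') • g • w + g • w = f (f φ) + f' n₁' + f n₁ := by
      have e : (β * β') • g • w + g • w = (β • (β' • g • w + g • w) + (β' • g • w + g • w)) +
          (β' • g • w + g • w) + (β • g • w + g • w) := by
        rw [mul_smul, smul_add]
        have h3 := two (β • g • w)
        have h4 := two (β' • g • w)
        have h5 := two (g • w)
        calc β • β' • g • w + g • w = β • β' • g • w + g • w + 0 + 0 + 0 := by abel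
          _ = β • β' • g • w + g • w + (β • g • w + β • g • w) + (β' • g • w + β' • g • w) +
              (g • w + g • w) := by rw [h3, h4, h5]
          _ = _ := by abel
      have e2 : β • (β' • g • w + g • w) + (β' • g • w + g • w) = f (f φ) := by
        rw [hβv' (g • w), ← hf'.comm β (h.s'.BJ hBβ) _ hN1', ← hf'.add _ (h.s'.NJ β (h.s'.BJ hBβ) _ hN1') _ hN1',
          hn₁', ← h.symm hBβ hB1' (g • w), hβv (g • w), ← hf.comm b₁' (h.s.BJ hB1') _ hN1,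
          ← hf.add _ (h.s.NJ _ (h.s.BJ hB1') _ hN1) _ hN1]
        exact (hff _ (h.s.sc_I hf hφI)).symm
      rw [e, e2, hβv (g • w), hβv' (g • w)]
    -- (ii)
    have hii : (b₁ * b₁') • (vm + x') + (vm + x') = f' n₁' + f φ + f n₁ + (b₁ • x' + x') := by
      have h3 := hvA b₁ hb₁
      have h4 := hvB b₁' hb₁'
      have e : (b₁ * b₁') • (vm + x') + (vm + x') =
          b₁ • (b₁' • vm + vm) + (b₁ • vm + vm) + (b₁ • x' + x') := by
        rw [mul_smul, smul_add, hxQ b₁' hb₁', smul_add, smul_add]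
        have h5 := two (b₁ • vm)
        calc b₁ • b₁' • vm + b₁ • x' + (vm + x') = b₁ • b₁' • vm + vm + (b₁ • x' + x') + 0 := by abel
          _ = b₁ • b₁' • vm + vm + (b₁ • x' + x') + (b₁ • vm + b₁ • vm) := by rw [h5]
          _ = _ := by abel
      rw [e, h3, h4, ← hn₁, ← hn₁', ← hf'.comm b₁ (h.s'.BJ hB1) _ hN1']
      have e2 : b₁ • n₁' = n₁' + φ := by
        rw [← hφ']
        have := two n₁'
        calc b₁ • n₁' = b₁ • n₁' + (n₁' + n₁') := by rw [this, add_zero]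
          _ = _ := by abel
      rw [e2, hf'.add _ hN1' _ (h.s'.IN hφI), ← hff φ hφI]
    rw [hi, hii] at h1
    have h6 := two (f φ)
    have h7 := two (f' n₁')
    have h8 := two (f n₁)
    calc f (f φ) + f φ = (f (f φ) + f' n₁' + f n₁) + (f φ + f' n₁' + f n₁) := by
          have : (f (f φ) + f' n₁' + f n₁) + (f φ + f' n₁' + f n₁) =
            f (f φ) + f φ + (f' n₁' + f' n₁') + (f n₁ + f n₁) := by abel
          rw [this, h7, h8, add_zero, add_zero]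
      _ = (f' n₁' + f φ + f n₁ + (b₁ • x' + x')) + (f φ + f' n₁' + f n₁) := by rw [h1]
      _ = (f φ + f φ) + (f' n₁' + f' n₁') + (f n₁ + f n₁) + (b₁ • x' + x') := by abel
      _ = b₁ • x' + x' := by rw [h6, h7, h8]; simp
  -- end
  intro b hb
  obtain ⟨b₁, hb₁, b₁', hb₁', hgb⟩ := h.BQQ _ (hgB b (h.s.QB hb))
  have hB1 := h.s.QB hb₁
  have hB1' := h.s'.QB hb₁'
  obtain ⟨bf, hbf, hbfv⟩ := h.s.exists_bf hf hb
  obtain ⟨β, hβ, hβv⟩ := h.s.exists_bf hf hb₁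
  obtain ⟨β', hβ', hβv'⟩ := h.s'.exists_bf hf' hb₁'
  have hBβ := h.s.QB hβ
  have hBβ' := h.s'.QB hβ'
  have hl := lin b hb bf hbf hbfv b₁ hb₁ b₁' hb₁' hgb β hβ hβv β' hβ' hβv'
  have s1 := star b hb b₁ hb₁ b₁' hb₁' hgb
  have s2 := star bf hbf β hβ β' hβ' hl
  set n₁ := b₁ • g • w + g • w with hn₁
  have hN1 : n₁ ∈ N := h.s.VQ b₁ hb₁ _
  set φ := b₁' • n₁ + n₁ with hφ
  have hφI : φ ∈ I := h.NB b₁' hB1' _ hN1
  have hφN := h.s.IN hφI
  have hφ2 : β' • (β • g • w + g • w) + (β • g • w + g • w) = f (f φ) := by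
    have hN1' : b₁' • g • w + g • w ∈ N' := h.s'.VQ b₁' hb₁' _
    have hfn : f n₁ ∈ N := hf.mem _ hN1
    -- `[gw, β, β'] = [f n₁, β'] = f [n₁, β']`
    rw [hβv (g • w), ← hn₁, ← hf.comm β' (h.s.BJ hBβ') _ hN1, ← hf.add _ (h.s.NJ _ (h.s.BJ hBβ') _ hN1) _ hN1]
    congr 1
    rw [hn₁, h.symm hB1 hBβ' (g • w), hβv' (g • w), ← hf'.comm b₁ (h.s'.BJ hB1) _ hN1',
      ← hf'.add _ (h.s'.NJ _ (h.s'.BJ hB1) _ hN1') _ hN1', ← h.symm hB1 hB1' (g • w)]
    exact (hff φ hφI).symm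
  rw [hφ2, hβv x', ← s1] at s2
  -- `f⁴ φ + f³ φ = f (f² φ + f φ)`
  have hf1 := hf.mem _ hφN
  have hf2 := hf.mem _ hf1
  have hf3 := hf.mem _ hf2
  have hf4 := hf.mem _ hf3
  rw [hf.add _ hf2 _ hf1] at s2
  have s3 : f (f (f (f φ) + φ)) = 0 := by
    rw [hf.add _ hf2 _ hφN, hf.add _ hf3 _ hf1]
    have h6 := two (f (f (f φ)))
    calc f (f (f (f φ))) + f (f φ) = (f (f (f (f φ))) + f (f (f φ))) + (f (f (f φ)) + f (f φ)) := by
          have : (f (f (f (f φ))) + f (f (f φ))) + (f (f (f φ)) + f (f φ)) =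
            f (f (f (f φ))) + f (f φ) + (f (f (f φ)) + f (f (f φ))) := by abel
          rw [this, h6, add_zero]
      _ = 0 := by rw [s2, two]
  have s4 := finj _ (add_mem hf2 hφN) (finj _ (hf.mem _ (add_mem hf2 hφN)) s3)
  have s5 : f φ + φ = 0 := by
    apply finj1 _ (add_mem hf1 hφN)
    rw [hf.add _ hf1 _ hφN]
    have h6 := two (f φ)
    calc f (f φ) + f φ + (f φ + φ) = f (f φ) + φ + (f φ + f φ) := by abel
      _ = 0 := by rw [s4, h6, add_zero]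
  have s6 := finj1 _ hφN s5
  by_cases hb11 : b₁ = 1
  · -- `g b g⁻¹ = b₁' ∈ Q'`
    rw [hb11, one_mul] at hgb
    have h1 := h.s'.JQ g hg b₁' hb₁'
    rw [← hgb] at h1
    have h2 : g * b * g⁻¹ = b := by
      have h3 : g * (g * b * g⁻¹) = g * b := by rw [h1]; group
      exact mul_left_cancel h3
    rw [h2]; exact hb
  · have h1 : n₁ ∉ I := h.out _ hgw b₁ hb₁ hb11
    have h2 : b₁' = 1 := by
      by_contra h3
      exact h1 (h.reg b₁' hb₁' h3 _ hN1 (h.eq_of_add s6))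
    rw [hgb, h2, mul_one]
    exact hb₁

end TS

end Cfsg.Agent.Omega.NO1.TH

end

section


/-!
# N1, THE END (bb OMEGA 20698, 21741, helper70, helper456): one side

`JJ U H` : the group generated by the members in `H`.  `Sd.one` : **(M1)** a member in `H` is determined by its point
`N ∩ F_A`; `Sd.trans` : `J` is transitive on `I - 0`; `Sd.gen` : `J = ⟨A₁, A₂⟩`; `Sd.split` : `F_B = I + C_V(J)`.
-/

set_option autoImplicit false
set_option linter.unusedSectionVars false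

namespace Cfsg.Agent.Omega.NO1.TH

open Subgroup Cfsg.Agent.Omega.NO1.AB
open scoped Pointwise

universe u

variable {Y : Type u} [Group Y] {V : Type u} [AddCommGroup V] [DistribMulAction Y V]

/-- the group generated by the members in `H` -/
def JJ (U : Set (Subgroup Y)) (H : Subgroup Y) : Subgroup Y :=
  ⨆ A : {A : Subgroup Y // A ∈ U ∧ A ≤ H}, (A : Subgroup Y)

theorem le_JJ {U : Set (Subgroup Y)} {H A : Subgroup Y} (hA : A ∈ U) (hAH : A ≤ H) : A ≤ JJ U H :=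
  le_iSup (fun A : {A : Subgroup Y // A ∈ U ∧ A ≤ H} => (A : Subgroup Y)) ⟨A, hA, hAH⟩

theorem JJ_le_of {U : Set (Subgroup Y)} {H K : Subgroup Y} (h : ∀ A ∈ U, A ≤ H → A ≤ K) : JJ U H ≤ K :=
  iSup_le fun A => h A A.2.1 A.2.2

theorem JJ_le {U : Set (Subgroup Y)} {H : Subgroup Y} : JJ U H ≤ H := JJ_le_of fun _ _ h => h

theorem conj_JJ {U : Set (Subgroup Y)} (hc : Cls V U) {H : Subgroup Y} (x : Y) {j : Y} (hj : j ∈ JJ U H) :
    x * j * x⁻¹ ∈ JJ U (MulAut.conj x • H) := by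
  have h1 : JJ U H ≤ MulAut.conj x⁻¹ • JJ U (MulAut.conj x • H) := by
    apply JJ_le_of
    intro A hA hAH
    rw [← conj_le_iff]
    exact le_JJ (hc.conj A hA x) (conj_le_conj x hAH)
  have h2 := h1 hj
  rw [mem_conj, inv_inv] at h2
  exact h2

theorem conj_JJ' {U : Set (Subgroup Y)} [Finite Y] (hc : Cls V U) {H : Subgroup Y} {x : Y} (hx : x ∈ H) {j : Y}
    (hj : j ∈ JJ U H) : x * j * x⁻¹ ∈ JJ U H := by
  have h1 := conj_JJ hc x hj
  rwa [conj_of_mem (K := H) (x := x) fun k hk => H.mul_mem (H.mul_mem hx hk) (H.inv_mem hx)] at h1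

theorem mem_fx_JJ {U : Set (Subgroup Y)} {H : Subgroup Y} {v : V} (h : ∀ A ∈ U, A ≤ H → v ∈ fx V A) :
    v ∈ fx V (JJ U H) := by
  have h1 : JJ U H ≤ MulAction.stabilizer Y v := JJ_le_of fun A hA hAH a ha => h A hA hAH a ha
  exact fun j hj => h1 hj

theorem conj_le_of {H A : Subgroup Y} {x : Y} (hx : x ∈ H) (hA : A ≤ H) : MulAut.conj x • A ≤ H := by
  intro y hy
  rw [mem_conj] at hy
  have h2 := mul_mem (mul_mem hx (hA hy)) (inv_mem hx)
  have e : x * (x⁻¹ * y * x) * x⁻¹ = y := by group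
  rwa [e] at h2

/-- one side with the class of members -/
structure Sd (V : Type u) [AddCommGroup V] [DistribMulAction Y V] (U : Set (Subgroup Y)) (M H B Q : Subgroup Y)
    (N I : AddSubgroup V) (c : ℕ) : Prop where
  cls : Cls V U
  faith : ∀ y : Y, (∀ v : V, y • v = v) → y = 1
  s : Side V U M H B Q N I c
  hB : B ∈ U
  BH : B ≤ H
  c3 : 3 ≤ c

namespace Sd

variable {U : Set (Subgroup Y)} {M H B Q : Subgroup Y} {N I : AddSubgroup V} {c : ℕ}
  (h : Sd V U M H B Q N I c)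
include h

theorem two (v : V) : v + v = 0 := h.cls.two v

theorem eq_of_add {v v' : V} (hv : v + v' = 0) : v = v' := by
  have h1 : v + v' = v' + v' := by rw [hv, h.two]
  exact add_right_cancel h1

theorem add_eq {v v' w : V} (hv : v + v' = w) : v = w + v' := by
  rw [← hv, add_assoc, h.two, add_zero]

theorem exists_ne0 {A : Subgroup Y} (hA : A ∈ U) (hAH : A ≤ H) : ∃ i ∈ N ⊓ fx V A, i ≠ 0 := by
  by_contra hcon
  push Not at hcon
  have h1 : N ⊓ fx V A = ⊥ := by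
    rw [eq_bot_iff]
    intro x hx
    rw [AddSubgroup.mem_bot]
    exact hcon x hx
  have h2 := h.s.card_pt A hA hAH
  rw [h1] at h2
  have h3 : Nat.card (⊥ : AddSubgroup V) = 1 := by simp
  have := h.c3
  omega

theorem exists_out {A : Subgroup Y} (hA : A ∈ U) (hAH : A ≤ H) : ∃ n ∈ N, n ∉ fx V A := by
  by_contra hcon
  push Not at hcon
  have h1 : N ⊓ fx V A = N := inf_eq_left.2 hcon
  have h2 := h.s.card_pt A hA hAH
  rw [h1, h.s.card_N] at h2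
  have := h.c3
  nlinarith

theorem not_mem {A A₂ : Subgroup Y} (hop : N ⊓ fx V A ⊓ fx V A₂ = ⊥) {n : V} (hn : n ∈ N) (hnA : n ∈ fx V A)
    (hn0 : n ≠ 0) : n ∉ fx V A₂ := by
  intro h1
  apply hn0
  have h2 : n ∈ N ⊓ fx V A ⊓ fx V A₂ := ⟨⟨hn, hnA⟩, h1⟩
  rw [hop, AddSubgroup.mem_bot] at h2
  exact h2

omit h in
theorem op_symm {A A₂ : Subgroup Y} (hop : N ⊓ fx V A ⊓ fx V A₂ = ⊥) : N ⊓ fx V A₂ ⊓ fx V A = ⊥ := by
  rw [inf_right_comm]; exact hop

theorem sup_eq [Finite V] {A A₂ : Subgroup Y} (hA : A ∈ U) (hAH : A ≤ H) (hA₂ : A₂ ∈ U) (hAH₂ : A₂ ≤ H)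
    (hop : N ⊓ fx V A ⊓ fx V A₂ = ⊥) : N ⊓ fx V A ⊔ N ⊓ fx V A₂ = N := by
  apply eq_of_le_as (sup_le inf_le_left inf_le_left)
  have h1 := card_sup_as (N ⊓ fx V A) (N ⊓ fx V A₂)
  have h2 : N ⊓ fx V A ⊓ (N ⊓ fx V A₂) = ⊥ := by
    rw [eq_bot_iff, ← hop]
    exact le_inf inf_le_left (inf_le_right.trans inf_le_right)
  have h3 : Nat.card (⊥ : AddSubgroup V) = 1 := by simp
  rw [h2, h.s.card_pt A hA hAH, h.s.card_pt A₂ hA₂ hAH₂, h3, mul_one] at h1
  rw [h.s.card_N, h1]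

/-- an opposite member -/
theorem exists_op {A : Subgroup Y} (hA : A ∈ U) (hAH : A ≤ H) :
    ∃ A₂ ∈ U, A₂ ≤ H ∧ N ⊓ fx V A ⊓ fx V A₂ = ⊥ := by
  obtain ⟨A₁, hA₁, hAH₁, hAM⟩ := h.s.opp
  have h1 : N ⊓ fx V A₁ ≠ I := fun h2 => hAM ((h.s.le_M A₁ hA₁ hAH₁).2 h2)
  by_cases h2 : N ⊓ fx V A = I
  · refine ⟨A₁, hA₁, hAH₁, ?_⟩
    rcases h.s.pt A hA hAH A₁ hA₁ hAH₁ with h3 | h3
    · exact absurd (h3.symm.trans h2) h1
    · exact h3
  · refine ⟨B, h.hB, h.BH, ?_⟩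
    rcases h.s.pt A hA hAH B h.hB h.BH with h3 | h3
    · exact absurd (h3.trans h.s.I_eq) h2
    · exact h3

/-- `J` centralises `Q` -/
theorem JQ {j : Y} (hj : j ∈ JJ U H) {q : Y} (hq : q ∈ Q) : j * q = q * j := by
  have h1 : JJ U H ≤ centralizer (Q : Set Y) := by
    apply JJ_le_of
    intro A hA hAH a ha
    rw [mem_centralizer_iff]
    intro y hy
    exact (h.cls.mem A hA).comm _ (h.s.Q_le A hA hAH hy) _ ha
  have h2 := h1 hj
  rw [mem_centralizer_iff] at h2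
  exact (h2 q hq).symm

/-- `J` is irreducible on `N` -/
theorem irr [Finite V] (N₀ : AddSubgroup V) (h0 : N₀ ≤ N) (hJ : ∀ j ∈ JJ U H, ∀ n ∈ N₀, j • n ∈ N₀) :
    N₀ = ⊥ ∨ N₀ = N := by
  by_cases hbot : N₀ = ⊥
  · exact Or.inl hbot
  right
  obtain ⟨n, hn, hn0⟩ : ∃ n ∈ N₀, n ≠ 0 := by
    by_contra hcon
    push Not at hcon
    exact hbot (eq_bot_iff.2 fun x hx => AddSubgroup.mem_bot.2 (hcon x hx))
  have key : ∀ A ∈ U, A ≤ H → (∃ n ∈ N₀, n ∉ fx V A) → N ⊓ fx V A ≤ N₀ := by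
    rintro A hA hAH ⟨n, hn, hnA⟩ i hi
    obtain ⟨a, ha, hai⟩ := h.s.reg A hA hAH n (h0 hn) hnA i hi
    rw [← hai]
    exact add_mem (hJ a (le_JJ hA hAH ha) n hn) hn
  obtain ⟨A₂, hA₂, hAH₂, hop⟩ := h.exists_op h.hB h.BH
  have hsup := h.sup_eq h.hB h.BH hA₂ hAH₂ hop
  apply le_antisymm h0
  have h1 : N ⊓ fx V B ≤ N₀ ∨ N ⊓ fx V A₂ ≤ N₀ := by
    by_cases hnB : n ∈ fx V B
    · right
      exact key A₂ hA₂ hAH₂ ⟨n, hn, h.not_mem hop (h0 hn) hnB hn0⟩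
    · left
      exact key B h.hB h.BH ⟨n, hn, hnB⟩
  rw [← hsup]
  rcases h1 with h1 | h1
  · refine sup_le h1 (key A₂ hA₂ hAH₂ ?_)
    obtain ⟨i, hi, hi0⟩ := h.exists_ne0 h.hB h.BH
    exact ⟨i, h1 hi, h.not_mem hop hi.1 hi.2 hi0⟩
  · refine sup_le (key B h.hB h.BH ?_) h1
    obtain ⟨i, hi, hi0⟩ := h.exists_ne0 hA₂ hAH₂
    exact ⟨i, h1 hi, h.not_mem (op_symm hop) hi.1 hi.2 hi0⟩

/-- the field structure for each member -/
theorem fs [Finite V] {A : Subgroup Y} (hA : A ∈ U) (hAH : A ≤ H) : FS (JJ U H) A Q N (N ⊓ fx V A) c where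
  two := h.two
  NJ := fun j hj n hn => h.s.N_H j (JJ_le hj) n hn
  irr := h.irr
  JQ := fun j hj q hq => h.JQ hj hq
  BJ := le_JJ hA hAH
  QB := h.s.Q_le A hA hAH
  card_Q := h.s.card_Q
  card_I := h.s.card_pt A hA hAH
  mem_I := fun v => Iff.rfl
  QN := h.s.fix
  VQ := h.s.comm
  onto := h.s.onto
  fix := fun q hq hq1 v hv q₂ hq₂ => by
    obtain ⟨n, hn, f, hf, rfl⟩ := AddSubgroup.mem_sup.1 (h.s.cent q hq hq1 v hv)
    rw [smul_add, h.s.fix q₂ hq₂ n hn, hf q₂ (h.s.QB hq₂)]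
  c_two := by have := h.c3; omega

/-- `N = EE n + I_A` for `n ∈ N - I_A` -/
theorem span [Finite Y] [Finite V] {A : Subgroup Y} (hA : A ∈ U) (hAH : A ≤ H) {n x : V} (hn : n ∈ N)
    (hnA : n ∉ fx V A) (hx : x ∈ N) : ∃ f, Sc (JJ U H) N f ∧ x + f n ∈ N ⊓ fx V A := by
  have fs := h.fs hA hAH
  obtain ⟨i, hi, hi0⟩ := h.exists_ne0 hA hAH
  obtain ⟨b, hb, hbi⟩ := h.s.reg A hA hAH n hn hnA i hi
  have hbQ : b ∉ Q := by
    intro h1
    apply hi0
    rw [← hbi, h.s.fix b h1 n hn, h.two]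
  have hi₂ : b • x + x ∈ N ⊓ fx V A := ⟨add_mem (h.s.N_H b (hAH hb) x hx) hx, h.s.comm_A A hA hAH b hb x hx⟩
  obtain ⟨b₀, hb₀, hb0⟩ := fs.exists_ne
  obtain ⟨f, -, -, hf, -, hfi⟩ := fs.exists_sc hb₀ hb0 hi hi0 hi₂
  refine ⟨f, hf, ?_⟩
  have hfn := hf.mem n hn
  refine ⟨add_mem hx hfn, ?_⟩
  by_contra h1
  apply hbQ
  apply h.s.free A hA hAH b hb _ (add_mem hx hfn) h1
  apply h.eq_of_add
  have h2 : b • f n + f n = b • x + x := by
    rw [← hfi, ← hbi, hf.add _ (h.s.N_H b (hAH hb) n hn) _ hn, hf.comm b (le_JJ hA hAH hb) n hn]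
  rw [smul_add]
  calc b • x + b • f n + (x + f n) = (b • x + x) + (b • f n + f n) := by abel
    _ = 0 := by rw [h2, h.two]

/-- **(M1)**, one inclusion -/
theorem one_le [Finite Y] [Finite V] {A A₂ : Subgroup Y} (hA : A ∈ U) (hAH : A ≤ H) (hA₂ : A₂ ∈ U) (hAH₂ : A₂ ≤ H)
    (hp : N ⊓ fx V A = N ⊓ fx V A₂) : A ≤ A₂ := by
  intro u hu
  obtain ⟨n, hn, hnA⟩ := h.exists_out hA hAH
  have hnA₂ : n ∉ fx V A₂ := by
    intro h1
    apply hnA
    have h2 : n ∈ N ⊓ fx V A₂ := ⟨hn, h1⟩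
    rw [← hp] at h2
    exact h2.2
  have hi : u • n + n ∈ N ⊓ fx V A := ⟨add_mem (h.s.N_H u (hAH hu) n hn) hn, h.s.comm_A A hA hAH u hu n hn⟩
  have hi₂ : u • n + n ∈ N ⊓ fx V A₂ := by rw [← hp]; exact hi
  obtain ⟨a, ha, hau⟩ := h.s.reg A₂ hA₂ hAH₂ n hn hnA₂ _ hi₂
  have hau' : a • n = u • n := add_right_cancel hau
  obtain ⟨k, hk⟩ : ∃ k : Y, k = a⁻¹ * u := ⟨_, rfl⟩
  have hkn : k • n = n := by
    rw [hk, mul_smul, inv_smul_eq_iff, hau']
  have huJ := le_JJ hA hAH hu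
  have haJ := le_JJ hA₂ hAH₂ ha
  have hkJ : k ∈ JJ U H := by
    rw [hk]; exact mul_mem (inv_mem haJ) huJ
  have hfix : ∀ v : V, u • v = v → a • v = v → k • v = v := by
    intro v h1 h2
    rw [hk, mul_smul, inv_smul_eq_iff, h1, h2]
  have hkN : ∀ x ∈ N, k • x = x := by
    intro x hx
    obtain ⟨f, hf, hp1⟩ := h.span hA hAH hn hnA hx
    have hp2 : x + f n ∈ N ⊓ fx V A₂ := by rw [← hp]; exact hp1
    have h1 := hfix _ (hp1.2 u hu) (hp2.2 a ha)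
    rw [smul_add, ← hf.comm k hkJ n hn, hkn] at h1
    exact add_right_cancel h1
  -- `k⁴ = 1`
  obtain ⟨q₀, hq₀, hq0⟩ := (h.fs hA hAH).exists_ne
  have hVX : ∀ v : V, k • v + v ∈ N ⊔ fx V A := by
    intro v
    rw [h.s.NF A hA hAH]
    apply h.s.cent q₀ hq₀ hq0
    rw [smul_add, ← mul_smul, ← h.JQ hkJ hq₀, mul_smul]
    have h1 := hkN _ (h.s.comm q₀ hq₀ v)
    rw [smul_add] at h1
    apply h.eq_of_add
    calc k • q₀ • v + q₀ • v + (k • v + v) = (k • q₀ • v + k • v) + (q₀ • v + v) := by abel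
      _ = 0 := by rw [h1, h.two]
  have hXN : ∀ x ∈ N ⊔ fx V A, k • x + x ∈ N := by
    intro x hx
    obtain ⟨n₁, hn₁, f, hf, rfl⟩ := AddSubgroup.mem_sup.1 hx
    have hf2 : f ∈ N ⊔ fx V A₂ := by
      rw [h.s.NF A₂ hA₂ hAH₂, ← h.s.NF A hA hAH]
      exact AddSubgroup.mem_sup_right hf
    obtain ⟨n₂, hn₂, f₂, hf₂, hff⟩ := AddSubgroup.mem_sup.1 hf2
    have h1 : k • f + f ∈ N := by
      have h2 : k • f = a⁻¹ • f := by
        rw [hk, mul_smul, hf u hu]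
      rw [h2, ← hff, smul_add, hf₂ a⁻¹ (inv_mem ha)]
      have h3 : a⁻¹ • n₂ + f₂ + (n₂ + f₂) = a⁻¹ • n₂ + n₂ := by
        have := h.two f₂
        calc a⁻¹ • n₂ + f₂ + (n₂ + f₂) = a⁻¹ • n₂ + n₂ + (f₂ + f₂) := by abel
          _ = _ := by rw [this, add_zero]
      rw [h3]
      exact add_mem (h.s.N_H _ (inv_mem (hAH₂ ha)) _ hn₂) hn₂
    rw [smul_add, hkN n₁ hn₁]
    have h3 : n₁ + k • f + (n₁ + f) = k • f + f := by
      have := h.two n₁
      calc n₁ + k • f + (n₁ + f) = k • f + f + (n₁ + n₁) := by abel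
        _ = _ := by rw [this, add_zero]
    rw [h3]; exact h1
  have hk4 : k ^ 2 ^ 2 = 1 := by
    apply h.faith
    intro v
    have hs : ∀ w : V, (k * k) • w = w + (k • (k • w + w) + (k • w + w)) := by
      intro w
      rw [mul_smul, smul_add]
      have h1 := h.two (k • w)
      have h2 := h.two w
      calc k • k • w = k • k • w + 0 + 0 := by rw [add_zero, add_zero]
        _ = k • k • w + (k • w + k • w) + (w + w) := by rw [h1, h2]
        _ = _ := by abel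
    obtain ⟨y, hy⟩ : ∃ y : V, y = k • (k • v + v) + (k • v + v) := ⟨_, rfl⟩
    have hyN : y ∈ N := by rw [hy]; exact hXN _ (hVX v)
    have hky : k • y = y := hkN y hyN
    have e : k ^ 2 ^ 2 = (k * k) * (k * k) := by
      change k ^ 4 = _
      simp only [pow_succ, pow_zero, one_mul, mul_assoc]
    rw [e, mul_smul, hs v, ← hy, smul_add, hs v, ← hy, mul_smul, hky, hky]
    rw [add_assoc, h.two, add_zero]
  have hkQ : k ∈ Q := by
    apply h.s.ker k (JJ_le hkJ) ⟨2, hk4⟩ hkN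
    intro v hv
    exact hfix v (hv A hA hAH u hu) (hv A₂ hA₂ hAH₂ a ha)
  have : u = a * k := by rw [hk]; group
  rw [this]
  exact mul_mem ha (h.s.Q_le A₂ hA₂ hAH₂ hkQ)

/-- **(M1)** -/
theorem one [Finite Y] [Finite V] {A A₂ : Subgroup Y} (hA : A ∈ U) (hAH : A ≤ H) (hA₂ : A₂ ∈ U) (hAH₂ : A₂ ≤ H)
    (hp : N ⊓ fx V A = N ⊓ fx V A₂) : A = A₂ := by
  apply eq_of_le_of_card_ge (h.one_le hA hAH hA₂ hAH₂ hp)
  obtain ⟨y, hy⟩ := h.cls.eq A hA A₂ hA₂
  rw [hy, conj_card]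

/-- a common non-zero vector of two points -/
theorem one' [Finite Y] [Finite V] {A A₂ : Subgroup Y} (hA : A ∈ U) (hAH : A ≤ H) (hA₂ : A₂ ∈ U) (hAH₂ : A₂ ≤ H)
    {i : V} (hi : i ∈ N) (hi0 : i ≠ 0) (h1 : i ∈ fx V A) (h2 : i ∈ fx V A₂) : A = A₂ := by
  rcases h.s.pt A hA hAH A₂ hA₂ hAH₂ with h3 | h3
  · exact h.one hA hAH hA₂ hAH₂ h3
  · exact absurd h2 (h.not_mem h3 hi h1 hi0)

theorem op_of_ne [Finite Y] [Finite V] {A A₂ : Subgroup Y} (hA : A ∈ U) (hAH : A ≤ H) (hA₂ : A₂ ∈ U) (hAH₂ : A₂ ≤ H)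
    (hne : A ≠ A₂) : N ⊓ fx V A ⊓ fx V A₂ = ⊥ := by
  rcases h.s.pt A hA hAH A₂ hA₂ hAH₂ with h3 | h3
  · exact absurd (h.one hA hAH hA₂ hAH₂ h3) hne
  · exact h3

/-- `x i ∈ I_A`, `0 ≠ i ∈ I_A` : `x` normalises `A` -/
theorem norm_of [Finite Y] [Finite V] {A : Subgroup Y} (hA : A ∈ U) (hAH : A ≤ H) {x : Y} (hx : x ∈ H) {i : V}
    (hi : i ∈ N ⊓ fx V A) (hi0 : i ≠ 0) (hxi : x • i ∈ fx V A) : MulAut.conj x • A = A := by
  apply h.one' (h.cls.conj A hA x) (conj_le_of hx hAH) hA hAH (h.s.N_H x hx i hi.1) _ _ hxi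
  · intro h1
    apply hi0
    rw [← smul_zero x, smul_left_cancel_iff] at h1
    exact h1
  · rw [fx_conj]
    exact smul_mem_smul_as hi.2

/-- a third point -/
theorem exists_third [Finite Y] [Finite V] {A : Subgroup Y} (hA : A ∈ U) (hAH : A ≤ H) :
    ∃ A₁ ∈ U, A₁ ≤ H ∧ ∃ A₃ ∈ U, A₃ ≤ H ∧ N ⊓ fx V A ⊓ fx V A₁ = ⊥ ∧ N ⊓ fx V A ⊓ fx V A₃ = ⊥ ∧
      N ⊓ fx V A₁ ⊓ fx V A₃ = ⊥ := by
  obtain ⟨A₁, hA₁, hAH₁, hop⟩ := h.exists_op hA hAH
  obtain ⟨n, hn, hn0⟩ := h.exists_ne0 hA₁ hAH₁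
  obtain ⟨i, hi, hi0⟩ := h.exists_ne0 hA hAH
  have hnA := h.not_mem (op_symm hop) hn.1 hn.2 hn0
  obtain ⟨b, hb, hbi⟩ := h.s.reg A hA hAH n hn.1 hnA i hi
  have hb' : b • n = i + n := h.add_eq hbi
  have hbH := hAH hb
  have hA₃ := h.cls.conj A₁ hA₁ b
  have hAH₃ : MulAut.conj b • A₁ ≤ H := conj_le_of hbH hAH₁
  have hm : i + n ∈ fx V (MulAut.conj b • A₁) := by
    rw [← hb', fx_conj]; exact smul_mem_smul_as hn.2
  have hin : i + n ∈ N := add_mem hi.1 hn.1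
  have hin0 : i + n ≠ 0 := fun h1 => hnA (by rw [← h.eq_of_add h1]; exact hi.2)
  refine ⟨A₁, hA₁, hAH₁, _, hA₃, hAH₃, hop, ?_, ?_⟩
  · rcases h.s.pt A hA hAH _ hA₃ hAH₃ with h3 | h3
    · exfalso
      have h4 : i + n ∈ N ⊓ fx V (MulAut.conj b • A₁) := ⟨hin, hm⟩
      rw [← h3] at h4
      apply hnA
      have h5 := (fx V A).add_mem hi.2 h4.2
      rw [← add_assoc, h.two, zero_add] at h5
      exact h5
    · exact h3
  · rcases h.s.pt A₁ hA₁ hAH₁ _ hA₃ hAH₃ with h3 | h3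
    · exfalso
      have h4 : i + n ∈ N ⊓ fx V (MulAut.conj b • A₁) := ⟨hin, hm⟩
      rw [← h3] at h4
      have h5 := (fx V A₁).add_mem h4.2 hn.2
      rw [add_assoc, h.two, add_zero] at h5
      exact h.not_mem hop hi.1 hi.2 hi0 h5
    · exact h3

/-- `J` is transitive on `I_A - 0` -/
theorem trans [Finite Y] [Finite V] {A : Subgroup Y} (hA : A ∈ U) (hAH : A ≤ H) {i₁ i₂ : V} (h1 : i₁ ∈ N ⊓ fx V A)
    (h10 : i₁ ≠ 0) (h2 : i₂ ∈ N ⊓ fx V A) (h20 : i₂ ≠ 0) : ∃ j ∈ JJ U H, j • i₁ = i₂ := by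
  obtain ⟨A₁, hA₁, hAH₁, A₃, hA₃, hAH₃, ho1, ho3, ho13⟩ := h.exists_third hA hAH
  have hs := h.sup_eq hA₁ hAH₁ hA₃ hAH₃ ho13
  have h12 : i₁ + i₂ ∈ N ⊓ fx V A₁ ⊔ N ⊓ fx V A₃ := by
    rw [hs]; exact add_mem h1.1 h2.1
  obtain ⟨x, hx, y, hy, hxy⟩ := AddSubgroup.mem_sup.1 h12
  obtain ⟨a₁, ha₁, ha₁x⟩ := h.s.reg A₁ hA₁ hAH₁ i₁ h1.1 (h.not_mem ho1 h1.1 h1.2 h10) x hx
  have e1 : a₁ • i₁ = x + i₁ := h.add_eq ha₁x
  have e2 : x + i₁ = y + i₂ := by
    apply h.eq_of_add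
    calc x + i₁ + (y + i₂) = (x + y) + (i₁ + i₂) := by abel
      _ = 0 := by rw [hxy, h.two]
  have hout : x + i₁ ∉ fx V A₃ := by
    intro h3
    rw [e2] at h3
    have h4 := (fx V A₃).add_mem hy.2 h3
    rw [← add_assoc, h.two, zero_add] at h4
    exact h.not_mem ho3 h2.1 h2.2 h20 h4
  obtain ⟨a₃, ha₃, ha₃y⟩ := h.s.reg A₃ hA₃ hAH₃ (x + i₁) (add_mem hx.1 h1.1) hout y hy
  refine ⟨a₃ * a₁, mul_mem (le_JJ hA₃ hAH₃ ha₃) (le_JJ hA₁ hAH₁ ha₁), ?_⟩
  rw [mul_smul, e1, h.add_eq ha₃y, e2, ← add_assoc, h.two, zero_add]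

/-- `J = ⟨A₁, A₂⟩` -/
theorem gen [Finite Y] [Finite V] {A₁ A₂ : Subgroup Y} (hA₁ : A₁ ∈ U) (hAH₁ : A₁ ≤ H) (hA₂ : A₂ ∈ U) (hAH₂ : A₂ ≤ H)
    (hne : A₁ ≠ A₂) : JJ U H = A₁ ⊔ A₂ := by
  apply le_antisymm _ (sup_le (le_JJ hA₁ hAH₁) (le_JJ hA₂ hAH₂))
  apply JJ_le_of
  intro A hA hAH
  by_cases h1 : A = A₁
  · rw [h1]; exact le_sup_left
  by_cases h2 : A = A₂
  · rw [h2]; exact le_sup_right
  have o1 := h.op_of_ne hA hAH hA₁ hAH₁ h1
  have o2 := h.op_of_ne hA hAH hA₂ hAH₂ h2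
  have o12 := h.op_of_ne hA₁ hAH₁ hA₂ hAH₂ hne
  obtain ⟨n, hn, hn0⟩ := h.exists_ne0 hA₂ hAH₂
  have hs := h.sup_eq hA₁ hAH₁ hA hAH (op_symm o1)
  have hn' : n ∈ N ⊓ fx V A₁ ⊔ N ⊓ fx V A := by rw [hs]; exact hn.1
  obtain ⟨i, hi, x, hx, hix⟩ := AddSubgroup.mem_sup.1 hn'
  have hnA₁ := h.not_mem (op_symm o12) hn.1 hn.2 hn0
  obtain ⟨b, hb, hbi⟩ := h.s.reg A₁ hA₁ hAH₁ n hn.1 hnA₁ i hi
  have hbn : b • n = x := by
    rw [h.add_eq hbi, ← hix, ← add_assoc, h.two, zero_add]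
  have hx0 : x ≠ 0 := by
    rintro rfl
    apply hnA₁
    rw [← hix, add_zero]
    exact hi.2
  have h3 : MulAut.conj b • A₂ = A := by
    apply h.one' (h.cls.conj A₂ hA₂ b) (conj_le_of (hAH₁ hb) hAH₂) hA hAH hx.1 hx0 _ hx.2
    rw [← hbn, fx_conj]
    exact smul_mem_smul_as hn.2
  rw [← h3]
  exact conj_le_of (mem_sup_left hb) le_sup_right

/-- `F_B = I_B + C_V(J)` -/
theorem split [Finite Y] [Finite V] {A : Subgroup Y} (hA : A ∈ U) (hAH : A ≤ H) {v : V} (hv : v ∈ fx V A) :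
    ∃ i ∈ N ⊓ fx V A, v + i ∈ fx V (JJ U H) := by
  obtain ⟨A₁, hA₁, hAH₁, hop⟩ := h.exists_op hA hAH
  have hne : A ≠ A₁ := by
    rintro rfl
    obtain ⟨i, hi, hi0⟩ := h.exists_ne0 hA hAH
    exact h.not_mem hop hi.1 hi.2 hi0 hi.2
  have h1 : v ∈ N ⊔ fx V A₁ := by
    rw [h.s.NF A₁ hA₁ hAH₁, ← h.s.NF A hA hAH]
    exact AddSubgroup.mem_sup_right hv
  obtain ⟨n, hn, f, hf, rfl⟩ := AddSubgroup.mem_sup.1 h1
  have hs := h.sup_eq hA hAH hA₁ hAH₁ hop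
  rw [← hs] at hn
  obtain ⟨i, hi, i₁, hi₁, rfl⟩ := AddSubgroup.mem_sup.1 hn
  refine ⟨i, hi, ?_⟩
  have h2 : i + i₁ + f + i ∈ fx V A := add_mem hv hi.2
  have h3 : i + i₁ + f + i ∈ fx V A₁ := by
    have : i + i₁ + f + i = i₁ + f := by
      have := h.two i
      calc i + i₁ + f + i = i₁ + f + (i + i) := by abel
        _ = _ := by rw [this, add_zero]
    rw [this]
    exact add_mem hi₁.2 hf
  have h4 : JJ U H ≤ MulAction.stabilizer Y (i + i₁ + f + i) := by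
    rw [h.gen hA hAH hA₁ hAH₁ hne]
    exact sup_le (fun a ha => h2 a ha) fun a ha => h3 a ha
  exact fun j hj => h4 hj

end Sd

end Cfsg.Agent.Omega.NO1.TH

end

section


/-!
# N1, THE END (bb OMEGA 20698, 21741, helper70, helper456): `C_V(H) = 0` and the output

`EndS.fx_bot` : `C_V(H) = 0`; `EndS.fin` : the output `Fin V U T M` (case BETA, `L = J`).
-/

set_option autoImplicit false
set_option linter.unusedSectionVars false

namespace Cfsg.Agent.Omega.NO1.TH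

open Subgroup Cfsg.Agent.Omega.NO1.AB
open scoped Pointwise

universe u

variable {Y : Type u} [Group Y] {V : Type u} [AddCommGroup V] [DistribMulAction Y V]

/-- `R` is Sylow in `X`: every 2-subgroup of `X` is conjugate into `R` -/
theorem conj_into_of_card [Finite Y] {X R S : Subgroup Y} (hRX : R ≤ X) (hR : IsPGroup 2 R)
    (hmax : ∀ S ≤ X, IsPGroup 2 S → Nat.card S ≤ Nat.card R) (hS : S ≤ X) (hS2 : IsPGroup 2 S) :
    ∃ x ∈ X, ∀ s ∈ S, x⁻¹ * s * x ∈ R := by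
  have : Fact (Nat.Prime 2) := ⟨Nat.prime_two⟩
  have hR' : IsPGroup 2 (R.subgroupOf X) := hR.comap_of_injective X.subtype Subtype.coe_injective
  have hS' : IsPGroup 2 (S.subgroupOf X) := hS2.comap_of_injective X.subtype Subtype.coe_injective
  obtain ⟨P, hP⟩ := hR'.exists_le_sylow
  obtain ⟨Q, hQ⟩ := hS'.exists_le_sylow
  have hPR : (P : Subgroup X) = R.subgroupOf X := by
    symm
    apply eq_of_le_of_card_ge hP
    have h2 := hmax _ (map_subtype_le (P : Subgroup X)) (P.2.map X.subtype)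
    rw [Nat.card_congr ((P : Subgroup X).equivMapOfInjective _ X.subtype_injective).symm.toEquiv] at h2
    rwa [Nat.card_congr (subgroupOfEquivOfLe hRX).toEquiv]
  obtain ⟨k, hk⟩ := MulAction.exists_smul_eq X P Q
  refine ⟨k, k.2, fun r hr => ?_⟩
  have h1 : (⟨r, hS hr⟩ : X) ∈ (Q : Subgroup X) := hQ (mem_subgroupOf.mpr hr)
  rw [← hk, Sylow.coe_subgroup_smul, Subgroup.mem_pointwise_smul_iff_inv_smul_mem] at h1
  have h2 : ((k⁻¹ * ⟨r, hS hr⟩ * k : X)) ∈ (P : Subgroup X) := by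
    have h3 : (MulAut.conj k)⁻¹ • (⟨r, hS hr⟩ : X) = k⁻¹ * ⟨r, hS hr⟩ * k := by
      rw [← map_inv, MulAut.smul_def, MulAut.conj_apply, inv_inv]
    rwa [h3] at h1
  rw [hPR] at h2
  exact h2

namespace EndS

variable {U : Set (Subgroup Y)} {T : Sylow 2 Y} {M H H' R B Q Q' : Subgroup Y} {N N' I : AddSubgroup V} {c : ℕ}
  {t : Y} (h : EndS V U T M H H' R B Q Q' N N' I c t)
include h

theorem sw : EndS V U T M H' H R B Q' Q N' N I c t :=
  h.swap fun q hq q' hq' => (h.amb.cls.mem B h.hB).comm q (h.s.QB hq) q' (h.s'.QB hq')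

theorem two (v : V) : v + v = 0 := h.amb.cls.two v

theorem eq_of_add {v v' : V} (hv : v + v' = 0) : v = v' := by
  have h1 : v + v' = v' + v' := by rw [hv, h.two]
  exact add_right_cancel h1

theorem sd : Sd V U M H B Q N I c where
  cls := h.amb.cls
  faith := h.amb.faith
  s := h.s
  hB := h.hB
  BH := h.BR.trans h.a.RH
  c3 := by have := h.four; omega

theorem fs [Finite V] : FS (JJ U H) B Q N I c := by
  have := h.sd.fs h.hB h.sd.BH
  rwa [h.s.I_eq] at this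

theorem NB {b : Y} (hb : b ∈ B) {n : V} (hn : n ∈ N) : b • n + n ∈ I := by
  rw [← h.s.I_eq]
  exact ⟨add_mem (h.s.N_H b (h.sd.BH hb) n hn) hn, h.s.comm_A B h.hB h.sd.BH b hb n hn⟩

theorem reg {q : Y} (hq : q ∈ Q') (hq1 : q ≠ 1) {n : V} (hn : n ∈ N) (hqn : q • n = n) : n ∈ I := by
  rw [← h.s.I_eq]
  refine ⟨hn, ?_⟩
  by_contra h1
  apply hq1
  have h2 := h.s.free B h.hB h.sd.BH q (h.s'.QB hq) n hn h1 hqn
  have h3 : q ∈ Q ⊓ Q' := ⟨h2, hq⟩
  rw [h.QQ', mem_bot] at h3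
  exact h3

theorem IN : I ≤ N := by rw [← h.s.I_eq]; exact inf_le_left

theorem IF : I ≤ fx V B := by rw [← h.s.I_eq]; exact inf_le_right

theorem XE [Finite V] {v : V} (hv : ∀ q ∈ Q, q • v = v) : v ∈ Ee V B := by
  obtain ⟨q₀, hq₀, hq0⟩ := h.fs.exists_ne
  rw [h.E_eq]
  exact sup_le_sup_right (le_sup_left : N ≤ N ⊔ N') _ (h.s.cent q₀ hq₀ hq0 v (hv q₀ hq₀))

/-- `[w, q] ∉ I` for `w ∉ E` -/
theorem out [Finite Y] [Finite V] {w : V} (hw : w ∉ Ee V B) {q : Y} (hq : q ∈ Q) (hq1 : q ≠ 1) :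
    q • w + w ∉ I := by
  intro h1
  -- `n' ∈ N'` with `[n', q] = [w, q]`
  obtain ⟨n, hn, hnB⟩ := h.sw.sd.exists_out h.hB h.sw.sd.BH
  have hi : q • n + n ∈ I := h.sw.NB (h.s.QB hq) hn
  have hi0 : q • n + n ≠ 0 := by
    intro h2
    have h3 := h.sw.reg hq hq1 hn (h.eq_of_add h2)
    exact hnB (h.IF h3)
  obtain ⟨b₀, hb₀, hb0⟩ := h.sw.fs.exists_ne
  obtain ⟨f, -, -, hf, -, hfi⟩ := h.sw.fs.exists_sc hb₀ hb0 hi hi0 h1
  have hqJ : q ∈ JJ U H' := h.sw.fs.BJ (h.s.QB hq)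
  have h2 : q • f n + f n = q • w + w := by
    rw [← hfi, hf.add _ (h.sw.fs.NJ q hqJ n hn) _ hn, hf.comm q hqJ n hn]
  have h3 : q • (w + f n) = w + f n := by
    apply h.eq_of_add
    rw [smul_add]
    calc q • w + q • f n + (w + f n) = (q • f n + f n) + (q • w + w) := by abel
      _ = 0 := by rw [h2, h.two]
  have h4 : w + f n ∈ Ee V B := by
    rw [h.E_eq]
    exact sup_le_sup_right (le_sup_left : N ≤ N ⊔ N') _ (h.s.cent q hq hq1 _ h3)
  have h5 : f n ∈ Ee V B := by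
    rw [h.E_eq]
    exact AddSubgroup.mem_sup_left (AddSubgroup.mem_sup_right (hf.mem n hn))
  apply hw
  have h6 := (Ee V B).add_mem h4 h5
  rwa [add_assoc, h.two, add_zero] at h6

/-- **the two sides** -/
theorem ts [Finite Y] [Finite V] : TS (JJ U H) (JJ U H') B Q Q' N N' I (Ee V B) (fx V B) c where
  s := h.fs
  s' := h.sw.fs
  mem := h.amb.cls.mem B h.hB
  BQQ := h.mul
  QQ1 := fun q hq hq' => by
    have h3 : q ∈ Q ⊓ Q' := ⟨hq, hq'⟩
    rw [h.QQ', mem_bot] at h3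
    exact h3
  NB := fun b hb n hn => h.NB hb hn
  NB' := fun b hb n hn => h.sw.NB hb hn
  reg := fun q hq hq1 n hn hqn => h.reg hq hq1 hn hqn
  reg' := fun q hq hq1 n hn hqn => h.sw.reg hq hq1 hn hqn
  out := fun w hw q hq hq1 => h.out hw hq hq1
  out' := fun w hw q hq hq1 => h.sw.out hw hq hq1
  EX := fun v hv => by
    rw [h.E_eq] at hv
    obtain ⟨m, hm, f, hf, rfl⟩ := AddSubgroup.mem_sup.1 hv
    obtain ⟨n, hn, n', hn', rfl⟩ := AddSubgroup.mem_sup.1 hm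
    refine ⟨n + f, n', fun q hq => ?_, fun q hq => h.s'.fix q hq n' hn', by abel⟩
    rw [smul_add, h.s.fix q hq n hn, hf q (h.s.QB hq)]
  XE := fun v hv => h.XE hv
  XE' := fun v hv => h.sw.XE hv

/-- **THEOREM** -/
theorem norm [Finite Y] [Finite V] {g : Y} (hg : g ∈ JJ U H') (hgB : MulAut.conj g • B = B) :
    ∀ q ∈ Q, g * q * g⁻¹ ∈ Q := by
  apply h.ts.norm (by have := h.four; omega) hg
  · intro b hb
    have := conj_mem_conj (g := g) hb
    rwa [hgB] at this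
  · intro v hv hgv
    apply hv
    rw [← hgB, Ee_conj, mem_smul_as, inv_smul_smul] at hgv
    exact hgv

/-- `t I = I` -/
theorem tI {i : V} (hi : i ∈ I) : t⁻¹ • i ∈ I := by
  rw [← h.NN', AddSubgroup.mem_inf] at hi ⊢
  refine ⟨?_, ?_⟩
  · have h1 := hi.2
    rw [h.N'_eq, mem_smul_as] at h1
    exact h1
  · have h1 := hi.1
    rw [h.N_eq, mem_smul_as] at h1
    exact h1

theorem tB' [Finite Y] : MulAut.conj t • B = B := conj_of_mem h.tB

/-- an element of `J` which moves all non-zero elements of `I` -/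
theorem exists_j [Finite Y] [Finite V] :
    ∃ j ∈ JJ U H, MulAut.conj j • B = B ∧ (∀ i ∈ I, i ≠ 0 → j • i ≠ i) ∧ ∃ f, Sc (JJ U H) N f ∧ ∀ i ∈ I, j • i = f i := by
  obtain ⟨i₁, hi₁, hi10⟩ := h.fs.exists_i0
  obtain ⟨i₂, hi₂, hi20, hi21⟩ : ∃ i₂ ∈ I, i₂ ≠ 0 ∧ i₂ ≠ i₁ := by
    by_contra hcon
    push Not at hcon
    have h1 : (I : Set V) ⊆ {0, i₁} := by
      intro x hx
      by_cases hx0 : x = 0
      · left; exact hx0
      · right; exact hcon x hx hx0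
    have h2 : Nat.card I ≤ 2 := by
      have h3 := Set.ncard_le_ncard h1 (Set.toFinite _)
      have h4 : ({0, i₁} : Set V).ncard ≤ 2 := Set.ncard_insert_le _ _ |>.trans (by simp)
      have h5 : Nat.card I = (I : Set V).ncard := rfl
      omega
    rw [h.s.card_I] at h2
    have := h.four
    omega
  have hi₁' : i₁ ∈ N ⊓ fx V B := by rw [h.s.I_eq]; exact hi₁
  have hi₂' : i₂ ∈ N ⊓ fx V B := by rw [h.s.I_eq]; exact hi₂
  obtain ⟨j, hj, hj1⟩ := h.sd.trans h.hB h.sd.BH hi₁' hi10 hi₂' hi20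
  have hji : j • i₁ ∈ I := by rw [hj1]; exact hi₂
  obtain ⟨f, hf, hfj⟩ := h.fs.smul_I hj hi₁ hi10 hji
  refine ⟨j, hj, h.sd.norm_of h.hB h.sd.BH (JJ_le hj) hi₁' hi10 (h.IF hji), ?_, f, hf, hfj⟩
  intro i hi hi0 h1
  apply hi21
  have h2 := h.fs.inj (hf.addd Sc.id) (h.IN hi) hi0 (by
    rw [← hfj i hi, h1, h.two]) _ (h.IN hi₁)
  rw [← hfj i₁ hi₁, hj1] at h2
  exact h.eq_of_add h2

/-- `C_R(B) = B` -/
theorem cent_R [Finite Y] [Finite V] {r : Y} (hr : r ∈ R) (hrB : ∀ b ∈ B, r * b = b * r) : r ∈ B := by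
  apply h.P_eq r hr
  have hRH := h.a.RH
  -- `R` normalises `B`
  have hRB : ∀ x ∈ R, MulAut.conj x • B = B := fun x hx =>
    h.uniq _ (h.amb.cls.conj B h.hB x) (conj_le_of hx h.BR)
  have hRI : ∀ x ∈ R, ∀ i ∈ I, x • i ∈ I := by
    intro x hx i hi
    rw [← h.s.I_eq] at hi ⊢
    refine ⟨h.s.N_H x (hRH hx) i hi.1, ?_⟩
    rw [← hRB x hx, fx_conj]
    exact smul_mem_smul_as hi.2
  obtain ⟨n, hn, hnI, hnR⟩ := exists_fixed_mod h.two h.a.R2 N I (fun x hx n hn => h.s.N_H x (hRH hx) n hn) hRI (by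
    obtain ⟨n, hn, hnB⟩ := h.sd.exists_out h.hB h.sd.BH
    exact ⟨n, hn, fun h1 => hnB (h.IF h1)⟩)
  have hnB : n ∉ fx V B := fun h1 => hnI (by rw [← h.s.I_eq]; exact ⟨hn, h1⟩)
  intro i hi
  have hi' : i ∈ N ⊓ fx V B := by rw [h.s.I_eq]; exact hi
  obtain ⟨b, hb, rfl⟩ := h.s.reg B h.hB h.sd.BH n hn hnB i hi'
  have h1 := h.IF (hnR r hr) b hb
  have h2 : b • r • n = r • b • n := by
    rw [← mul_smul, ← mul_smul, hrB b hb]
  rw [smul_add, h2] at h1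
  rw [smul_add]
  apply h.eq_of_add
  calc r • b • n + r • n + (b • n + n) = (r • b • n + b • n) + (r • n + n) := by abel
    _ = 0 := by rw [h1, h.two]

/-- **`C_V(H) = 0`** (4'') -/
theorem fx_bot [Finite Y] [Finite V] : fx V H = ⊥ := by
  have h2 : Fact (Nat.Prime 2) := ⟨Nat.prime_two⟩
  rw [eq_bot_iff]
  intro w hw
  rw [AddSubgroup.mem_bot]
  by_contra hw0
  have hwB : w ∈ fx V B := fx_mono h.sd.BH hw
  obtain ⟨i₀, hi₀, hi₀J⟩ := h.sw.sd.split h.hB h.sw.sd.BH hwB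
  rw [h.s'.I_eq] at hi₀
  -- `i₀ ≠ 0`
  have hi0 : i₀ ≠ 0 := by
    rintro rfl
    rw [add_zero] at hi₀J
    have h1 : w ∈ fx V H' := by
      obtain ⟨A, hA, hAH, hAM⟩ := h.s'.opp
      have h3 : H' ≤ MulAction.stabilizer Y w := by
        rw [← h.a'.gen hAH hAM]
        exact sup_le (fun r hr => hw r (h.a.RH hr)) (fun x hx => hi₀J x (le_JJ hA hAH hx))
      exact fun y hy => h3 hy
    rw [h.H'_eq, fx_conj, mem_smul_as] at h1
    have h3 := h.a.C_inf h.amb h1 (by rw [smul_inv_smul]; exact hw)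
    apply hw0
    rw [← smul_inv_smul t w, h3, smul_zero]
  obtain ⟨j, hj, hjB, hjI, f, hf, hfj⟩ := h.exists_j
  -- `j' = t j t⁻¹`
  obtain ⟨j', hj'⟩ : ∃ j' : Y, j' = t * j * t⁻¹ := ⟨_, rfl⟩
  have hj'J : j' ∈ JJ U H' := by
    rw [hj', h.H'_eq]
    exact conj_JJ h.amb.cls t hj
  have hj'B : MulAut.conj j' • B = B := by
    have htB := h.tB'
    have htB' : MulAut.conj t⁻¹ • B = B := by
      rw [← htB, conj_inv_smul', htB]
    have e : j' = t * (j * t⁻¹) := by rw [hj', mul_assoc]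
    rw [e, ← conj_smul_smul, ← conj_smul_smul, htB', hjB, htB]
  have hj's : ∀ v : V, j' • v = t • j • t⁻¹ • v := by
    intro v
    rw [hj', mul_smul, mul_smul]
  have hj'I : ∀ i ∈ I, i ≠ 0 → j' • i ≠ i := by
    intro i hi hi0 h1
    apply hjI _ (h.tI hi) (fun h3 => hi0 (by rw [← smul_inv_smul t i, h3, smul_zero]))
    rw [hj's, ← eq_inv_smul_iff] at h1
    exact h1
  have hj'mem : ∀ i ∈ I, j' • i ∈ I := by
    intro i hi
    have hi' : i ∈ N' ⊓ fx V B := by rw [h.s'.I_eq]; exact hi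
    rw [← h.s'.I_eq]
    refine ⟨h.s'.N_H _ (JJ_le hj'J) _ hi'.1, ?_⟩
    rw [← hj'B, fx_conj]
    exact smul_mem_smul_as hi'.2
  have hjmem : ∀ i ∈ I, j • i ∈ I := by
    intro i hi
    rw [hfj i hi]
    exact h.fs.sc_I hf hi
  obtain ⟨i₁, hi₁, hi10⟩ := h.fs.exists_i0
  obtain ⟨f', hf', hfj'⟩ := h.sw.fs.smul_I hj'J hi₁ hi10 (hj'mem i₁ hi₁)
  -- `f' = f₂` on `I`
  obtain ⟨f₂, hf₂, hff₂⟩ := h.sw.ts.exists_sc' hf'
  have hcomm : ∀ i ∈ I, j • j' • i = j' • j • i := by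
    intro i hi
    rw [hfj _ (hj'mem i hi), hfj' i hi, hff₂ i hi, hfj i hi, hfj' _ (h.fs.sc_I hf hi), hff₂ _ (h.fs.sc_I hf hi)]
    exact h.fs.sc_comm hf hf₂ i (h.IN hi)
  -- normalising
  have n1 : ∀ q ∈ Q, j' * q * j'⁻¹ ∈ Q := h.norm hj'J hj'B
  have n2 : ∀ q ∈ Q', j * q * j⁻¹ ∈ Q' := h.sw.norm hj hjB
  have nc1 : MulAut.conj j' • Q = Q := conj_of_mem n1
  have nc2 : MulAut.conj j • Q' = Q' := conj_of_mem n2
  have n1' : ∀ q ∈ Q, j'⁻¹ * q * j' ∈ Q := by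
    intro q hq
    rw [← nc1, mem_conj] at hq
    exact hq
  have n2' : ∀ q ∈ Q', j⁻¹ * q * j ∈ Q' := by
    intro q hq
    rw [← nc2, mem_conj] at hq
    exact hq
  have cQ : ∀ q ∈ Q, j * q * j⁻¹ = q := by
    intro q hq
    rw [h.sd.JQ hj hq]; group
  have cQ' : ∀ q ∈ Q', j' * q * j'⁻¹ = q := by
    intro q hq
    rw [h.sw.sd.JQ hj'J hq]; group
  have cQi : ∀ q ∈ Q, j⁻¹ * q * j = q := by
    intro q hq
    have := cQ q hq
    calc j⁻¹ * q * j = j⁻¹ * (j * q * j⁻¹) * j := by rw [this]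
      _ = q := by group
  have cQi' : ∀ q ∈ Q', j'⁻¹ * q * j' = q := by
    intro q hq
    have := cQ' q hq
    calc j'⁻¹ * q * j' = j'⁻¹ * (j' * q * j'⁻¹) * j' := by rw [this]
      _ = q := by group
  -- the commutator
  obtain ⟨g, hg⟩ : ∃ g : Y, g = j * j' * j⁻¹ * j'⁻¹ := ⟨_, rfl⟩
  have gQ : ∀ q ∈ Q, g * q * g⁻¹ = q := by
    intro q hq
    have e : g * q * g⁻¹ = j * (j' * (j⁻¹ * (j'⁻¹ * q * j') * j) * j'⁻¹) * j⁻¹ := by rw [hg]; group
    rw [e, cQi _ (n1' q hq)]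
    have e2 : j' * (j'⁻¹ * q * j') * j'⁻¹ = q := by group
    rw [e2, cQ q hq]
  have gQ' : ∀ q ∈ Q', g * q * g⁻¹ = q := by
    intro q hq
    have e : g * q * g⁻¹ = j * (j' * (j⁻¹ * (j'⁻¹ * q * j') * j) * j'⁻¹) * j⁻¹ := by rw [hg]; group
    rw [e, cQi' q hq, cQ' _ (n2' q hq)]
    group
  have gB : ∀ b ∈ B, g * b = b * g := by
    intro b hb
    obtain ⟨q, hq, q', hq', rfl⟩ := h.mul b hb
    have h1 : g * (q * q') * g⁻¹ = q * q' := by
      have e : g * (q * q') * g⁻¹ = (g * q * g⁻¹) * (g * q' * g⁻¹) := by group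
      rw [e, gQ q hq, gQ' q' hq']
    calc g * (q * q') = (g * (q * q') * g⁻¹) * g := by group
      _ = _ := by rw [h1]
  have ginv : ∀ v : V, g • j' • j • v = j • j' • v := by
    intro v
    rw [← mul_smul, ← mul_smul, ← mul_smul, hg]
    congr 1
    group
  have gI : ∀ i ∈ I, g • i = i := by
    intro i hi
    -- `i = j' j i₃`
    have hs : ∃ i₃ ∈ I, j' • j • i₃ = i := by
      let φ : I → I := fun x => ⟨j' • j • (x : V), hj'mem _ (hjmem _ x.2)⟩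
      have hφ : Function.Injective φ := by
        intro x y hxy
        have h1 : j' • j • (x : V) = j' • j • (y : V) := congrArg Subtype.val hxy
        rw [smul_left_cancel_iff, smul_left_cancel_iff] at h1
        exact Subtype.ext h1
      obtain ⟨x, hx⟩ := (Finite.injective_iff_surjective.1 hφ) ⟨i, hi⟩
      exact ⟨x, x.2, congrArg Subtype.val hx⟩
    obtain ⟨i₃, hi₃, rfl⟩ := hs
    rw [ginv, hcomm i₃ hi₃]
  -- `g w = w + d`
  have hjw : j • w = w := hw j (JJ_le hj)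
  have hj'w : j' • (w + i₀) = w + i₀ := hi₀J j' hj'J
  have e1 : j' • w = w + i₀ + j' • i₀ := by
    rw [smul_add] at hj'w
    calc j' • w = j' • w + j' • i₀ + j' • i₀ := by rw [add_assoc, h.two, add_zero]
      _ = _ := by rw [hj'w]
  obtain ⟨y, hy⟩ : ∃ y : V, y = i₀ + j' • i₀ := ⟨_, rfl⟩
  have hyI : y ∈ I := by rw [hy]; exact add_mem hi₀ (hj'mem i₀ hi₀)
  have hy0 : y ≠ 0 := by
    intro h1
    rw [hy] at h1
    exact hj'I i₀ hi₀ hi0 (h.eq_of_add h1).symm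
  have e2 : g • (w + y) = w + j • y := by
    have h1 := ginv w
    rw [hjw, e1, add_assoc, ← hy, smul_add j, hjw] at h1
    exact h1
  have e3 : g • w = w + (j • y + y) := by
    rw [smul_add, gI y hyI] at e2
    calc g • w = g • w + y + y := by rw [add_assoc, h.two, add_zero]
      _ = w + j • y + y := by rw [e2]
      _ = _ := by rw [add_assoc]
  obtain ⟨d, hd⟩ : ∃ d : V, d = j • y + y := ⟨_, rfl⟩
  have hdI : d ∈ I := by rw [hd]; exact add_mem (hjmem y hyI) hyI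
  have hd0 : d ≠ 0 := by
    intro h1
    rw [hd] at h1
    exact hjI y hyI hy0 (h.eq_of_add h1)
  rw [← hd] at e3
  -- the 2-part
  have hpow : ∀ m : ℕ, g ^ m • w = w + m • d := by
    intro m
    induction m with
    | zero => rw [pow_zero, one_smul, zero_smul, add_zero]
    | succ m ih =>
      rw [pow_succ', mul_smul, ih, smul_add, e3, succ_nsmul]
      have h1 : g • (m • d) = m • d := gI _ (AddSubgroup.nsmul_mem I hdI m)
      rw [h1]
      abel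
  have hodd : ∀ m : ℕ, Odd m → m • d = d := by
    rintro m ⟨k, rfl⟩
    rw [add_smul, one_smul, mul_comm, mul_smul, two_nsmul, h.two, smul_zero, zero_add]
  obtain ⟨k, m, hm, hkm⟩ := Nat.exists_eq_two_pow_mul_odd (n := orderOf g) (orderOf_pos g).ne'
  obtain ⟨g₂, hg₂⟩ : ∃ g₂ : Y, g₂ = g ^ m := ⟨_, rfl⟩
  have hg₂w : g₂ • w = w + d := by rw [hg₂, hpow, hodd m hm]
  have hg₂p : g₂ ^ 2 ^ k = 1 := by
    rw [hg₂, ← pow_mul, mul_comm, ← hkm, pow_orderOf_eq_one]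
  have hg₂B : ∀ b ∈ B, g₂ * b = b * g₂ := by
    intro b hb
    rw [hg₂]
    exact ((Commute.pow_left (show Commute g b from gB b hb)) m)
  -- the 2-group `B ⟨g₂⟩`
  have hz2 : IsPGroup 2 (zpowers g₂) := by
    rintro ⟨x, hx⟩
    obtain ⟨n, rfl⟩ := mem_zpowers_iff.mp hx
    refine ⟨k, Subtype.ext ?_⟩
    change (g₂ ^ n) ^ 2 ^ k = 1
    rw [← zpow_natCast, ← zpow_mul, mul_comm, zpow_mul, zpow_natCast, hg₂p, one_zpow]
  have hzc : zpowers g₂ ≤ normalizer (B : Set Y) := by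
    rw [zpowers_le, mem_normalizer_iff]
    intro b
    constructor
    · intro hb
      have : g₂ * b * g₂⁻¹ = b := by rw [hg₂B b hb]; group
      rw [this]; exact hb
    · intro hb
      have h1 := hg₂B _ hb
      have h3 : g₂ * b * g₂⁻¹ = b := by
        have h4 : g₂ * (g₂ * b * g₂⁻¹) * g₂⁻¹ = g₂ * b * g₂⁻¹ := by rw [h1]; group
        have h5 : g₂ * (g₂ * b * g₂⁻¹) = g₂ * b := mul_right_cancel h4
        exact mul_left_cancel h5
      rw [h3] at hb; exact hb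
  have hS2 : IsPGroup 2 ↥(B ⊔ zpowers g₂) :=
    IsPGroup.to_sup_of_normal_left' (h.amb.cls.mem B h.hB).isPGroup hz2 hzc
  -- the normaliser of `Q`
  have hBab : ∀ b ∈ B, ∀ q ∈ Q, b * q * b⁻¹ = q := by
    intro b hb q hq
    rw [(h.amb.cls.mem B h.hB).comm b hb q (h.s.QB hq)]; group
  have hX : normalizer (Q : Set Y) ≠ ⊤ := by
    intro h1
    have hQn : Q.Normal := normalizer_eq_top_iff.1 h1
    have h3 := h.amb.core Q hQn ((h.amb.cls.mem B h.hB).isPGroup.to_le h.s.QB)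
    obtain ⟨q₀, hq₀, hq0⟩ := h.fs.exists_ne
    rw [h3, mem_bot] at hq₀
    exact hq0 hq₀
  have hHX : H ≤ normalizer (Q : Set Y) := by
    intro x hx
    rw [mem_normalizer_iff]
    intro q
    refine ⟨fun hq => h.s.Q_H x hx q hq, fun hq => ?_⟩
    have h1 := h.s.Q_H x⁻¹ (H.inv_mem hx) _ hq
    have e : x⁻¹ * (x * q * x⁻¹) * x⁻¹⁻¹ = q := by group
    rwa [e] at h1
  have hSX : B ⊔ zpowers g₂ ≤ normalizer (Q : Set Y) := by
    refine sup_le (h.sd.BH.trans hHX) ?_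
    rw [zpowers_le, mem_normalizer_iff]
    intro q
    constructor
    · intro hq
      have : g₂ * q * g₂⁻¹ = q := by rw [hg₂B q (h.s.QB hq)]; group
      rw [this]; exact hq
    · intro hq
      have h1 := hg₂B _ (h.s.QB hq)
      have h3 : g₂ * q * g₂⁻¹ = q := by
        have h4 : g₂ * (g₂ * q * g₂⁻¹) * g₂⁻¹ = g₂ * q * g₂⁻¹ := by rw [h1]; group
        have h5 : g₂ * (g₂ * q * g₂⁻¹) = g₂ * q := mul_right_cancel h4
        exact mul_left_cancel h5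
      rw [h3] at hq; exact hq
  obtain ⟨x, hx, hxS⟩ := conj_into_of_card (h.a.RH.trans hHX) h.a.R2
    (fun S hS hS2 => h.a.card_le hX hHX hS hS2) hSX hS2
  -- `B^x = B`
  have hBx : MulAut.conj x⁻¹ • B = B := by
    apply h.uniq _ (h.amb.cls.conj B h.hB _)
    intro y hy
    rw [mem_conj, inv_inv] at hy
    have h1 := hxS _ (mem_sup_left hy)
    have e : x⁻¹ * (x * y * x⁻¹) * x = y := by group
    rwa [e] at h1
  have hr : x⁻¹ * g₂ * x ∈ R := hxS _ (mem_sup_right (mem_zpowers g₂))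
  have hrB : x⁻¹ * g₂ * x ∈ B := by
    apply h.cent_R hr
    intro b hb
    have h1 : x * b * x⁻¹ ∈ B := by
      have h3 := hb
      rw [← hBx, mem_conj, inv_inv] at h3
      exact h3
    have h3 := hg₂B _ h1
    calc x⁻¹ * g₂ * x * b = x⁻¹ * (g₂ * (x * b * x⁻¹)) * x := by group
      _ = x⁻¹ * ((x * b * x⁻¹) * g₂) * x := by rw [h3]
      _ = b * (x⁻¹ * g₂ * x) := by group
  have hgB : g₂ ∈ B := by
    rw [← hBx, mem_conj, inv_inv] at hrB
    have e : x * (x⁻¹ * g₂ * x) * x⁻¹ = g₂ := by group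
    rwa [e] at hrB
  have := hwB g₂ hgB
  rw [hg₂w] at this
  apply hd0
  have h3 : w + d = w + 0 := by rw [this, add_zero]
  exact add_left_cancel h3

/-- `C_V(J) = 0` -/
theorem fxJ_bot [Finite Y] [Finite V] : fx V (JJ U H) = ⊥ := by
  rw [eq_bot_iff]
  intro v hv
  rw [AddSubgroup.mem_bot]
  by_contra hv0
  obtain ⟨w, hw, hw0, hwR⟩ := HE.exists_fixed h.two h.a.R2 (fx V (JJ U H)) (by
    intro r hr w hw j hj
    have h1 := hw _ (conj_JJ' h.amb.cls (H.inv_mem (h.a.RH hr)) hj)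
    rw [inv_inv, mul_smul, mul_smul, inv_smul_eq_iff] at h1
    exact h1) ⟨v, hv, hv0⟩
  apply hw0
  have h1 : w ∈ fx V H := by
    obtain ⟨A, hA, hAH, hAM⟩ := h.s.opp
    have h3 : H ≤ MulAction.stabilizer Y w := by
      rw [← h.a.gen hAH hAM]
      exact sup_le (fun r hr => hwR r hr) (fun x hx => hw x (le_JJ hA hAH hx))
    exact fun y hy => h3 hy
  rwa [h.fx_bot, AddSubgroup.mem_bot] at h1

/-- an opposite member does not normalise `B` -/
theorem not_norm [Finite Y] [Finite V] {A : Subgroup Y} (hA : A ∈ U) (hAH : A ≤ H) (hne : A ≠ B) :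
    ∃ a ∈ A, MulAut.conj a • B ≠ B := by
  obtain ⟨i, hi, hi0⟩ := h.sd.exists_ne0 h.hB h.sd.BH
  obtain ⟨i₁, hi₁, hi10⟩ := h.sd.exists_ne0 hA hAH
  have hop := h.sd.op_of_ne h.hB h.sd.BH hA hAH (Ne.symm hne)
  obtain ⟨a, ha, hai⟩ := h.s.reg A hA hAH i hi.1 (h.sd.not_mem hop hi.1 hi.2 hi0) i₁ hi₁
  refine ⟨a, ha, fun h1 => ?_⟩
  apply h.sd.not_mem (Sd.op_symm hop) hi₁.1 hi₁.2 hi10
  rw [← hai]
  refine add_mem ?_ hi.2
  rw [← h1, fx_conj]
  exact smul_mem_smul_as hi.2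

/-- `N_H(B) ≤ M` -/
theorem norm_le [Finite Y] [Finite V] {x : Y} (hx : x ∈ H) (hxB : MulAut.conj x • B = B) : x ∈ M := by
  have hnorm : ∀ y : Y, y ∈ normalizer (B : Set Y) ↔ MulAut.conj y • B = B := by
    intro y
    constructor
    · intro hy
      apply conj_of_mem
      intro b hb
      exact (mem_normalizer_iff.1 hy b).1 hb
    · intro hy
      rw [mem_normalizer_iff]
      intro b
      constructor
      · intro hb
        have := conj_mem_conj (g := y) hb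
        rwa [hy] at this
      · intro hb
        rw [← hy, mem_conj] at hb
        have e : y⁻¹ * (y * b * y⁻¹) * y = b := by group
        rwa [e] at hb
  have hlt : normalizer (B : Set Y) ⊓ H < H := by
    refine lt_of_le_of_ne inf_le_right fun h1 => ?_
    obtain ⟨A, hA, hAH, hAM⟩ := h.s.opp
    obtain ⟨a, ha, hane⟩ := h.not_norm hA hAH (fun h2 => hAM (by
      rw [h2]; exact h.BR.trans (h.a.RT.trans h.amb.TM)))
    apply hane
    have h2 : a ∈ normalizer (B : Set Y) ⊓ H := by rw [h1]; exact hAH ha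
    exact (hnorm a).1 h2.1
  have hR : R ≤ normalizer (B : Set Y) ⊓ H := by
    intro r hr
    refine ⟨(hnorm r).2 (h.uniq _ (h.amb.cls.conj B h.hB r) (conj_le_of hr h.BR)), h.a.RH hr⟩
  exact h.a.uniq _ hR hlt ⟨(hnorm x).2 hxB, hx⟩

/-- `J ∩ R = B` -/
theorem J_inf_R [Finite Y] [Finite V] {r : Y} (hr : r ∈ R) (hrJ : r ∈ JJ U H) : r ∈ B := by
  apply h.P_eq r hr
  have hRI : ∀ x ∈ R, ∀ i ∈ I, x • i ∈ I := by
    intro x hx i hi
    rw [← h.s.I_eq] at hi ⊢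
    refine ⟨h.s.N_H x (h.a.RH hx) i hi.1, ?_⟩
    rw [← h.uniq _ (h.amb.cls.conj B h.hB x) (conj_le_of hx h.BR), fx_conj]
    exact smul_mem_smul_as hi.2
  obtain ⟨i₁, hi₁, hi10⟩ := h.fs.exists_i0
  obtain ⟨i₀, hi₀, hi00, hi₀R⟩ := HE.exists_fixed h.two h.a.R2 I hRI ⟨i₁, hi₁, hi10⟩
  obtain ⟨f, hf, hfr⟩ := h.fs.smul_I hrJ hi₀ hi00 (hRI r hr i₀ hi₀)
  intro i hi
  rw [hfr i hi]
  exact h.fs.ext hf Sc.id (h.IN hi₀) hi00 (by rw [← hfr i₀ hi₀]; exact hi₀R r hr) i (h.IN hi)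

/-- **THE END** (bb OMEGA 20698, 21741) -/
theorem fin [Finite Y] [Finite V] : Fin V U T M := by
  obtain ⟨A, hA, hAH, hAM⟩ := h.s.opp
  have hBM : B ≤ M := h.BR.trans (h.a.RT.trans h.amb.TM)
  have hne : A ≠ B := fun h2 => hAM (by rw [h2]; exact hBM)
  have hgen := h.sd.gen h.hB h.sd.BH hA hAH hne.symm
  have hLH : B ⊔ A ≤ H := sup_le h.sd.BH hAH
  have hum : UM U B A :=
    { mB := h.hB
      mB' := hA
      ne := hne.symm
      min := fun C hC D hD hCD hle => by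
        rw [← hgen]
        exact (h.sd.gen hC (le_sup_left.trans (hle.trans hLH)) hD (le_sup_right.trans (hle.trans hLH)) hCD).symm }
  have hnn : ¬ A ≤ normalizer (B : Set Y) := by
    intro h1
    obtain ⟨a, ha, hane⟩ := h.not_norm hA hAH hne
    apply hane
    apply conj_of_mem
    intro b hb
    exact (mem_normalizer_iff.1 (h1 ha) b).1 hb
  obtain ⟨Q₁, R₁, hL⟩ := hum.loc0 h.amb.cls hnn
  -- the stabiliser
  have hM : (normalizer (B : Set Y)).subgroupOf (B ⊔ A) = M.subgroupOf (B ⊔ A) := by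
    ext x
    rw [mem_subgroupOf, mem_subgroupOf]
    have hxH : (x : Y) ∈ H := hLH x.2
    constructor
    · intro h1
      apply h.norm_le hxH
      apply conj_of_mem
      intro b hb
      exact (mem_normalizer_iff.1 h1 b).1 hb
    · intro h1
      have h2 : MulAut.conj (x : Y) • B ≤ M := conj_le_of h1 hBM
      have hU := h.amb.cls.conj B h.hB (x : Y)
      have hUH : MulAut.conj (x : Y) • B ≤ H := conj_le_of hxH h.sd.BH
      have h3 := (h.s.le_M _ hU hUH).1 h2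
      have h4 : MulAut.conj (x : Y) • B = B := by
        apply h.sd.one hU hUH h.hB h.sd.BH
        rw [h3, h.s.I_eq]
      rw [mem_normalizer_iff]
      intro b
      constructor
      · intro hb
        have := conj_mem_conj (g := (x : Y)) hb
        rwa [h4] at this
      · intro hb
        have h5 : (x : Y) * b * (x : Y)⁻¹ ∈ MulAut.conj (x : Y) • B := by rw [h4]; exact hb
        rw [mem_conj] at h5
        have e : (x : Y)⁻¹ * ((x : Y) * b * (x : Y)⁻¹) * x = b := by group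
        rwa [e] at h5
  rw [hM] at hL
  -- the Sylow subgroup
  have hR₁ : (R₁ : Subgroup (B ⊔ A : Subgroup Y)).map (B ⊔ A : Subgroup Y).subtype ≤ B := by
    obtain ⟨x, hx, hxR⟩ := conj_into_of_card h.a.RH h.a.R2
      (fun S hS hS2 => h.a.card_le h.a.bad.ne le_rfl hS hS2)
      ((map_subtype_le (R₁ : Subgroup (B ⊔ A : Subgroup Y))).trans hLH) (R₁.2.map _)
    have hBP : B ≤ (R₁ : Subgroup (B ⊔ A : Subgroup Y)).map (B ⊔ A : Subgroup Y).subtype := by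
      intro b hb
      exact ⟨⟨b, mem_sup_left hb⟩, hL.AR hb, rfl⟩
    have hBx : MulAut.conj x⁻¹ • B = B := by
      apply h.uniq _ (h.amb.cls.conj B h.hB _)
      intro y hy
      rw [mem_conj, inv_inv] at hy
      have h1 := hxR _ (hBP hy)
      have e : x⁻¹ * (x * y * x⁻¹) * x = y := by group
      rwa [e] at h1
    intro s hs
    have h1 := hxR s hs
    have hsJ : s ∈ JJ U H := by
      rw [hgen]
      exact map_subtype_le _ hs
    have h2 : x⁻¹ * s * x ∈ JJ U H := by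
      have := conj_JJ' h.amb.cls (H.inv_mem hx) hsJ
      rwa [inv_inv] at this
    have h3 := h.J_inf_R h1 h2
    rw [← hBx, mem_conj, inv_inv] at h3
    have e : x * (x⁻¹ * s * x) * x⁻¹ = s := by group
    rwa [e] at h3
  refine ⟨B ⊔ A, B, Q₁, R₁, h.hB, le_sup_left, h.BR.trans h.a.RT, fun h1 => hAM (le_sup_right.trans h1),
    hR₁.trans (h.BR.trans h.a.RT), hL, ?_, Or.inl ?_⟩
  · rw [← hgen]; exact h.fxJ_bot
  · obtain ⟨q₀, hq₀, hq0⟩ := h.fs.exists_ne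
    have hqL : q₀ ∈ (B ⊔ A : Subgroup Y) := mem_sup_left (h.s.QB hq₀)
    have hQn : (Q.subgroupOf (B ⊔ A)).Normal := by
      refine ⟨fun n hn g => ?_⟩
      rw [mem_subgroupOf] at hn ⊢
      exact h.s.Q_H g (hLH g.2) n hn
    have hQ2 : IsPGroup 2 (Q.subgroupOf (B ⊔ A)) :=
      ((h.amb.cls.mem B h.hB).isPGroup.to_le h.s.QB).comap_of_injective _ Subtype.coe_injective
    intro h1
    have h2 : (⟨q₀, hqL⟩ : (B ⊔ A : Subgroup Y)) ∈ B.subgroupOf (B ⊔ A) ⊓ Q₁ :=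
      ⟨h.s.QB hq₀, hL.core _ hQn hQ2 hq₀⟩
    rw [h1, mem_bot] at h2
    exact hq0 (congrArg Subtype.val h2)

end EndS

end Cfsg.Agent.Omega.NO1.TH

end
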