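import Cfsg.Agent.Mrg.Omega.NO1.TH.NoOvV
import Cfsg.Agent.Mrg.Omega.NO1.TH.Fact


/-!
# N1, BETA, the amalgam `(H, H^t)`: `k = 1`, any field automorphisms, any `C` (bb OMEGA 20297, helper503)

(6), (7), (8) without (8a), (8b), (9), over `TwoK` (KOneDef.lean).  `PW V H W = ⟨W^H⟩`.

`In15` : the outputs of (1)-(5) for one member `A ≤ H`, `A ≰ M`, `W' ≤ E_A`.
`TwoK.not_le` : `W' ≰ E_A` for all members `A ≤ H`, `A ≰ M`; `TwoK.out` : the final output.
-/

set_option autoImplicit false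
set_option linter.unusedSectionVars false

namespace Cfsg.Agent.Omega.NO1.TH

open Subgroup Cfsg.Agent.Omega.NO1.AB
open scoped Pointwise

universe u

variable {Y : Type u} [Group Y] {V : Type u} [AddCommGroup V] [DistribMulAction Y V]

/-- `⟨W^H⟩` -/
def PW (V : Type u) [AddCommGroup V] [DistribMulAction Y V] (H : Subgroup Y) (W : AddSubgroup V) : AddSubgroup V :=
  AddSubgroup.closure {v | ∃ x ∈ H, ∃ y ∈ W, v = x • y}

theorem smul_mem_PW {H : Subgroup Y} {W : AddSubgroup V} {x : Y} (hx : x ∈ H) {v : V} (hv : v ∈ PW V H W) :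
    x • v ∈ PW V H W := by
  induction hv using AddSubgroup.closure_induction with
  | mem v hv =>
    obtain ⟨y, hy, z, hz, rfl⟩ := hv
    exact AddSubgroup.subset_closure ⟨x * y, H.mul_mem hx hy, z, hz, by rw [mul_smul]⟩
  | zero => rw [smul_zero]; exact zero_mem _
  | add b c _ _ h1 h2 => rw [smul_add]; exact add_mem h1 h2
  | neg b _ h1 => rw [smul_neg]; exact neg_mem h1

theorem le_PW {H : Subgroup Y} {W : AddSubgroup V} : W ≤ PW V H W := fun y hy =>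
  AddSubgroup.subset_closure ⟨1, H.one_mem, y, hy, (one_smul Y y).symm⟩

theorem PW_le {H : Subgroup Y} {W D : AddSubgroup V} (h : ∀ x ∈ H, ∀ y ∈ W, x • y ∈ D) : PW V H W ≤ D := by
  refine (AddSubgroup.closure_le _).2 ?_
  rintro _ ⟨x, hx, y, hy, rfl⟩
  exact h x hx y hy

/-- commutators with `⟨W^H⟩` -/
theorem PW_comm {H : Subgroup Y} {W : AddSubgroup V} {N : Subgroup Y} {D : AddSubgroup V}
    (hN : ∀ x ∈ H, ∀ n ∈ N, x⁻¹ * n * x ∈ N) (hD : ∀ x ∈ H, ∀ d ∈ D, x • d ∈ D)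
    (h : ∀ y ∈ W, ∀ n ∈ N, n • y + y ∈ D) {v : V} (hv : v ∈ PW V H W) :
    ∀ n ∈ N, n • v + v ∈ D := by
  induction hv using AddSubgroup.closure_induction with
  | mem v hv =>
    obtain ⟨x, hx, y, hy, rfl⟩ := hv
    intro q hq
    have h2 := h y hy _ (hN x hx q hq)
    have e1 : q • x • y + x • y = x • ((x⁻¹ * q * x) • y + y) := by
      rw [smul_add, ← mul_smul, ← mul_smul]
      congr 2
      group
    rw [e1]
    exact hD x hx _ h2
  | zero => intro q _; rw [smul_zero, add_zero]; exact zero_mem _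
  | add b c _ _ h1 h2 =>
    intro q hq
    have e1 : q • (b + c) + (b + c) = (q • b + b) + (q • c + c) := by rw [smul_add]; abel
    rw [e1]
    exact add_mem (h1 q hq) (h2 q hq)
  | neg b _ h1 =>
    intro q hq
    have e1 : q • (-b) + (-b) = -(q • b + b) := by rw [smul_neg]; abel
    rw [e1]
    exact neg_mem (h1 q hq)

theorem smul_mem_PW_conj {H : Subgroup Y} {W : AddSubgroup V} (t : Y) {v : V} (hv : v ∈ PW V H W) :
    t • v ∈ PW V (MulAut.conj t • H) (t • W) := by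
  induction hv using AddSubgroup.closure_induction with
  | mem v hv =>
    obtain ⟨x, hx, y, hy, rfl⟩ := hv
    have e : t • x • y = (t * x * t⁻¹) • t • y := by
      rw [← mul_smul, ← mul_smul]
      congr 1
      group
    rw [e]
    exact smul_mem_PW (conj_mem_conj hx) (le_PW (smul_mem_smul_as hy))
  | zero => rw [smul_zero]; exact zero_mem _
  | add b c _ _ h1 h2 => rw [smul_add]; exact add_mem h1 h2
  | neg b _ h1 => rw [smul_neg]; exact neg_mem h1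

namespace Amal

variable {U : Set (Subgroup Y)} {T : Sylow 2 Y} {M H R : Subgroup Y} {t : Y}

/-- no invariant submodule `≠ 0` in `E_B` -/
theorem no_sub' (a : Amal U T M H R t) (h : Amb V U T M) {W : AddSubgroup V} (h1 : ∀ x ∈ H, ∀ w ∈ W, x • w ∈ W)
    (h2 : ∀ w ∈ W, t • w ∈ W) {B : Subgroup Y} (hB : B ∈ U) (hW : W ≤ Ee V B) : W = ⊥ := by
  rcases Amal.no_sub a h h1 h2 with h3 | h3
  · exact h3
  · exact absurd hW (h3 B hB)

end Amal

/-- invariance of a finite additive subgroup under a join -/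
theorem inv_sup [Finite V] {N : AddSubgroup V} {A B : Subgroup Y} (hA : ∀ u ∈ A, ∀ n ∈ N, u • n ∈ N)
    (hB : ∀ u ∈ B, ∀ n ∈ N, u • n ∈ N) : ∀ u ∈ A ⊔ B, ∀ n ∈ N, u • n ∈ N := by
  have hle : A ⊔ B ≤
      ({ carrier := {x | ∀ n ∈ N, x • n ∈ N}
         one_mem' := fun n hn => by rw [one_smul]; exact hn
         mul_mem' := fun {x y} hx hy n hn => by rw [mul_smul]; exact hx _ (hy n hn)
         inv_mem' := fun {x} hx n hn => by
           have hbij : Function.Surjective (fun n : N => (⟨x • (n : V), hx n n.2⟩ : N)) := by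
             apply Finite.surjective_of_injective
             intro p q hpq
             exact Subtype.ext (smul_left_cancel x (congrArg Subtype.val hpq))
           obtain ⟨m, hm⟩ := hbij ⟨n, hn⟩
           have h1 : x • (m : V) = n := congrArg Subtype.val hm
           rw [← h1, inv_smul_smul]
           exact m.2 } : Subgroup Y) := sup_le (fun r hr => hA r hr) (fun u hu => hB u hu)
  exact fun x hx => hle hx

/-- The outputs of (1)-(5) of bb OMEGA 20297 for one member `A ≤ H`, `A ≰ M`, `W' ≤ E_A`. -/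
structure In15 (V : Type u) [AddCommGroup V] [DistribMulAction Y V] (H H' R P' : Subgroup Y) (W₁' : AddSubgroup V)
    (c : ℕ) (A : Subgroup Y) : Prop where
  one_a : Nat.card ↥(WW V H' R) * Nat.card ↥(A ⊓ QQ H R ⊓ QQ H' R) =
    Nat.card ↥(A ⊓ QQ H R) * Nat.card ↥(WW V H' R ⊓ fx V (A ⊓ QQ H R))
  one_b : ∀ v ∈ Ee V A, (∀ k ∈ A ⊓ QQ H R ⊓ QQ H' R, k • v = v) → v ∈ WW V H R ⊔ WW V H' R ⊔ fx V A
  two_a : A ⊓ QQ H R ≤ P'
  three : ∃ I : AddSubgroup V, I ≤ WW V H R ∧ (∀ x ∈ I, x ∈ fx V A → x = 0) ∧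
    ∀ v ∈ PW V H' (WW V H R), ∀ k ∈ A ⊓ QQ H R ⊓ QQ H' R, k • v + v ∈ I
  four : (∀ y ∈ WW V H' R, y ∉ W₁' → ∀ u ∈ A, u • y = y → u ∈ A ⊓ QQ H R ⊓ QQ H' R) ∨ QQ H R ⊓ QQ H' R = ⊥
  five : QQ H R ⊓ QQ H' R = ⊥ → Nat.card A = c * c → False

/-- The output. -/
structure Out8 (V : Type u) [AddCommGroup V] [DistribMulAction Y V] (H H' R P' : Subgroup Y) (W₁' : AddSubgroup V)
    (c : ℕ) (A : Subgroup Y) : Prop where
  not_le : ¬ WW V H' R ≤ Ee V A
  K : A ⊓ QQ H R ⊓ QQ H' R = ⊥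
  cB : Nat.card ↥(A ⊓ QQ H R) = c
  cA : Nat.card A = c * c
  S : ∀ w : V, w ∉ Ee V A → ∀ s : Y, s ∈ A ⊓ QQ H R ↔ s ∈ A ∧ s • w + w ∈ WW V H R ⊔ fx V A
  BP : A ⊓ QQ H R ≤ P'
  mul : ∀ r ∈ P', ∃ b ∈ A ⊓ QQ H R, ∃ q ∈ QQ H' R, r = b * q
  cap : ∀ y ∈ WW V H' R, y ∈ Ee V A → y ∈ W₁'

namespace TwoK

variable [Finite Y] [Finite V] {U : Set (Subgroup Y)} {T : Sylow 2 Y} {M H H' R P P' : Subgroup Y}
  {D D' W₁ W₁' : AddSubgroup V} {c : ℕ} {t : Y} (h : TwoK V U T M H H' R P P' D D' W₁ W₁' c t)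
include h

theorem two (v : V) : v + v = 0 := h.amb.two v

/-- `|A| = c |A ∩ Q|` for members `A ≤ H`, `A ≰ Q` -/
theorem card_mem {A : Subgroup Y} (hA : A ∈ U) (hAH : A ≤ H) (hAQ : ¬ A ≤ QQ H R) :
    Nat.card A = c * Nat.card ↥(A ⊓ QQ H R) := by
  obtain ⟨x, hx, hxU, hxR⟩ := Amal.exists_conj h.a h.amb hA hAH
  have hxQ : ¬ MulAut.conj x • A ≤ QQ H R := by
    intro h1
    apply hAQ
    intro y hy
    have h2 := conj_mem_QQ (H.inv_mem hx) (h1 (conj_mem_conj (g := x) hy))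
    have e : x⁻¹ * (x * y * x⁻¹) * x⁻¹⁻¹ = y := by group
    rwa [e] at h2
  have h1 := h.k.cover _ hxU hxR hxQ
  obtain ⟨b, hb, hbQ⟩ := SetLike.not_le_iff_exists.1 hxQ
  have h3 : WW V H R ⊓ fx V (MulAut.conj x • A) = W₁ := by
    apply le_antisymm
    · rintro w ⟨hw, hwF⟩
      by_contra hw1
      apply hbQ
      apply h.k.free b (h1.1 hb) w hw hw1
      rw [hwF b hb, h.two]
      exact zero_mem _
    · exact le_inf h.k.W₁W fun w hw y hy => h.k.P_fix y (h1.1 hy) w hw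
  have h4 := Amal.exact' h.a h.amb h.we hxU (hxR.trans h.a.RH)
  rw [h3, h.k.card_W] at h4
  have h2 : Nat.card ↥(MulAut.conj x • A) = c * Nat.card ↥(MulAut.conj x • A ⊓ QQ H R) := by
    apply Nat.eq_of_mul_eq_mul_right (Nat.card_pos (α := W₁))
    rw [← h4]; ring
  rw [conj_card, One.conj_inf_QQ hx, conj_card] at h2
  exact h2

/-- a member `A ≤ H` outside `M` is not in `Q` -/
theorem not_Q {A : Subgroup Y} (hM : ¬ A ≤ M) : ¬ A ≤ QQ H R := fun h1 =>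
  hM (h1.trans (QQ_le.trans (h.a.RT.trans h.amb.TM)))

/-- `|W| = c |W ∩ F_A|` -/
theorem card_WF {A : Subgroup Y} (hA : A ∈ U) (hAH : A ≤ H) (hAQ : ¬ A ≤ QQ H R) :
    Nat.card ↥(WW V H R) = c * Nat.card ↥(WW V H R ⊓ fx V A) := by
  have h1 := Amal.exact' h.a h.amb h.we hA hAH
  rw [h.card_mem hA hAH hAQ] at h1
  apply Nat.eq_of_mul_eq_mul_right (Nat.card_pos (α := ↥(A ⊓ QQ H R)))
  rw [h1]; ring

/-- `C_A(x) ≤ Q` for `x ∈ W - F_A` -/
theorem cent {A : Subgroup Y} (hA : A ∈ U) (hAH : A ≤ H) (hAQ : ¬ A ≤ QQ H R) {w : V} (hw : w ∈ WW V H R)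
    (hwF : w ∉ fx V A) {a : Y} (ha : a ∈ A) (haw : a • w = w) : a ∈ QQ H R := by
  obtain ⟨x, hx, hxU, hxR⟩ := Amal.exists_conj h.a h.amb hA hAH
  have hxQ : ¬ MulAut.conj x • A ≤ QQ H R := by
    intro h1
    apply hAQ
    intro y hy
    have h2 := conj_mem_QQ (H.inv_mem hx) (h1 (conj_mem_conj (g := x) hy))
    have e : x⁻¹ * (x * y * x⁻¹) * x⁻¹⁻¹ = y := by group
    rwa [e] at h2
  have h1 := h.k.cover _ hxU hxR hxQ
  have h2 : x • w ∈ WW V H R := smul_mem_WW hx hw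
  have h3 : x • w ∉ W₁ := by
    intro h4
    apply hwF
    intro b hb
    have h5 := h.k.P_fix _ (h1.1 (conj_mem_conj (g := x) hb)) _ h4
    have e : (x * b * x⁻¹) • x • w = x • b • w := by
      rw [← mul_smul, ← mul_smul]; congr 1; group
    rw [e] at h5
    exact smul_left_cancel _ h5
  have h4 : (x * a * x⁻¹) • x • w + x • w ∈ D := by
    have e : (x * a * x⁻¹) • x • w = x • a • w := by
      rw [← mul_smul, ← mul_smul]; congr 1; group
    rw [e, haw, h.two]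
    exact zero_mem _
  have h5 := h.k.free _ (h1.1 (conj_mem_conj (g := x) ha)) _ h2 h3 h4
  have h6 := conj_mem_QQ (H.inv_mem hx) h5
  have e : x⁻¹ * (x * a * x⁻¹) * x⁻¹⁻¹ = a := by group
  rwa [e] at h6

/-- `S₁ ≤ B₁` -/
theorem pre_sub {A : Subgroup Y} (hA : A ∈ U) (hAH : A ≤ H) (hAQ : ¬ A ≤ QQ H R) {w : V} (hw : w ∉ Ee V A) :
    pre A w (WW V H R ⊔ fx V A) ⊆ (A ⊓ QQ H R : Subgroup Y) := by
  have hm := h.amb.cls.mem A hA
  rintro s ⟨hs, hsD⟩
  obtain ⟨x, hx, f, hf, he⟩ := AddSubgroup.mem_sup.1 hsD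
  have h1 : s • w + w + x ∈ fx V A := by
    rw [← he]
    have e1 : x + f + x = (x + x) + f := by abel
    rw [e1, h.two, zero_add]; exact hf
  refine ⟨hs, ?_⟩
  by_cases hxF : x ∈ fx V A
  · have h2 : s • w + w ∈ fx V A := by rw [← he]; exact add_mem hxF hf
    rw [hm.inj w hw s hs h2]
    exact one_mem _
  · exact h.cent hA hAH hAQ hx hxF hs (mem_self hm hs h1)

theorem card_pre' {A : Subgroup Y} (hA : A ∈ U) (hAH : A ≤ H) (hAQ : ¬ A ≤ QQ H R) {w : V} (hw : w ∉ Ee V A) :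
    Nat.card (pre A w (WW V H R ⊔ fx V A)) = c := by
  have hm := h.amb.cls.mem A hA
  have h1 := card_pre hm h.amb.two hw (D := WW V H R ⊔ fx V A) le_sup_right
    (sup_le (Amal.WW_le_Ee h.a h.amb h.we hA hAH) hm.FE)
  have h2 := card_sup_as (WW V H R) (fx V A)
  rw [h.card_WF hA hAH hAQ] at h2
  have h3 : Nat.card ↥(WW V H R ⊔ fx V A) = c * Nat.card (fx V A) := by
    apply Nat.eq_of_mul_eq_mul_right (Nat.card_pos (α := ↥(WW V H R ⊓ fx V A)))
    rw [h2]; ring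
  rw [h3] at h1
  exact Nat.eq_of_mul_eq_mul_right (Nat.card_pos (α := fx V A)) h1

/-- `W' ≠ W₁'` -/
theorem exists_y : ∃ y ∈ WW V H' R, y ∉ W₁' := by
  by_contra hcon
  push Not at hcon
  have h1 : WW V H' R = W₁' := le_antisymm hcon h.k'.W₁W
  have h2 := h.k'.card_W
  rw [h1] at h2
  have h3 := h.k'.two_le
  have h4 : 0 < Nat.card W₁' := Nat.card_pos
  nlinarith

/-- `C_{W'}(b) ≤ W₁'` for `b ∈ P' - Q'` -/
theorem fix_W₁' {b : Y} (hb : b ∈ P') (hbQ : b ∉ QQ H' R) {y : V} (hy : y ∈ WW V H' R) (hby : b • y = y) : y ∈ W₁' := by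
  by_contra hy1
  apply hbQ
  apply h.k'.free b hb y hy hy1
  rw [hby, h.two]
  exact zero_mem _

/-- `C_{W'}(B₁) = W₁'` if `B₁ ≤ P'` -/
theorem fxB {A : Subgroup Y} (hA : A ∈ U) (hAH : A ≤ H) (hM : ¬ A ≤ M) (hP : A ⊓ QQ H R ≤ P') :
    WW V H' R ⊓ fx V (A ⊓ QQ H R) = W₁' := by
  obtain ⟨b, hb, hbQ⟩ := h.star hA hAH hM
  apply le_antisymm
  · rintro y ⟨hy, hyB⟩
    exact h.fix_W₁' (hP hb) hbQ hy (hyB b hb)
  · exact le_inf h.k'.W₁W fun y hy b hb => h.k'.P_fix b (hP hb) y hy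

section in15

variable {A : Subgroup Y} (hA : A ∈ U) (hAH : A ≤ H) (hM : ¬ A ≤ M) (hin : In15 V H H' R P' W₁' c A)
include hA hAH hM hin

/-- `|B₁| = c |K|` -/
theorem card_K : Nat.card ↥(A ⊓ QQ H R) = c * Nat.card ↥(A ⊓ QQ H R ⊓ QQ H' R) := by
  have h1 := hin.one_a
  rw [h.fxB hA hAH hM hin.two_a, h.k'.card_W] at h1
  apply Nat.eq_of_mul_eq_mul_right (Nat.card_pos (α := W₁'))
  rw [← h1]; ring

theorem card_A : Nat.card A = c * c * Nat.card ↥(A ⊓ QQ H R ⊓ QQ H' R) := by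
  rw [h.card_mem hA hAH (h.not_Q hM), h.card_K hA hAH hM hin, mul_assoc]

/-- (4) with (5) -/
theorem four' {y : V} (hy : y ∈ WW V H' R) (hy1 : y ∉ W₁') {u : Y} (hu : u ∈ A) (huy : u • y = y) :
    u ∈ A ⊓ QQ H R ⊓ QQ H' R := by
  rcases hin.four with h1 | h1
  · exact h1 y hy hy1 u hu huy
  · exfalso
    apply hin.five h1
    have h2 : A ⊓ QQ H R ⊓ QQ H' R = ⊥ := by
      rw [eq_bot_iff, ← h1, inf_assoc]
      exact inf_le_right
    rw [h.card_A hA hAH hM hin, h2, Subgroup.card_bot, mul_one]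

/-- `|A| ≤ c²` is impossible -/
theorem small (hW : WW V H' R ≤ Ee V A) (hc : Nat.card A ≤ c * c) : False := by
  have hm := h.amb.cls.mem A hA
  have hc2 := h.k.two_le
  have h1 := h.card_A hA hAH hM hin
  have h2 : Nat.card ↥(A ⊓ QQ H R ⊓ QQ H' R) = 1 := by
    have h3 : 0 < Nat.card ↥(A ⊓ QQ H R ⊓ QQ H' R) := Nat.card_pos
    rw [h1] at hc
    have h4 : c * c * Nat.card ↥(A ⊓ QQ H R ⊓ QQ H' R) ≤ c * c * 1 := by rw [mul_one]; exact hc
    have h5 := Nat.le_of_mul_le_mul_left h4 (by positivity)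
    omega
  have h3 : A ⊓ QQ H R ⊓ QQ H' R = ⊥ := Subgroup.card_eq_one.1 h2
  obtain ⟨y, hy, hy1⟩ := h.exists_y
  obtain ⟨b, hb, hbQ⟩ := h.star hA hAH hM
  obtain ⟨w, hw⟩ := hm.ne
  obtain ⟨s, hs, he⟩ := hm.surj w hw y (hW hy)
  have h4 := h.four' hA hAH hM hin hy hy1 hs (mem_self hm hs he)
  rw [h3, mem_bot] at h4
  rw [h4, one_smul, h.two, zero_add] at he
  exact hy1 (h.fix_W₁' (hin.two_a hb) hbQ hy (he b hb.1))

/-- **(6)** -/
theorem six (hall : ∀ B ∈ U, B ≤ H → WW V H' R ≤ Ee V B) : False := by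
  have hm := h.amb.cls.mem A hA
  have htwo := h.amb.two
  -- `Ψ`, `Ψ'`
  set Ps := PW V H (WW V H' R) with hPs
  set Ps' := PW V H' (WW V H R) with hPs'
  have hPsE : ∀ B ∈ U, B ≤ H → Ps ≤ Ee V B := by
    intro B hB hBH
    apply PW_le
    intro x hx y hy
    have h1 : MulAut.conj x⁻¹ • B ≤ H := by
      intro z hz
      rw [mem_conj, inv_inv] at hz
      have := H.mul_mem (H.mul_mem (H.inv_mem hx) (hBH hz)) hx
      have e : x⁻¹ * (x * z * x⁻¹) * x = z := by group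
      rwa [e] at this
    have h2 := hall _ (h.amb.cls.conj B hB x⁻¹) h1 hy
    rw [Ee_conj, mem_smul_as, inv_inv] at h2
    exact h2
  have hRH' : R ≤ H' := h.a'.RH
  have hWPs' : WW V H R ≤ Ps' := le_PW
  have hWPs : WW V H R ≤ Ps := WW_le fun x hx w hw => smul_mem_PW hx (le_PW (fx_le_WW hw))
  have hW'Ps : WW V H' R ≤ Ps := le_PW
  have htPs : ∀ v ∈ Ps, t • v ∈ Ps' := by
    intro v hv
    have h1 := smul_mem_PW_conj t hv
    rw [← h.H'_eq] at h1
    have h2 : t • WW V H' R = WW V H R := h.swap.W'_eq.symm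
    rwa [h2] at h1
  have htPs' : ∀ v ∈ Ps', t • v ∈ Ps := by
    intro v hv
    have h1 := smul_mem_PW_conj t hv
    rw [← h.H_eq, ← h.W'_eq] at h1
    exact h1
  obtain ⟨I, hIW, hIF, hI⟩ := hin.three
  by_cases hcase : Ps' ≤ Ee V A
  · -- (a)
    have hsub : ∀ u ∈ A, ∀ v ∈ Ps', u • v + v ∈ Ps := by
      intro u hu v hv
      have h1 := hin.one_b v (hcase hv) (fun k hk =>
        (HE.add_eq_zero' htwo).1 (hIF _ (hI v hv k hk) (hm.EB k hk.1.1 _ (hcase hv))))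
      obtain ⟨z, hz, f, hf, he⟩ := AddSubgroup.mem_sup.1 h1
      have hz' : z ∈ Ps := sup_le hWPs hW'Ps hz
      rw [← he]
      have e1 : u • (z + f) + (z + f) = (u • z + z) + (f + f) := by
        rw [smul_add, hf u hu]; abel
      rw [e1, htwo, add_zero]
      exact Ps.add_mem (smul_mem_PW (hAH hu) hz') hz'
    let N : AddSubgroup V := Ps ⊔ Ps'
    have hNR : ∀ r ∈ R, ∀ n ∈ N, r • n ∈ N := by
      intro r hr n hn
      obtain ⟨x, hx, y, hy, rfl⟩ := AddSubgroup.mem_sup.1 hn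
      rw [smul_add]
      exact N.add_mem (AddSubgroup.mem_sup_left (smul_mem_PW (h.a.RH hr) hx))
        (AddSubgroup.mem_sup_right (smul_mem_PW (hRH' hr) hy))
    have hNA : ∀ u ∈ A, ∀ n ∈ N, u • n ∈ N := by
      intro u hu n hn
      obtain ⟨x, hx, y, hy, rfl⟩ := AddSubgroup.mem_sup.1 hn
      rw [smul_add]
      refine N.add_mem (AddSubgroup.mem_sup_left (smul_mem_PW (hAH hu) hx)) ?_
      have h2 : u • y = (u • y + y) + y := by rw [add_assoc, htwo, add_zero]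
      rw [h2]
      exact N.add_mem (AddSubgroup.mem_sup_left (hsub u hu y hy)) (AddSubgroup.mem_sup_right hy)
    have hNH := inv_sup hNR hNA
    rw [h.a.gen hAH hM] at hNH
    have hNt : ∀ n ∈ N, t • n ∈ N := by
      intro n hn
      obtain ⟨x, hx, y, hy, rfl⟩ := AddSubgroup.mem_sup.1 hn
      rw [smul_add]
      exact N.add_mem (AddSubgroup.mem_sup_right (htPs x hx)) (AddSubgroup.mem_sup_left (htPs' y hy))
    have h1 := h.a.no_sub' h.amb hNH hNt hA (sup_le (hPsE A hA hAH) hcase)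
    apply Amal.WW_ne_bot h.a h.amb
    rw [eq_bot_iff, ← h1]
    exact hWPs.trans le_sup_left
  · -- (b)
    obtain ⟨v, hv, hvE⟩ := SetLike.not_le_iff_exists.1 hcase
    obtain ⟨y, hy, hyW⟩ := h.exists_y
    obtain ⟨b, hb, hbQ⟩ := h.star hA hAH hM
    obtain ⟨s, hs, he⟩ := hm.surj _ hvE y (hPsE A hA hAH (hW'Ps hy))
    have hsK := h.four' hA hAH hM hin hy hyW hs (mem_self hm hs he)
    have h1 := hI v hv s hsK
    -- `y ∈ W + F_A`, so `b` fixes `y`
    have h2 : y = (s • v + v) + (s • v + v + y) := by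
      rw [← add_assoc, htwo, zero_add]
    have h3 : b • y = y := by
      rw [h2, smul_add, Amal.QQ_fix h.a h.amb hb.2 (hIW h1), he b hb.1]
    exact hyW (h.fix_W₁' (hin.two_a hb) hbQ hy h3)

end in15

/-- **(7), (9)**: `W' ≰ E_A` for every member `A ≤ H`, `A ≰ M` -/
theorem not_le (hin : ∀ A ∈ U, A ≤ H → ¬ A ≤ M → WW V H' R ≤ Ee V A → In15 V H H' R P' W₁' c A)
    {A : Subgroup Y} (hA : A ∈ U) (hAH : A ≤ H) (hM : ¬ A ≤ M) : ¬ WW V H' R ≤ Ee V A := by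
  intro hW
  have hi := hin A hA hAH hM hW
  apply h.six hA hAH hM hi
  intro D hD hDH
  by_contra hDW
  apply h.small hA hAH hM hi hW
  -- `D ≰ Q`
  have hDQ : ¬ D ≤ QQ H R := fun h1 => hDW (h.we' D hD (h1.trans QQ_le))
  have hmD := h.amb.cls.mem D hD
  have h1 : D ⊓ QQ H R ⊓ QQ H' R = ⊥ := by
    rw [eq_bot_iff]
    rintro s ⟨⟨hs, _⟩, hsQ'⟩
    rw [mem_bot]
    by_contra hs1
    exact hDW fun y hy => mem_E_of_fix hmD h.amb.two hs hs1 (Amal.QQ_fix h.a' h.amb hsQ' hy)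
  have h2 := h.k'.ea (D ⊓ QQ H R) (inf_le_right.trans QQ_le) ((Mem.elAb hmD).mono inf_le_left)
  rw [h1, Subgroup.card_bot, mul_one] at h2
  have h3 := h.card_mem hD hDH hDQ
  obtain ⟨g, rfl⟩ := h.amb.cls.eq D hD A hA
  rw [conj_card, h3]
  exact Nat.mul_le_mul_left _ h2

/-- **(8)**, first part -/
theorem eight {A : Subgroup Y} (hA : A ∈ U) (hAH : A ≤ H) (hM : ¬ A ≤ M) (hW : ¬ WW V H' R ≤ Ee V A) :
    A ⊓ QQ H R ⊓ QQ H' R = ⊥ ∧ Nat.card ↥(A ⊓ QQ H R) = c ∧ Nat.card A = c * c ∧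
      ∀ w : V, w ∉ Ee V A → ∀ s : Y, s ∈ A ⊓ QQ H R ↔ s ∈ A ∧ s • w + w ∈ WW V H R ⊔ fx V A := by
  have hm := h.amb.cls.mem A hA
  have h1 : A ⊓ QQ H R ⊓ QQ H' R = ⊥ := by
    rw [eq_bot_iff]
    rintro s ⟨⟨hs, _⟩, hsQ'⟩
    rw [mem_bot]
    by_contra hs1
    exact hW fun y hy => mem_E_of_fix hm h.amb.two hs hs1 (Amal.QQ_fix h.a' h.amb hsQ' hy)
  have h2 := h.k'.ea (A ⊓ QQ H R) (inf_le_right.trans QQ_le) ((Mem.elAb hm).mono inf_le_left)
  rw [h1, Subgroup.card_bot, mul_one] at h2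
  have h3 : Nat.card ↥(A ⊓ QQ H R) = c := by
    apply le_antisymm h2
    obtain ⟨w, hw⟩ := hm.ne
    rw [← h.card_pre' hA hAH (h.not_Q hM) hw]
    exact Nat.card_mono (Set.toFinite _) (h.pre_sub hA hAH (h.not_Q hM) hw)
  refine ⟨h1, h3, by rw [h.card_mem hA hAH (h.not_Q hM), h3], fun w hw s => ?_⟩
  have h4 : pre A w (WW V H R ⊔ fx V A) = (A ⊓ QQ H R : Subgroup Y) := by
    apply Set.eq_of_subset_of_ncard_le (h.pre_sub hA hAH (h.not_Q hM) hw) _ (Set.toFinite _)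
    change Nat.card ↥(A ⊓ QQ H R) ≤ Nat.card (pre A w (WW V H R ⊔ fx V A))
    rw [h.card_pre' hA hAH (h.not_Q hM) hw, h3]
  have h5 : s ∈ pre A w (WW V H R ⊔ fx V A) ↔ s ∈ (A ⊓ QQ H R : Subgroup Y) := by rw [h4]; rfl
  exact h5.symm

/-- **(8b)**: `B₁ ≤ P'` -/
theorem eight_b {A : Subgroup Y} (hA : A ∈ U) (hAH : A ≤ H) (hM : ¬ A ≤ M) (hW : ¬ WW V H' R ≤ Ee V A) :
    A ⊓ QQ H R ≤ P' := by
  by_contra hP
  have hm := h.amb.cls.mem A hA
  obtain ⟨h1, h2, _, hS⟩ := h.eight hA hAH hM hW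
  obtain ⟨hc4, hBP, hRP⟩ := h.k'.fld (A ⊓ QQ H R) (inf_le_right.trans QQ_le) ((Mem.elAb hm).mono inf_le_left) hP
    (by rw [h1, Subgroup.card_bot, mul_one]; exact h2)
  -- `R = B₁ P'`
  have hR : A ⊓ QQ H R ⊔ P' = R := by
    apply eq_of_le_of_card_ge (sup_le (inf_le_right.trans QQ_le) h.k'.PR)
    have h3 : P' < A ⊓ QQ H R ⊔ P' := lt_of_le_of_ne le_sup_right fun h4 => hP (h4 ▸ le_sup_left)
    have h5 := card_dvd_of_le h3.le
    obtain ⟨n, hn⟩ := h5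
    have h6 := Amb.card_lt' h3
    have h7 : 2 ≤ n := by
      by_contra h8
      have : n ≤ 1 := by omega
      nlinarith [Nat.card_pos (α := P')]
    nlinarith [Nat.card_pos (α := P')]
  -- `C_{W'}(B₁) ≤ V₀`
  have hfix : ∀ y ∈ WW V H' R, (∀ b ∈ A ⊓ QQ H R, b • y = y) → y ∈ fx V R := by
    intro y hy hyB
    obtain ⟨b, hb, hbQ⟩ := SetLike.not_le_iff_exists.1 hBP
    have hb' : b ∈ A ⊓ QQ H R ⊓ P' := hb
    have hy1 := h.fix_W₁' hb'.2 hbQ hy (hyB b hb'.1)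
    have h3 : R ≤ MulAction.stabilizer Y y := by
      rw [← hR]
      exact sup_le (fun r hr => hyB r hr) (fun r hr => h.k'.P_fix r hr y hy1)
    exact fun r hr => h3 hr
  -- `|V₀| ≤ 2 |C|`
  have hV0 : Nat.card (fx V R) ≤ 2 * Nat.card (fx V H) := by
    have h3 : fx V R ⊓ D' = fx V H' := by
      apply le_antisymm
      · rintro x ⟨hx, hxD⟩ g hg
        exact h.k'.D_fix x hxD hx g hg
      · intro x hx
        refine ⟨fx_mono h.a'.RH hx, ?_⟩
        -- `x ∈ W'` is fixed by `H'`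
        by_contra hxD
        have hxV : x ∈ fx V R := fx_mono h.a'.RH hx
        have hxW : x ∈ WW V H' R := fx_le_WW hxV
        have hx1 : x ∈ W₁' := by
          obtain ⟨b, hb, hbQ⟩ := SetLike.not_le_iff_exists.1 hBP
          have hb' : b ∈ A ⊓ QQ H R ⊓ P' := hb
          exact h.fix_W₁' hb'.2 hbQ hxW (hxV b (QQ_le hb'.1.2))
        obtain ⟨g, hg, hgM⟩ := SetLike.not_le_iff_exists.1 (Amal.H_not_le h.a' h.amb)
        apply hxD
        apply h.k'.opp g hg hgM x hx1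
        rw [hx g hg]
        exact hx1
    have h4 := card_sup_as (fx V R) D'
    rw [h3] at h4
    have h5 : fx V R ⊔ D' < W₁' := by
      refine lt_of_le_of_ne (sup_le ?_ h.k'.DW) ?_
      · intro x hx
        obtain ⟨b, hb, hbQ⟩ := SetLike.not_le_iff_exists.1 hBP
        have hb' : b ∈ A ⊓ QQ H R ⊓ P' := hb
        exact h.fix_W₁' hb'.2 hbQ (fx_le_WW hx) (hx b (QQ_le hb'.1.2))
      · intro h6
        apply hP
        intro b hb
        apply h.k'.mem_P b (QQ_le hb.2)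
        intro w hw
        rw [← h6] at hw
        obtain ⟨x, hx, d, hd, rfl⟩ := AddSubgroup.mem_sup.1 hw
        have e1 : b • (x + d) + (x + d) = (b • x + x) + (b • d + d) := by rw [smul_add]; abel
        rw [e1, hx b (QQ_le hb.2), h.two, zero_add]
        exact add_mem (h.k'.D_H b (h.a'.RH (QQ_le hb.2)) d hd) hd
    have h6 : 2 * Nat.card ↥(fx V R ⊔ D') ≤ Nat.card W₁' := by
      have h7 := AddSubgroup.card_dvd_of_le h5.le
      obtain ⟨n, hn⟩ := h7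
      have h8 : n ≠ 1 := by
        rintro rfl
        rw [mul_one] at hn
        exact h5.ne (eq_of_le_as h5.le hn.le)
      have h9 : n ≠ 0 := by
        rintro rfl
        rw [mul_zero] at hn
        exact absurd hn Nat.card_pos.ne'
      have h10 : 2 ≤ n := by omega
      rw [hn, mul_comm]
      exact Nat.mul_le_mul_left _ h10
    rw [h.k'.card_W₁, hc4] at h6
    have h7 : Nat.card ↥(fx V R ⊔ D') ≤ 2 * Nat.card D' := by omega
    have h8 : Nat.card (fx V H') = Nat.card (fx V H) := by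
      rw [h.H'_eq, fx_conj, card_smul_as]
    rw [h8] at h4
    have h9 : Nat.card (fx V R) * Nat.card D' ≤ 2 * Nat.card (fx V H) * Nat.card D' := by
      rw [← h4]
      calc Nat.card ↥(fx V R ⊔ D') * Nat.card (fx V H) ≤ 2 * Nat.card D' * Nat.card (fx V H) :=
            Nat.mul_le_mul_right _ h7
        _ = _ := by ring
    exact Nat.le_of_mul_le_mul_right h9 Nat.card_pos
  -- `w ∈ W' - E_A`
  obtain ⟨w, hw, hwE⟩ := SetLike.not_le_iff_exists.1 hW
  have hwB : ∀ b ∈ A ⊓ QQ H R, b • w + w ∈ fx V R := by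
    intro b hb
    apply hfix
    · exact add_mem (smul_mem_WW (h.a'.RH (QQ_le hb.2)) hw) hw
    · intro b' hb'
      obtain ⟨x, hx, f, hf, he⟩ := AddSubgroup.mem_sup.1 ((hS w hwE b).1 hb).2
      rw [← he, smul_add, Amal.QQ_fix h.a h.amb hb'.2 hx, hf b' hb'.1]
  -- the end
  have hcap := h.a.fx_inf (V := V) hAH hM
  have h3 := card_sup_as (fx V H) (fx V H')
  have h4 : fx V H ⊓ fx V H' = ⊥ := by
    rw [eq_bot_iff]
    rintro x ⟨hx, hx'⟩
    have hx' : x ∈ fx V H' := hx'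
    rw [AddSubgroup.mem_bot]
    rw [h.H'_eq, fx_conj, mem_smul_as] at hx'
    apply Amal.C_inf h.a h.amb hx
    rwa [← h.a.inv_smul_V0 (h.a.C_le hx)]
  have h8 : Nat.card (fx V H') = Nat.card (fx V H) := by
    rw [h.H'_eq, fx_conj, card_smul_as]
  rw [h4, AddSubgroup.card_bot, mul_one, h8] at h3
  have h5 : Nat.card ↥(fx V H ⊔ fx V H') ≤ Nat.card (fx V R) := Nat.card_le_card_of_injective _
    (AddSubgroup.inclusion_injective (sup_le h.a.C_le h.a'.C_le))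
  rw [h3] at h5
  have hC0 : 0 < Nat.card (fx V H) := Nat.card_pos
  have h6 : Nat.card (fx V H) ≤ 2 := Nat.le_of_mul_le_mul_right (h5.trans hV0) hC0
  let f : ↥(A ⊓ QQ H R) → fx V R := fun b => ⟨(b : Y) • w + w, hwB b b.2⟩
  have hinj : Function.Injective f := by
    rintro ⟨x, hx⟩ ⟨y, hy⟩ hxy
    have h2 : x • w + w = y • w + w := congrArg Subtype.val hxy
    have h3 : x • w = y • w := add_right_cancel h2
    have h4 : (y * x) • w + w ∈ fx V A := by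
      rw [mul_smul, h3, ← mul_smul, hm.sq y hy.1, one_smul, h.two]
      exact zero_mem _
    have h5 := hm.inj _ hwE _ (mul_mem hy.1 hx.1) h4
    apply Subtype.ext
    change x = y
    have : y * (y * x) = y * 1 := by rw [h5]
    rw [← mul_assoc, hm.sq y hy.1, one_mul, mul_one] at this
    exact this
  have h7 : Nat.card ↥(A ⊓ QQ H R) ≤ Nat.card (fx V R) := Nat.card_le_card_of_injective f hinj
  rw [h2, hc4] at h7
  have h9 : Nat.card (fx V H) = 2 := by omega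
  have h10 : Nat.card ↥(A ⊓ QQ H R) = Nat.card (fx V R) := by rw [h2, hc4]; omega
  have hsurj : Function.Surjective f := ((Nat.bijective_iff_injective_and_card f).2 ⟨hinj, h10⟩).2
  have h11 : fx V H = ⊥ := by
    rw [eq_bot_iff]
    intro x hx
    rw [AddSubgroup.mem_bot]
    obtain ⟨⟨b, hb⟩, hbx⟩ := hsurj ⟨x, h.a.C_le hx⟩
    have h12 : b • w + w = x := congrArg Subtype.val hbx
    have h13 := hm.inj w hwE b hb.1 (by rw [h12]; exact fx_mono hAH hx)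
    rw [← h12, h13, one_smul, h.two]
  rw [h11, AddSubgroup.card_bot] at h9
  omega

/-- **THE OUTPUT of bb OMEGA 20297**; `h8a` is (8a). -/
theorem out (hin : ∀ A ∈ U, A ≤ H → ¬ A ≤ M → WW V H' R ≤ Ee V A → In15 V H H' R P' W₁' c A)
    (h8a : ∀ A ∈ U, A ≤ H → ¬ A ≤ M → ¬ WW V H' R ≤ Ee V A → A ⊓ QQ H R ≤ P' →
      ∀ y ∈ WW V H' R, y ∈ Ee V A → y ∈ W₁')
    {A : Subgroup Y} (hA : A ∈ U) (hAH : A ≤ H) (hM : ¬ A ≤ M) : Out8 V H H' R P' W₁' c A := by
  have hW := h.not_le hin hA hAH hM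
  obtain ⟨h1, h2, h3, h4⟩ := h.eight hA hAH hM hW
  have h5 := h.eight_b hA hAH hM hW
  refine ⟨hW, h1, h2, h3, h4, h5, ?_, h8a A hA hAH hM hW h5⟩
  intro r hr
  apply exists_mul_of_card h.k'.QP h5 h.k'.card_P _ hr
  rw [h1, Subgroup.card_bot, mul_one, h2]

end TwoK

end Cfsg.Agent.Omega.NO1.TH
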