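import Cfsg.Agent.Mrg.Omega.NO1.TH.Fact
import Cfsg.Agent.Mrg.Omega.NO1.TH.NoOvV
import Cfsg.Agent.Mrg.Omega.NO1.TH.KOneB

section


/-!
# N1, the amalgam `(H, H^t)`, `k = 1` (bb OMEGA 20297, helper503): (1)-(5)

An opposite member: `A ∈ U`, `A ≤ H`, `A ≰ M`.
-/

set_option autoImplicit false
set_option linter.unusedSectionVars false

namespace Cfsg.Agent.Omega.NO1.TH

open Subgroup Cfsg.Agent.Omega.NO1.AB
open scoped Pointwise

universe u

variable {Y : Type u} [Group Y] {V : Type u} [AddCommGroup V] [DistribMulAction Y V]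

/-- `[W, P]` -/
def cmK (P : Subgroup Y) (W : AddSubgroup V) : AddSubgroup V :=
  AddSubgroup.closure {v | ∃ p ∈ P, ∃ w ∈ W, v = p • w + w}

/-- `⟨W^H⟩` -/
def Psi (H : Subgroup Y) (W : AddSubgroup V) : AddSubgroup V :=
  AddSubgroup.closure {v | ∃ x ∈ H, ∃ w ∈ W, v = x • w}

theorem mem_cm {P : Subgroup Y} {W : AddSubgroup V} {p : Y} {w : V} (hp : p ∈ P) (hw : w ∈ W) :
    p • w + w ∈ cmK P W := AddSubgroup.subset_closure ⟨p, hp, w, hw, rfl⟩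

theorem cm_le {P : Subgroup Y} {W X : AddSubgroup V} (h : ∀ p ∈ P, ∀ w ∈ W, p • w + w ∈ X) : cmK P W ≤ X := by
  refine (AddSubgroup.closure_le _).2 ?_
  rintro _ ⟨p, hp, w, hw, rfl⟩
  exact h p hp w hw

theorem smul_mem_cm {P P₂ : Subgroup Y} {W W₂ : AddSubgroup V} {x : Y} (hP : ∀ p ∈ P, x * p * x⁻¹ ∈ P₂)
    (hW : ∀ w ∈ W, x • w ∈ W₂) {v : V} (hv : v ∈ cmK P W) : x • v ∈ cmK P₂ W₂ := by
  induction hv using AddSubgroup.closure_induction with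
  | mem v hv =>
    obtain ⟨p, hp, w, hw, rfl⟩ := hv
    have e : x • (p • w + w) = (x * p * x⁻¹) • (x • w) + x • w := by
      rw [smul_add, ← mul_smul, ← mul_smul]
      congr 2; group
    rw [e]
    exact mem_cm (hP p hp) (hW w hw)
  | zero => rw [smul_zero]; exact zero_mem _
  | add a b _ _ h1 h2 => rw [smul_add]; exact add_mem h1 h2
  | neg a _ h1 => rw [smul_neg]; exact neg_mem h1

theorem smul_mem_Psi {H : Subgroup Y} {W : AddSubgroup V} {x : Y} (hx : x ∈ H) {v : V} (hv : v ∈ Psi H W) :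
    x • v ∈ Psi H W := by
  induction hv using AddSubgroup.closure_induction with
  | mem v hv =>
    obtain ⟨y, hy, w, hw, rfl⟩ := hv
    exact AddSubgroup.subset_closure ⟨x * y, H.mul_mem hx hy, w, hw, by rw [mul_smul]⟩
  | zero => rw [smul_zero]; exact zero_mem _
  | add a b _ _ h1 h2 => rw [smul_add]; exact add_mem h1 h2
  | neg a _ h1 => rw [smul_neg]; exact neg_mem h1

theorem le_Psi {H : Subgroup Y} {W : AddSubgroup V} : W ≤ Psi H W := fun v hv =>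
  AddSubgroup.subset_closure ⟨1, H.one_mem, v, hv, (one_smul Y v).symm⟩

/-- products `B Q`, `Q` normalised by `B` -/
theorem exists_mul_of_sup {B Q : Subgroup Y} (hn : ∀ b ∈ B, ∀ q ∈ Q, b * q * b⁻¹ ∈ Q) {x : Y} (hx : x ∈ B ⊔ Q) :
    ∃ b ∈ B, ∃ q ∈ Q, x = b * q := by
  let S : Subgroup Y :=
    { carrier := {x | ∃ b ∈ B, ∃ q ∈ Q, x = b * q}
      one_mem' := ⟨1, B.one_mem, 1, Q.one_mem, by group⟩
      mul_mem' := by
        rintro _ _ ⟨b, hb, q, hq, rfl⟩ ⟨b', hb', q', hq', rfl⟩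
        have h1 := hn _ (B.inv_mem hb') q hq
        refine ⟨b * b', B.mul_mem hb hb', b'⁻¹ * q * b'⁻¹⁻¹ * q', Q.mul_mem h1 hq', by group⟩
      inv_mem' := by
        rintro _ ⟨b, hb, q, hq, rfl⟩
        exact ⟨b⁻¹, B.inv_mem hb, b * q⁻¹ * b⁻¹, hn b hb _ (Q.inv_mem hq), by group⟩ }
  have h1 : B ⊔ Q ≤ S := sup_le (fun b hb => ⟨b, hb, 1, Q.one_mem, by group⟩)
    fun q hq => ⟨1, B.one_mem, q, hq, by group⟩
  exact h1 hx

theorem card_of_cover [Finite Y] {P Q B : Subgroup Y} {c : ℕ} (hQP : Q ≤ P) (hBP : B ≤ P)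
    (hcov : ∀ p ∈ P, ∃ b ∈ B, ∃ q ∈ Q, p = b * q) (hc : Nat.card P = c * Nat.card Q) :
    Nat.card B = c * Nat.card ↥(B ⊓ Q) := by
  have h1 : Q.relIndex P = c := by
    have h2 := relIndex_mul_relIndex ⊥ Q P bot_le hQP
    rw [relIndex_bot_left, relIndex_bot_left, hc, mul_comm] at h2
    exact Nat.eq_of_mul_eq_mul_right Nat.card_pos h2
  let φ := quotientSubgroupOfEmbeddingOfLE Q hBP
  have hs : Function.Surjective φ := by
    intro y
    obtain ⟨⟨p, hp⟩, rfl⟩ := QuotientGroup.mk_surjective y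
    obtain ⟨b, hb, q, hq, rfl⟩ := hcov p hp
    refine ⟨QuotientGroup.mk ⟨b, hb⟩, ?_⟩
    change (QuotientGroup.mk (⟨b, hBP hb⟩ : P) : P ⧸ Q.subgroupOf P) = QuotientGroup.mk _
    rw [QuotientGroup.eq]
    change b⁻¹ * (b * q) ∈ Q
    have e : b⁻¹ * (b * q) = q := by group
    rwa [e]
  have h7 : Nat.card (P ⧸ Q.subgroupOf P) = Nat.card (B ⧸ Q.subgroupOf B) :=
    (Nat.card_congr (Equiv.ofBijective φ ⟨φ.injective, hs⟩)).symm
  have h8 : Q.relIndex B = c := by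
    rw [← h1]
    exact h7.symm
  have h4 := relIndex_mul_relIndex ⊥ (B ⊓ Q) B bot_le inf_le_left
  rw [relIndex_bot_left, relIndex_bot_left, inf_relIndex_left, h8] at h4
  rw [← h4, mul_comm]

theorem arith_one {w w' i x y z m n k b α f e g c : ℕ} (hw : 0 < w) (hi : 0 < i) (hy : 0 < y) (hm : 0 < m)
    (hn : 0 < n) (hk : 0 < k) (hf : 0 < f) (hc : 0 < c) (h1 : x * i = w * w') (h2 : z * i = w * y)
    (h3 : z * n = w * m) (h4 : w = c * n) (h5 : k * e ≤ f * α) (h6 : g ≤ e) (h7 : g * m = x * f)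
    (h8 : b * y ≤ k * w') (h9 : α = c * b) : k * w' = b * y ∧ e ≤ g := by
  have e1 : z = c * m := by
    apply Nat.eq_of_mul_eq_mul_right hn
    rw [h3, h4]; ring
  have e2 : x * y = z * w' := by
    apply Nat.eq_of_mul_eq_mul_right (Nat.mul_pos hi hw)
    calc x * y * (i * w) = (x * i) * (w * y) := by ring
      _ = w * w' * (z * i) := by rw [h1, h2]
      _ = _ := by ring
  have e3 : k * x ≤ c * b * m := by
    apply Nat.le_of_mul_le_mul_right _ hf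
    calc k * x * f = k * (x * f) := by ring
      _ = k * (g * m) := by rw [h7]
      _ ≤ k * (e * m) := Nat.mul_le_mul_left _ (Nat.mul_le_mul_right _ h6)
      _ = k * e * m := by ring
      _ ≤ f * α * m := Nat.mul_le_mul_right _ h5
      _ = _ := by rw [h9]; ring
  have e4 : k * w' ≤ b * y := by
    apply Nat.le_of_mul_le_mul_left _ (Nat.mul_pos hc hm)
    calc c * m * (k * w') = k * (z * w') := by rw [e1]; ring
      _ = k * x * y := by rw [← e2]; ring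
      _ ≤ c * b * m * y := Nat.mul_le_mul_right _ e3
      _ = _ := by ring
  have e5 := le_antisymm e4 h8
  refine ⟨e5, ?_⟩
  have e6 : c * b * m = k * x := by
    apply Nat.eq_of_mul_eq_mul_right hy
    calc c * b * m * y = c * m * (b * y) := by ring
      _ = c * m * (k * w') := by rw [e5]
      _ = k * (z * w') := by rw [e1]; ring
      _ = _ := by rw [← e2]; ring
  apply Nat.le_of_mul_le_mul_left _ (Nat.mul_pos hk hm)
  calc k * m * e = m * (k * e) := by ring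
    _ ≤ m * (f * α) := Nat.mul_le_mul_left _ h5
    _ = c * b * m * f := by rw [h9]; ring
    _ = k * (x * f) := by rw [e6]; ring
    _ = _ := by rw [← h7]; ring

namespace TwoK

variable [Finite Y] [Finite V] {U : Set (Subgroup Y)} {T : Sylow 2 Y} {M H H' R P P' : Subgroup Y}
  {D D' W₁ W₁' : AddSubgroup V} {c : ℕ} {t : Y} (h : TwoK V U T M H H' R P P' D D' W₁ W₁' c t)
include h

theorem vv0 (v : V) : v + v = 0 := h.amb.two v

theorem c_pos : 0 < c := lt_of_lt_of_le (by norm_num) h.k.two_le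

theorem RM : R ≤ M := h.a.RT.trans h.amb.TM

theorem Q_norm {x q : Y} (hx : x ∈ H) (hq : q ∈ QQ H R) : x * q * x⁻¹ ∈ QQ H R := conj_mem_QQ hx hq

theorem conj_Q {x : Y} (hx : x ∈ H) : MulAut.conj x • QQ H R = QQ H R := conj_of_mem fun _ hq => conj_mem_QQ hx hq

/-- an opposite member is conjugate in `H` to a member in `R` -/
theorem exists_x {A : Subgroup Y} (hA : A ∈ U) (hAH : A ≤ H) (hAM : ¬ A ≤ M) :
    ∃ x ∈ H, x ∉ M ∧ MulAut.conj x • A ∈ U ∧ MulAut.conj x • A ≤ R ∧ ¬ MulAut.conj x • A ≤ QQ H R := by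
  obtain ⟨x, hx, h1, h2⟩ := h.a.exists_conj h.amb hA hAH
  refine ⟨x, hx, fun hxM => hAM ?_, h1, h2, fun h3 => hAM ?_⟩
  · have h4 := h2.trans h.RM
    rw [conj_le_iff] at h4
    refine h4.trans ?_
    intro y hy
    rw [mem_conj, inv_inv] at hy
    have h5 := M.mul_mem (M.mul_mem (M.inv_mem hxM) hy) hxM
    have e : x⁻¹ * (x * y * x⁻¹) * x = y := by group
    rwa [e] at h5
  · rw [conj_le_iff, h.conj_Q (H.inv_mem hx)] at h3
    exact h3.trans (QQ_le.trans h.RM)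

theorem card_memR {B : Subgroup Y} (hB : B ∈ U) (hBR : B ≤ R) (hBQ : ¬ B ≤ QQ H R) :
    Nat.card B = c * Nat.card ↥(B ⊓ QQ H R) := by
  obtain ⟨h1, h2⟩ := h.k.cover B hB hBR hBQ
  exact card_of_cover h.k.QP h1 (fun p hp => exists_mul_of_sup
    (fun b hb q hq => conj_mem_QQ (h.a.RH (hBR hb)) hq) (h2 hp)) h.k.card_P

theorem fx_W₁ {B : Subgroup Y} (hB : B ∈ U) (hBR : B ≤ R) (hBQ : ¬ B ≤ QQ H R) {w : V} (hw : w ∈ WW V H R)
    (hwB : w ∈ fx V B) : w ∈ W₁ := by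
  by_contra hw1
  apply hBQ
  intro b hb
  apply h.k.free b ((h.k.cover B hB hBR hBQ).1 hb) w hw hw1
  rw [hwB b hb, h.vv0]
  exact zero_mem _

theorem W₁_fx {B : Subgroup Y} (hB : B ∈ U) (hBR : B ≤ R) (hBQ : ¬ B ≤ QQ H R) : W₁ ≤ fx V B :=
  fun w hw b hb => h.k.P_fix b ((h.k.cover B hB hBR hBQ).1 hb) w hw

theorem smul_mem_iff {A : Subgroup Y} {x : Y} {w : V} : x • w ∈ fx V (MulAut.conj x • A) ↔ w ∈ fx V A := by
  rw [fx_conj, mem_smul_as, inv_smul_smul]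

theorem D_fx {A : Subgroup Y} (hA : A ∈ U) (hAH : A ≤ H) (hAM : ¬ A ≤ M) : D ≤ fx V A := by
  obtain ⟨x, hx, -, h1, h2, h3⟩ := h.exists_x hA hAH hAM
  intro v hv
  rw [← h.smul_mem_iff (x := x)]
  exact h.W₁_fx h1 h2 h3 (h.k.DW (h.k.D_H x hx v hv))

theorem fix_D {A : Subgroup Y} (hA : A ∈ U) (hAH : A ≤ H) (hAM : ¬ A ≤ M) {v : V} (hv : v ∈ W₁)
    (hvA : v ∈ fx V A) : v ∈ D := by
  obtain ⟨x, hx, hxM, h1, h2, h3⟩ := h.exists_x hA hAH hAM
  apply h.k.opp x hx hxM v hv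
  apply h.fx_W₁ h1 h2 h3 (smul_mem_WW hx (h.k.W₁W hv))
  rwa [h.smul_mem_iff]

theorem free_A' {A : Subgroup Y} (hA : A ∈ U) (hAH : A ≤ H) (hAM : ¬ A ≤ M) {w : V} (hw : w ∈ WW V H R)
    (hwA : w ∉ fx V A) {u : Y} (hu : u ∈ A) (h0 : u • w + w ∈ D) : u ∈ QQ H R := by
  obtain ⟨x, hx, hxM, h1, h2, h3⟩ := h.exists_x hA hAH hAM
  have h4 := h.k.free (x * u * x⁻¹) ((h.k.cover _ h1 h2 h3).1 (conj_mem_conj hu)) (x • w) (smul_mem_WW hx hw)
    (fun h5 => hwA (by rw [← h.smul_mem_iff (x := x)]; exact h.W₁_fx h1 h2 h3 h5)) (by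
      have e : (x * u * x⁻¹) • x • w + x • w = x • (u • w + w) := by
        rw [smul_add, ← mul_smul, ← mul_smul]
        congr 2; group
      rw [e]
      exact h.k.D_H x hx _ h0)
  have h5 := conj_mem_QQ (H.inv_mem hx) h4
  have e : x⁻¹ * (x * u * x⁻¹) * x⁻¹⁻¹ = u := by group
  rwa [e] at h5

theorem free_A {A : Subgroup Y} (hA : A ∈ U) (hAH : A ≤ H) (hAM : ¬ A ≤ M) {w : V} (hw : w ∈ WW V H R)
    (hwA : w ∉ fx V A) {u : Y} (hu : u ∈ A) (h0 : u • w = w) : u ∈ QQ H R :=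
  h.free_A' hA hAH hAM hw hwA hu (by rw [h0, h.vv0]; exact zero_mem _)

theorem card_opp {A : Subgroup Y} (hA : A ∈ U) (hAH : A ≤ H) (hAM : ¬ A ≤ M) :
    Nat.card A = c * Nat.card ↥(A ⊓ QQ H R) := by
  obtain ⟨x, hx, hxM, h1, h2, h3⟩ := h.exists_x hA hAH hAM
  have h4 := h.card_memR h1 h2 h3
  rw [conj_card] at h4
  rw [h4]
  congr 1
  rw [← conj_card x (A ⊓ QQ H R), conj_inf, h.conj_Q hx]

theorem card_fx {A : Subgroup Y} (hA : A ∈ U) (hAH : A ≤ H) (hAM : ¬ A ≤ M) :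
    Nat.card ↥(WW V H R ⊓ fx V A) = Nat.card W₁ := by
  obtain ⟨x, hx, hxM, h1, h2, h3⟩ := h.exists_x hA hAH hAM
  have h4 : WW V H R ⊓ fx V A = x⁻¹ • W₁ := by
    ext v
    rw [mem_smul_as, inv_inv, AddSubgroup.mem_inf]
    constructor
    · rintro ⟨h5, h6⟩
      exact h.fx_W₁ h1 h2 h3 (smul_mem_WW hx h5) (by rwa [h.smul_mem_iff])
    · intro h5
      refine ⟨?_, ?_⟩
      · have h6 := smul_mem_WW (H.inv_mem hx) (h.k.W₁W h5)
        rwa [inv_smul_smul] at h6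
      · rw [← h.smul_mem_iff (x := x)]
        exact h.W₁_fx h1 h2 h3 h5
  rw [h4, card_smul_as]

/-- `u ∈ A - Q` is not in `M` -/
theorem not_M {A : Subgroup Y} (hA : A ∈ U) (hAH : A ≤ H) (hAM : ¬ A ≤ M) {u : Y} (hu : u ∈ A)
    (huQ : u ∉ QQ H R) : u ∉ M := by
  intro huM
  obtain ⟨x, hx, hxM, h1, h2, h3⟩ := h.exists_x hA hAH hAM
  -- `w ∈ W₁ - D`
  obtain ⟨w, hw, hwD⟩ : ∃ w ∈ W₁, w ∉ D := by
    by_contra hcon
    push Not at hcon
    have h4 : W₁ = D := le_antisymm hcon h.k.DW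
    have h5 := h.k.card_W₁
    rw [h4] at h5
    have h6 : 0 < Nat.card D := Nat.card_pos
    have h7 := h.k.two_le
    nlinarith
  have hwA : w ∉ fx V A := fun h4 => hwD (h.fix_D hA hAH hAM hw h4)
  apply huQ
  apply h.free_A' hA hAH hAM (h.k.W₁W hw) hwA hu
  have h4 : u • w + w ∈ W₁ := add_mem (h.k.stab u (hAH hu) huM w hw) hw
  apply h.fix_D hA hAH hAM h4
  rw [← h.smul_mem_iff (x := x)]
  have e : x • (u • w + w) = (x * u * x⁻¹) • x • w + x • w := by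
    rw [smul_add, ← mul_smul, ← mul_smul]
    congr 2; group
  rw [e]
  apply h.W₁_fx h1 h2 h3
  exact h.k.P_comm _ ((h.k.cover _ h1 h2 h3).1 (conj_mem_conj hu)) _ (smul_mem_WW hx (h.k.W₁W hw))

/-- the count of (1) -/
theorem one_aux {A : Subgroup Y} (hA : A ∈ U) (hAH : A ≤ H) (hAM : ¬ A ≤ M) (hE : WW V H' R ≤ Ee V A) :
    Nat.card ↥(A ⊓ QQ H R ⊓ QQ H' R) * Nat.card ↥(WW V H' R) =
        Nat.card ↥(A ⊓ QQ H R) * Nat.card ↥(fx V (A ⊓ QQ H R) ⊓ WW V H' R) ∧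
      fx V (A ⊓ QQ H R ⊓ QQ H' R) ⊓ Ee V A = WW V H R ⊔ WW V H' R ⊔ fx V A := by
  have hm := h.amb.cls.mem A hA
  set W := WW V H R with hW
  set W' := WW V H' R with hW'
  set F := fx V A with hF
  set E := Ee V A with hEd
  set B₁ := A ⊓ QQ H R with hB₁
  set K := B₁ ⊓ QQ H' R with hK
  have hWE : W ≤ E := h.a.WW_le_Ee h.amb h.we hA hAH
  have hZ : fx V B₁ = W ⊔ F := h.a.fx_eq h.amb h.we hA hAH
  have hWZ : W ≤ fx V B₁ := by rw [hZ]; exact le_sup_left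
  have hX : W ⊔ W' ⊔ F ≤ fx V K ⊓ E := by
    refine sup_le (sup_le ?_ ?_) ?_
    · exact le_inf (hWZ.trans (fx_mono inf_le_left)) hWE
    · exact le_inf (fun v hv b hb => Amal.QQ_fix h.a' h.amb hb.2 hv) hE
    · exact le_inf (fx_mono (inf_le_left.trans inf_le_left)) hm.FE
  have c1 := card_sup_as W W'
  have c2 := card_sup_as W (fx V B₁ ⊓ W')
  have i2 : W ⊓ (fx V B₁ ⊓ W') = W ⊓ W' := by
    rw [← inf_assoc, inf_eq_left.2 hWZ]
  rw [i2] at c2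
  have i3 : (W ⊔ W') ⊓ fx V B₁ = W ⊔ fx V B₁ ⊓ W' := by
    rw [sup_inf_assoc_of_le _ hWZ, inf_comm W']
  have i4 : (W ⊔ W') ⊓ fx V B₁ = W ⊔ (W ⊔ W') ⊓ F := by
    rw [hZ, inf_comm, sup_inf_assoc_of_le _ le_sup_left, inf_comm F]
  have c3 := card_sup_as W ((W ⊔ W') ⊓ F)
  have i5 : W ⊓ ((W ⊔ W') ⊓ F) = W ⊓ F := by
    rw [← inf_assoc, inf_eq_left.2 (le_sup_left : W ≤ W ⊔ W')]
  rw [i5, ← i4, i3] at c3
  have c4 : Nat.card W = c * Nat.card ↥(W ⊓ F) := by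
    rw [h.card_fx hA hAH hAM]
    exact h.k.card_W
  have c5 := h.amb.cls.mu A hA K (inf_le_left.trans inf_le_left)
  rw [hm.card_E h.amb.two] at c5
  have c6 := Nat.card_le_card_of_injective _ (AddSubgroup.inclusion_injective hX)
  have c7 := card_sup_as (W ⊔ W') F
  have c8 := h.k'.noOver B₁ (inf_le_right.trans QQ_le) (ElAb.mono (Mem.elAb hm) inf_le_left)
  have c9 := h.card_opp hA hAH hAM
  obtain ⟨r1, r2⟩ := arith_one (w := Nat.card W) (w' := Nat.card W') (i := Nat.card ↥(W ⊓ W'))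
    (x := Nat.card ↥(W ⊔ W')) (y := Nat.card ↥(fx V B₁ ⊓ W')) (z := Nat.card ↥(W ⊔ fx V B₁ ⊓ W'))
    (m := Nat.card ↥((W ⊔ W') ⊓ F)) (n := Nat.card ↥(W ⊓ F)) (k := Nat.card K) (b := Nat.card B₁)
    (α := Nat.card A) (f := Nat.card F) (e := Nat.card ↥(fx V K ⊓ E)) (g := Nat.card ↥(W ⊔ W' ⊔ F)) (c := c)
    Nat.card_pos Nat.card_pos Nat.card_pos Nat.card_pos Nat.card_pos Nat.card_pos Nat.card_pos h.c_pos
    c1 c2 c3 c4 c5 c6 c7 c8 c9
  exact ⟨r1, (eq_of_le_as hX r2).symm⟩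

/-- **(1)** -/
theorem one {A : Subgroup Y} (hA : A ∈ U) (hAH : A ≤ H) (hAM : ¬ A ≤ M) (hE : WW V H' R ≤ Ee V A) :
    fx V (A ⊓ QQ H R ⊓ QQ H' R) ⊓ Ee V A = WW V H R ⊔ WW V H' R ⊔ fx V A := (h.one_aux hA hAH hAM hE).2

/-- **(2)** -/
theorem two_P {A : Subgroup Y} (hA : A ∈ U) (hAH : A ≤ H) (hAM : ¬ A ≤ M) (hE : WW V H' R ≤ Ee V A) :
    A ⊓ QQ H R ≤ P' ∧ P' ≤ (A ⊓ QQ H R) ⊔ QQ H' R := by
  apply h.k'.exactOff _ (inf_le_right.trans QQ_le) (ElAb.mono (Mem.elAb (h.amb.cls.mem A hA)) inf_le_left)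
  · intro h1
    obtain ⟨b, hb, hb'⟩ := h.star hA hAH hAM
    exact hb' (h1 hb)
  · exact (h.one_aux hA hAH hAM hE).1.le

/-- `H` normalises what `R` and `A` normalise -/
theorem gen_induct {A : Subgroup Y} (hAH : A ≤ H) (hAM : ¬ A ≤ M) {S : Subgroup Y} (hR : R ≤ S) (hS : A ≤ S) :
    H ≤ S := by
  rw [← h.a.gen hAH hAM]
  exact sup_le hR hS

theorem cover_mul {A : Subgroup Y} (hA : A ∈ U) (hAH : A ≤ H) (hAM : ¬ A ≤ M) (hP : P' ≤ (A ⊓ QQ H R) ⊔ QQ H' R)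
    {p : Y} (hp : p ∈ P') : ∃ b ∈ A ⊓ QQ H R, ∃ q ∈ QQ H' R, p = b * q := by
  have h1 : ∀ b ∈ A ⊓ QQ H R, ∀ q ∈ QQ H' R, b * q * b⁻¹ ∈ QQ H' R := fun b hb q hq =>
    conj_mem_QQ (h.a'.RH (QQ_le hb.2)) hq
  exact exists_mul_of_sup h1 (hP hp)

/-- a vector `d` of `W₁'` is fixed mod `D'` ... `P'`: `y ∈ W' - W₁'` fixed by `B₁` -/
theorem fixB_W₁' {B : Subgroup Y} (hBP : B ≤ P') (hB : ¬ B ≤ QQ H' R) {y : V} (hy : y ∈ WW V H' R)
    (hyB : ∀ b ∈ B, b • y = y) : y ∈ W₁' := by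
  by_contra hy1
  apply hB
  intro b hb
  apply h.k'.free b (hBP hb) y hy hy1
  rw [hyB b hb, h.vv0]
  exact zero_mem _

/-- **(2)** -/
theorem two_all {A : Subgroup Y} (hA : A ∈ U) (hAH : A ≤ H) (hAM : ¬ A ≤ M) (hE : WW V H' R ≤ Ee V A) :
    A ⊓ QQ H R ≤ P' ∧ P' ≤ (A ⊓ QQ H R) ⊔ QQ H' R ∧
      Nat.card ↥(A ⊓ QQ H R) = c * Nat.card ↥(A ⊓ QQ H R ⊓ QQ H' R) ∧
      (∀ y ∈ WW V H' R, (∀ b ∈ A ⊓ QQ H R, b • y = y) → y ∈ W₁') ∧ cmK P' (WW V H' R) ≤ fx V A := by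
  obtain ⟨h1, h2⟩ := h.two_P hA hAH hAM hE
  refine ⟨h1, h2, ?_, ?_, ?_⟩
  · exact card_of_cover h.k'.QP h1 (fun p hp => h.cover_mul hA hAH hAM h2 hp) h.k'.card_P
  · intro y hy hyB
    refine h.fixB_W₁' h1 (fun h3 => ?_) hy hyB
    obtain ⟨b, hb, hb'⟩ := h.star hA hAH hAM
    exact hb' (h3 hb)
  · apply cm_le
    intro p hp w hw
    obtain ⟨b, hb, q, hq, rfl⟩ := h.cover_mul hA hAH hAM h2 hp
    rw [mul_smul, Amal.QQ_fix h.a' h.amb hq hw]
    exact hE hw b hb.1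

theorem cm_R {r : Y} (hr : r ∈ R) {v : V} (hv : v ∈ cmK P' (WW V H' R)) : r • v ∈ cmK P' (WW V H' R) :=
  smul_mem_cm (fun _ hp => h.k'.P_norm h.amb.two hr hp) (fun _ hw => smul_mem_WW (h.a'.RH hr) hw) hv

/-- `I'` is `H`-invariant -/
theorem cm_H {A : Subgroup Y} (hA : A ∈ U) (hAH : A ≤ H) (hAM : ¬ A ≤ M) (hE : WW V H' R ≤ Ee V A)
    {x : Y} (hx : x ∈ H) {v : V} (hv : v ∈ cmK P' (WW V H' R)) : x • v ∈ cmK P' (WW V H' R) := by
  have h1 := (h.two_all hA hAH hAM hE).2.2.2.2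
  let S : Subgroup Y :=
    { carrier := {x | ∀ v ∈ cmK P' (WW V H' R), x • v ∈ cmK P' (WW V H' R) ∧ x⁻¹ • v ∈ cmK P' (WW V H' R)}
      one_mem' := fun v hv => by rw [inv_one, one_smul]; exact ⟨hv, hv⟩
      mul_mem' := fun {x y} hx hy v hv => by
        rw [mul_inv_rev, mul_smul, mul_smul]
        exact ⟨(hx _ (hy v hv).1).1, (hy _ (hx v hv).2).2⟩
      inv_mem' := fun {x} hx v hv => by
        rw [inv_inv]
        exact ⟨(hx v hv).2, (hx v hv).1⟩ }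
  have h2 : H ≤ S := by
    apply h.gen_induct hAH hAM
    · intro r hr v hv
      exact ⟨h.cm_R hr hv, h.cm_R (R.inv_mem hr) hv⟩
    · intro u hu v hv
      rw [h1 hv u hu, h1 hv u⁻¹ (A.inv_mem hu)]
      exact ⟨hv, hv⟩
  exact (h2 hx v hv).1

/-- `t I = I'` -/
theorem t_cm {v : V} (hv : v ∈ cmK P (WW V H R)) : t • v ∈ cmK P' (WW V H' R) := by
  apply smul_mem_cm _ _ hv
  · intro p hp
    rw [h.P'_eq]
    exact conj_mem_conj hp
  · intro w hw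
    rw [h.W'_eq]
    exact smul_mem_smul_as hw

theorem t_cm_inv {v : V} (hv : v ∈ cmK P' (WW V H' R)) : t⁻¹ • v ∈ cmK P (WW V H R) := by
  have h1 := h.swap.t_cm hv
  have h2 := h.swap.cm_R (R.inv_mem h.a.t_sq) h1
  have e : (t * t)⁻¹ • t • v = t⁻¹ • v := by rw [← mul_smul]; congr 1; group
  rwa [e] at h2

theorem t_D {v : V} (hv : v ∈ D) : t • v ∈ D' := by
  rw [h.D'_eq]; exact smul_mem_smul_as hv

theorem t_W₁ {v : V} (hv : v ∈ W₁) : t • v ∈ W₁' := by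
  rw [h.W₁'_eq]; exact smul_mem_smul_as hv

/-- a vector fixed by `H` and by `H'` is `0` -/
theorem fix_zero {v : V} (h1 : v ∈ fx V H) (h2 : t • v ∈ fx V H) : v = 0 := h.a.C_inf h.amb h1 h2

theorem t_fx {v : V} (hv : v ∈ fx V H') : t • v ∈ fx V H := by
  intro x hx
  have h1 : t⁻¹ * x * t ∈ H' := by
    rw [h.H_eq, mem_conj] at hx
    exact hx
  have h2 := hv _ h1
  have e : (t⁻¹ * x * t) • v = t⁻¹ • x • t • v := by rw [← mul_smul, ← mul_smul, mul_assoc]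
  rw [e, inv_smul_eq_iff] at h2
  exact h2

theorem cm_le_W₁ : cmK P (WW V H R) ≤ W₁ := cm_le h.k.P_comm

/-- `W₁ = I + D` -/
theorem W₁_le : W₁ ≤ cmK P (WW V H R) ⊔ D := by
  obtain ⟨w, hw, hw1⟩ : ∃ w ∈ WW V H R, w ∉ W₁ := by
    by_contra hcon
    push Not at hcon
    have h4 : WW V H R = W₁ := le_antisymm hcon h.k.W₁W
    have h5 := h.k.card_W
    rw [h4] at h5
    have h6 : 0 < Nat.card W₁ := Nat.card_pos
    have h7 := h.k.two_le
    nlinarith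
  intro v hv
  obtain ⟨p, hp, h1⟩ := h.k.onto w hw hw1 v hv
  have e : v = (p • w + w) + (p • w + w + v) := by
    rw [← add_assoc, h.vv0, zero_add]
  rw [e]
  exact add_mem (AddSubgroup.mem_sup_left (mem_cm hp hw)) (AddSubgroup.mem_sup_right h1)

/-- `I' ∩ D' = 0` -/
theorem cm_inf_D' {A : Subgroup Y} (hA : A ∈ U) (hAH : A ≤ H) (hAM : ¬ A ≤ M) (hE : WW V H' R ≤ Ee V A) :
    cmK P' (WW V H' R) ⊓ D' = ⊥ := by
  by_contra hne
  have h1 := (h.two_all hA hAH hAM hE).2.2.2.2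
  obtain ⟨⟨w, hw⟩, hw1⟩ := AddSubgroup.ne_bot_iff_exists_ne_zero.1 hne
  have hw0 : w ≠ 0 := fun h2 => hw1 (Subtype.ext h2)
  obtain ⟨v, hv, hv0, hvR⟩ := HE.exists_fixed h.amb.two h.a.R2 (cmK P' (WW V H' R) ⊓ D')
    (fun r hr w hw => ⟨h.cm_R hr hw.1, h.k'.D_H r (h.a'.RH hr) w hw.2⟩) ⟨w, hw, hw0⟩
  apply hv0
  have h2 : v ∈ fx V H := by
    rw [← h.a.fx_inf hAH hAM]
    exact ⟨h1 hv.1, hvR⟩
  have h3 : v ∈ fx V H' := fun x hx => h.k'.D_fix v hv.2 hvR x hx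
  exact h.fix_zero h2 (h.t_fx h3)

theorem cm_inf_D {A : Subgroup Y} (hA : A ∈ U) (hAH : A ≤ H) (hAM : ¬ A ≤ M) (hE : WW V H' R ≤ Ee V A) {v : V}
    (hv : v ∈ cmK P (WW V H R)) (hvD : v ∈ D) : v = 0 := by
  have h1 : t • v ∈ cmK P' (WW V H' R) ⊓ D' := ⟨h.t_cm hv, h.t_D hvD⟩
  rw [h.cm_inf_D' hA hAH hAM hE, AddSubgroup.mem_bot] at h1
  rwa [smul_eq_zero_iff_eq] at h1

/-- `W = W₁ + (W ∩ F₂)` -/
theorem W_le {A : Subgroup Y} (hA : A ∈ U) (hAH : A ≤ H) (hAM : ¬ A ≤ M) : WW V H R ≤ W₁ ⊔ (WW V H R ⊓ fx V A) := by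
  have h1 : W₁ ⊔ (WW V H R ⊓ fx V A) = WW V H R := by
    apply eq_of_le_as (sup_le h.k.W₁W inf_le_left)
    have h2 := card_sup_as W₁ (WW V H R ⊓ fx V A)
    have h3 : W₁ ⊓ (WW V H R ⊓ fx V A) = D := by
      apply le_antisymm
      · rintro v ⟨hv1, hv2⟩
        exact h.fix_D hA hAH hAM hv1 hv2.2
      · exact le_inf h.k.DW (le_inf (h.k.DW.trans h.k.W₁W) (h.D_fx hA hAH hAM))
    rw [h3, h.card_fx hA hAH hAM] at h2
    have h4 : 0 < Nat.card D := Nat.card_pos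
    apply Nat.le_of_mul_le_mul_right _ h4
    rw [h2, h.k.card_W, mul_assoc, mul_comm (Nat.card W₁) (Nat.card D), ← mul_assoc, ← h.k.card_W₁]
  exact h1.ge

/-- (2), the other side -/
theorem two_inf {A : Subgroup Y} (hA : A ∈ U) (hAH : A ≤ H) (hAM : ¬ A ≤ M) (hE : WW V H' R ≤ Ee V A)
    {A₂ : Subgroup Y} (hA₂ : A₂ ∈ U) (hAH₂ : A₂ ≤ H) (hAM₂ : ¬ A₂ ≤ M) :
    cmK P (WW V H R) ⊓ fx V A₂ = ⊥ ∧ WW V H R ≤ cmK P (WW V H R) ⊔ fx V A₂ := by
  refine ⟨?_, ?_⟩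
  · rw [eq_bot_iff]
    rintro v ⟨h1, h2⟩
    exact h.cm_inf_D hA hAH hAM hE h1 (h.fix_D hA₂ hAH₂ hAM₂ (h.cm_le_W₁ h1) h2)
  · refine (h.W_le hA₂ hAH₂ hAM₂).trans (sup_le ?_ (inf_le_right.trans le_sup_right))
    refine h.W₁_le.trans (sup_le le_sup_left ?_)
    exact (h.D_fx hA₂ hAH₂ hAM₂).trans le_sup_right

/-- `I` is `H'`-invariant -/
theorem cm_H' {A : Subgroup Y} (hA : A ∈ U) (hAH : A ≤ H) (hAM : ¬ A ≤ M) (hE : WW V H' R ≤ Ee V A)
    {x : Y} (hx : x ∈ H') {v : V} (hv : v ∈ cmK P (WW V H R)) : x • v ∈ cmK P (WW V H R) := by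
  have h1 : t * x * t⁻¹ ∈ H := by
    rw [h.H_eq]; exact conj_mem_conj hx
  have h2 := h.t_cm_inv (h.cm_H hA hAH hAM hE h1 (h.t_cm hv))
  have e : t⁻¹ • (t * x * t⁻¹) • t • v = x • v := by
    rw [← mul_smul, ← mul_smul]; congr 1; group
  rwa [e] at h2

/-- **(3)** -/
theorem three {A : Subgroup Y} (hA : A ∈ U) (hAH : A ≤ H) (hAM : ¬ A ≤ M) (hE : WW V H' R ≤ Ee V A)
    {n : Y} (hn : n ∈ QQ H R) (hn' : n ∈ QQ H' R) {v : V} (hv : v ∈ Psi H' (WW V H R)) :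
    n • v + v ∈ cmK P (WW V H R) := by
  induction hv using AddSubgroup.closure_induction with
  | mem v hv =>
    obtain ⟨x, hx, w, hw, rfl⟩ := hv
    have h1 : x⁻¹ * n * x ∈ QQ H' R := by
      have := conj_mem_QQ (H'.inv_mem hx) hn'
      simpa using this
    have h2 : x⁻¹ * n * x ∈ P := by
      apply h.k.mem_P _ (QQ_le h1)
      intro u hu
      obtain ⟨i, hi, d, hd, rfl⟩ := AddSubgroup.mem_sup.1 (h.W₁_le hu)
      have h3 : (x⁻¹ * n * x) • i = i := by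
        have h4 := Amal.QQ_fix h.a h.amb hn (h.k.W₁W (h.cm_le_W₁ (h.cm_H' hA hAH hAM hE hx hi)))
        rw [mul_smul, mul_smul, h4, inv_smul_smul]
      have e : (x⁻¹ * n * x) • (i + d) + (i + d) = ((x⁻¹ * n * x) • d + d) + (i + i) := by
        rw [smul_add, h3]; abel
      rw [e, h.vv0, add_zero]
      exact add_mem (h.k.D_H _ (h.a.RH (QQ_le h1)) _ hd) hd
    have e : n • x • w + x • w = x • ((x⁻¹ * n * x) • w + w) := by
      rw [smul_add, ← mul_smul, ← mul_smul]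
      congr 2; group
    rw [e]
    exact h.cm_H' hA hAH hAM hE hx (mem_cm h2 hw)
  | zero => rw [smul_zero, add_zero]; exact zero_mem _
  | add a b _ _ h1 h2 =>
    have e : n • (a + b) + (a + b) = (n • a + a) + (n • b + b) := by rw [smul_add]; abel
    rw [e]; exact add_mem h1 h2
  | neg a _ h1 =>
    have e : n • (-a) + (-a) = -(n • a + a) := by rw [smul_neg]; abel
    rw [e]; exact neg_mem h1

theorem t_Q {q : Y} (hq : q ∈ QQ H R) : t * q * t⁻¹ ∈ QQ H' R := by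
  rw [h.Q'_eq]; exact conj_mem_conj hq

theorem t_Q_inv {q : Y} (hq : q ∈ QQ H' R) : t⁻¹ * q * t ∈ QQ H R := by
  rw [h.Q'_eq, mem_conj] at hq; exact hq

/-- **(4)** -/
theorem four {u : Y} (huH : u ∈ H) (huu : u * u = 1) (huM : u ∉ M) {y : V} (hy : y ∈ WW V H' R) (hy1 : y ∉ W₁')
    (huy : u • y = y) (hJ : ∀ x ∈ W₁', ∃ j ∈ W₁', j + x ∈ D' ∧ u • j = j) : QQ H R ⊓ QQ H' R = ⊥ := by
  have huinv : u⁻¹ = u := inv_eq_of_mul_eq_one_left huu
  have key : ∀ n ∈ QQ H R ⊓ QQ H' R, u * n * u⁻¹ ∈ QQ H R ⊓ QQ H' R := by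
    intro n hn
    have h1 := conj_mem_QQ huH hn.1
    refine ⟨h1, ?_⟩
    have h2 : u * n * u⁻¹ ∈ P' := by
      apply h.k'.mem_P _ (QQ_le h1)
      intro x hx
      obtain ⟨j, hj, hd, huj⟩ := hJ x hx
      have h3 : (u * n * u⁻¹) • j = j := by
        rw [mul_smul, mul_smul, huinv, huj, Amal.QQ_fix h.a' h.amb hn.2 (h.k'.W₁W hj), huj]
      have e : (u * n * u⁻¹) • x + x = (u * n * u⁻¹) • (j + x) + (j + x) := by
        rw [smul_add, h3]
        have : j + (u * n * u⁻¹) • x + (j + x) = (j + j) + ((u * n * u⁻¹) • x + x) := by abel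
        rw [this, h.vv0, zero_add]
      rw [e]
      exact add_mem (h.k'.D_H _ (h.a'.RH (QQ_le h1)) _ hd) hd
    apply h.k'.free _ h2 y hy hy1
    have h3 : (u * n * u⁻¹) • y = y := by
      rw [mul_smul, mul_smul, huinv, huy, Amal.QQ_fix h.a' h.amb hn.2 hy, huy]
    rw [h3, h.vv0]
    exact zero_mem _
  have keyR : ∀ r ∈ R, ∀ n ∈ QQ H R ⊓ QQ H' R, r * n * r⁻¹ ∈ QQ H R ⊓ QQ H' R := fun r hr n hn =>
    ⟨conj_mem_QQ (h.a.RH hr) hn.1, conj_mem_QQ (h.a'.RH hr) hn.2⟩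
  let S : Subgroup Y :=
    { carrier := {x | ∀ n ∈ QQ H R ⊓ QQ H' R, x * n * x⁻¹ ∈ QQ H R ⊓ QQ H' R ∧ x⁻¹ * n * x ∈ QQ H R ⊓ QQ H' R}
      one_mem' := fun n hn => by simpa using hn
      mul_mem' := fun {x y} hx hy n hn => by
        constructor
        · have h1 := (hx _ (hy n hn).1).1
          have e : x * (y * n * y⁻¹) * x⁻¹ = x * y * n * (x * y)⁻¹ := by group
          rwa [e] at h1
        · have h1 := (hy _ (hx n hn).2).2
          have e : y⁻¹ * (x⁻¹ * n * x) * y = (x * y)⁻¹ * n * (x * y) := by group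
          rwa [e] at h1
      inv_mem' := fun {x} hx n hn => by
        rw [inv_inv]
        exact ⟨(hx n hn).2, (hx n hn).1⟩ }
  have h1 : H ≤ S := by
    rw [← h.a.gen (X := zpowers u) (zpowers_le.2 huH) (fun h2 => huM (h2 (mem_zpowers u)))]
    refine sup_le (fun r hr n hn => ⟨keyR r hr n hn, ?_⟩) (zpowers_le.2 fun n hn => ⟨key n hn, ?_⟩)
    · have := keyR _ (R.inv_mem hr) n hn
      simpa using this
    · have := key n hn
      rw [huinv] at this ⊢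
      exact this
  apply h.a.no_inv h.amb.core (h.a.R2.to_le (inf_le_left.trans QQ_le)) (fun x hx n hn => (h1 hx n hn).1)
  · intro n hn
    exact ⟨h.swap.t_Q hn.2, h.t_Q hn.1⟩
  · intro n hn
    refine ⟨h.t_Q_inv hn.2, ?_⟩
    exact h.swap.t_Q_inv hn.1

theorem exists_onto {y : V} (hy : y ∈ WW V H' R) (hy1 : y ∉ W₁') {x : V} (hx : x ∈ W₁') :
    ∃ p ∈ P', p • y + y ∈ W₁' ∧ p • y + y + x ∈ D' := by
  obtain ⟨p, hp, h1⟩ := h.k'.onto y hy hy1 x hx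
  exact ⟨p, hp, h.k'.P_comm p hp y hy, h1⟩

/-- **(4)**, under (2) -/
theorem four_opp {A : Subgroup Y} (hA : A ∈ U) (hAH : A ≤ H) (hAM : ¬ A ≤ M) (hE : WW V H' R ≤ Ee V A)
    {u : Y} (hu : u ∈ A) (huQ : u ∉ QQ H R) {y : V} (hy : y ∈ WW V H' R) (hy1 : y ∉ W₁') (huy : u • y = y) :
    QQ H R ⊓ QQ H' R = ⊥ := by
  apply h.four (hAH hu) ((h.amb.cls.mem A hA).sq u hu) (h.not_M hA hAH hAM hu huQ) hy hy1 huy
  intro x hx
  obtain ⟨p, hp, h1, h2⟩ := h.exists_onto hy hy1 hx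
  exact ⟨_, h1, h2, (h.two_all hA hAH hAM hE).2.2.2.2 (mem_cm hp hy) u hu⟩

end TwoK

end Cfsg.Agent.Omega.NO1.TH

end

section


/-!
# N1, the amalgam `(H, H^t)`, `k = 1` (bb OMEGA 20297, helper503): (5) and (8a)
-/

set_option autoImplicit false
set_option linter.unusedSectionVars false
set_option linter.unusedVariables false

namespace Cfsg.Agent.Omega.NO1.TH

open Subgroup Cfsg.Agent.Omega.NO1.AB
open scoped Pointwise

universe u

variable {Y : Type u} [Group Y] {V : Type u} [AddCommGroup V] [DistribMulAction Y V]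

/-- `v ↦ [v, s]` -/
def bk (s : Y) : V →+ V where
  toFun v := s • v + v
  map_zero' := by rw [smul_zero, add_zero]
  map_add' a b := by rw [smul_add]; abel

theorem bk_apply (s : Y) (v : V) : bk s v = s • v + v := rfl

namespace TwoK

variable [Finite Y] [Finite V] {U : Set (Subgroup Y)} {T : Sylow 2 Y} {M H H' R P P' : Subgroup Y}
  {D D' W₁ W₁' : AddSubgroup V} {c : ℕ} {t : Y} (h : TwoK V U T M H H' R P P' D D' W₁ W₁' c t)
include h

/-- `[v, s] ∈ W + F_B` for `s ∈ B ∩ Q`, when `|B ∩ Q| = c` -/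
theorem iso_aux {B : Subgroup Y} (hB : B ∈ U) (hE : WW V H R ≤ Ee V B)
    (hfree : ∀ w ∈ WW V H R, w ∉ fx V B → ∀ u ∈ B, u • w = w → u ∈ QQ H R)
    (hcf : Nat.card ↥(WW V H R ⊓ fx V B) = Nat.card W₁) (hc : Nat.card ↥(B ⊓ QQ H R) = c) (v : V) {s : Y}
    (hs : s ∈ B ⊓ QQ H R) : s • v + v ∈ WW V H R ⊔ fx V B := by
  have hm := h.amb.cls.mem B hB
  by_cases hv : v ∈ Ee V B
  · exact AddSubgroup.mem_sup_right (hv s hs.1)
  have h1 := card_pre hm h.amb.two hv (le_sup_right : fx V B ≤ WW V H R ⊔ fx V B) (sup_le hE hm.FE)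
  have h2 := card_sup_as (WW V H R) (fx V B)
  have h3 : Nat.card ↥(pre B v (WW V H R ⊔ fx V B)) = c := by
    have h4 : 0 < Nat.card ↥(fx V B) := Nat.card_pos
    have h5 : 0 < Nat.card W₁ := Nat.card_pos
    apply Nat.eq_of_mul_eq_mul_right (Nat.mul_pos h4 h5)
    rw [← mul_assoc, h1, ← hcf, h2, h.k.card_W, hcf]
    ring
  have h4 : pre B v (WW V H R ⊔ fx V B) ⊆ ((B ⊓ QQ H R : Subgroup Y) : Set Y) := by
    rintro u ⟨hu, hu2⟩
    refine ⟨hu, ?_⟩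
    obtain ⟨w, hw, f, hf, he⟩ := AddSubgroup.mem_sup.1 hu2
    by_cases hwB : w ∈ fx V B
    · have h5 : u = 1 := hm.inj v hv u hu (by rw [← he]; exact add_mem hwB hf)
      rw [h5]; exact one_mem _
    · apply hfree w hw hwB u hu
      have h5 : u • (u • v + v) = u • v + v := by
        rw [smul_add, ← mul_smul, hm.sq u hu, one_smul, add_comm]
      rw [← he, smul_add, hf u hu] at h5
      exact add_right_cancel h5
  have h5 : pre B v (WW V H R ⊔ fx V B) = ((B ⊓ QQ H R : Subgroup Y) : Set Y) := by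
    apply Set.eq_of_subset_of_ncard_le h4 _ (Set.toFinite _)
    have e1 : Set.ncard ((B ⊓ QQ H R : Subgroup Y) : Set Y) = Nat.card ↥(B ⊓ QQ H R) := rfl
    have e2 : Set.ncard (pre B v (WW V H R ⊔ fx V B)) = Nat.card ↥(pre B v (WW V H R ⊔ fx V B)) := rfl
    rw [e1, e2, h3, hc]
  have h6 : s ∈ pre B v (WW V H R ⊔ fx V B) := by rw [h5]; exact hs
  exact h6.2

theorem inf_fx {B : Subgroup Y} (hB : B ∈ U) (hBR : B ≤ R) (hBQ : ¬ B ≤ QQ H R) :
    WW V H R ⊓ fx V B = W₁ :=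
  le_antisymm (fun _ hw => h.fx_W₁ hB hBR hBQ hw.1 hw.2) (le_inf h.k.W₁W (h.W₁_fx hB hBR hBQ))

theorem iso_R {B : Subgroup Y} (hB : B ∈ U) (hBR : B ≤ R) (hBQ : ¬ B ≤ QQ H R)
    (hc : Nat.card ↥(B ⊓ QQ H R) = c) (v : V) {s : Y} (hs : s ∈ B ⊓ QQ H R) :
    s • v + v ∈ WW V H R ⊔ fx V B := by
  apply h.iso_aux hB (h.we B hB hBR) _ _ hc v hs
  · intro w hw hwB u hu hu0
    apply h.k.free u ((h.k.cover B hB hBR hBQ).1 hu) w hw
    · intro hw1
      exact hwB (h.W₁_fx hB hBR hBQ hw1)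
    · rw [hu0, h.vv0]; exact zero_mem _
  · rw [h.inf_fx hB hBR hBQ]

theorem iso_A {A : Subgroup Y} (hA : A ∈ U) (hAH : A ≤ H) (hAM : ¬ A ≤ M)
    (hc : Nat.card ↥(A ⊓ QQ H R) = c) (v : V) {s : Y} (hs : s ∈ A ⊓ QQ H R) :
    s • v + v ∈ WW V H R ⊔ fx V A :=
  h.iso_aux hA (h.a.WW_le_Ee h.amb h.we hA hAH)
    (fun w hw hwA u hu hu0 => h.free_A hA hAH hAM hw hwA hu hu0) (h.card_fx hA hAH hAM) hc v hs

theorem card_BQ {B : Subgroup Y} (hB : B ∈ U) (hBR : B ≤ R) (hBQ : ¬ B ≤ QQ H R) (hc : Nat.card B = c * c) :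
    Nat.card ↥(B ⊓ QQ H R) = c := by
  have h1 := h.card_memR hB hBR hBQ
  rw [hc] at h1
  exact (Nat.eq_of_mul_eq_mul_left h.c_pos h1).symm

theorem not_le_Q' (hQQ : QQ H R ⊓ QQ H' R = ⊥) {B : Subgroup Y} (hc : Nat.card ↥(B ⊓ QQ H R) = c) :
    ¬ B ≤ QQ H' R := by
  intro h1
  have h2 : B ⊓ QQ H R = ⊥ := by
    rw [eq_bot_iff, ← hQQ]
    exact fun b hb => ⟨hb.2, h1 hb.1⟩
  rw [h2, Subgroup.card_bot] at hc
  have := h.k.two_le
  omega

/-- `P = B Q` -/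
theorem cover_R {B : Subgroup Y} (hB : B ∈ U) (hBR : B ≤ R) (hBQ : ¬ B ≤ QQ H R) {p : Y} (hp : p ∈ P) :
    ∃ b ∈ B, ∃ q ∈ QQ H R, p = b * q := by
  have h1 : ∀ b ∈ B, ∀ q ∈ QQ H R, b * q * b⁻¹ ∈ QQ H R := fun b hb q hq => conj_mem_QQ (h.a.RH (hBR hb)) hq
  exact exists_mul_of_sup h1 ((h.k.cover B hB hBR hBQ).2 hp)

/-- `I ≤ I'` when `Q ∩ Q' = 1`, `|B| = c²` -/
theorem five_le (hQQ : QQ H R ⊓ QQ H' R = ⊥) {B : Subgroup Y} (hB : B ∈ U) (hBR : B ≤ R) (hBQ : ¬ B ≤ QQ H R)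
    (hBQ' : ¬ B ≤ QQ H' R) (hc : Nat.card B = c * c) : cmK P (WW V H R) ≤ cmK P' (WW V H' R) := by
  have hm := h.amb.cls.mem B hB
  have c1 := h.card_BQ hB hBR hBQ hc
  have c2 := h.swap.card_BQ hB hBR hBQ' hc
  -- `B = (B ∩ Q)(B ∩ Q')`
  have hprod : ∀ b ∈ B, ∃ s' ∈ B ⊓ QQ H' R, ∃ s ∈ B ⊓ QQ H R, b = s' * s := by
    let f : ↥(B ⊓ QQ H' R) × ↥(B ⊓ QQ H R) → B := fun p => ⟨(p.1 : Y) * (p.2 : Y), B.mul_mem p.1.2.1 p.2.2.1⟩
    have hinj : Function.Injective f := by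
      rintro ⟨⟨a, ha⟩, ⟨b, hb⟩⟩ ⟨⟨a', ha'⟩, ⟨b', hb'⟩⟩ he
      have h1 : a * b = a' * b' := congrArg Subtype.val he
      have h2 : a'⁻¹ * a = b' * b⁻¹ := by
        have : a'⁻¹ * (a * b) * b⁻¹ = a'⁻¹ * (a' * b') * b⁻¹ := by rw [h1]
        have e1 : a'⁻¹ * (a * b) * b⁻¹ = a'⁻¹ * a := by group
        have e2 : a'⁻¹ * (a' * b') * b⁻¹ = b' * b⁻¹ := by group
        rwa [e1, e2] at this
      have h3 : a'⁻¹ * a ∈ QQ H R ⊓ QQ H' R :=
        ⟨by rw [h2]; exact (QQ H R).mul_mem hb'.2 ((QQ H R).inv_mem hb.2),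
          (QQ H' R).mul_mem ((QQ H' R).inv_mem ha'.2) ha.2⟩
      rw [hQQ, mem_bot] at h3
      have h4 : a = a' := by
        have : a' * (a'⁻¹ * a) = a' * 1 := by rw [h3]
        rwa [mul_inv_cancel_left, mul_one] at this
      subst h4
      have h5 : b = b' := mul_left_cancel h1
      subst h5
      rfl
    have hcard : Nat.card (↥(B ⊓ QQ H' R) × ↥(B ⊓ QQ H R)) = Nat.card B := by
      rw [Nat.card_prod, c1, c2, hc]
    have hs := ((Nat.bijective_iff_injective_and_card f).2 ⟨hinj, hcard⟩).2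
    intro b hb
    obtain ⟨⟨s', s⟩, he⟩ := hs ⟨b, hb⟩
    exact ⟨s', s'.2, s, s.2, (congrArg Subtype.val he).symm⟩
  apply cm_le
  intro p hp w hw
  obtain ⟨b, hb, q, hq, rfl⟩ := h.cover_R hB hBR hBQ hp
  obtain ⟨s', hs', s, hs, rfl⟩ := hprod b hb
  have e : (s' * s * q) • w = s' • w := by
    rw [mul_smul, mul_smul, Amal.QQ_fix h.a h.amb hq hw, Amal.QQ_fix h.a h.amb hs.2 hw]
  rw [e]
  obtain ⟨v, hv⟩ := hm.ne
  obtain ⟨s₁, hs₁, h1⟩ := hm.surj v hv w (h.we B hB hBR hw)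
  have h2 := h.swap.iso_R hB hBR hBQ' c2 v hs'
  obtain ⟨w', hw', f, hf, he⟩ := AddSubgroup.mem_sup.1 h2
  have h3 : s' • v + v + w' ∈ fx V B := by
    rw [← he]
    have : w' + f + w' = f + (w' + w') := by abel
    rw [this, h.vv0, add_zero]
    exact hf
  rw [mem_sym hm h.amb.two hs₁ hs'.1 h1 h3]
  exact mem_cm ((h.k'.cover B hB hBR hBQ').1 hs₁) hw'

/-- `I = I'` in `F_A` is impossible -/
theorem no_common {A : Subgroup Y} (hAH : A ≤ H) (hAM : ¬ A ≤ M) (h1 : cmK P (WW V H R) ≤ cmK P' (WW V H' R))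
    (h2 : cmK P' (WW V H' R) ≤ fx V A) : False := by
  have hne : cmK P (WW V H R) ≠ ⊥ := by
    intro h3
    have h4 := h.W₁_le
    rw [h3, bot_sup_eq] at h4
    have h5 : W₁ = D := le_antisymm h4 h.k.DW
    have h6 := h.k.card_W₁
    rw [h5] at h6
    have h7 : 0 < Nat.card D := Nat.card_pos
    have h8 := h.k.two_le
    nlinarith
  obtain ⟨⟨w, hw⟩, hw1⟩ := AddSubgroup.ne_bot_iff_exists_ne_zero.1 hne
  have hw0 : w ≠ 0 := fun h2 => hw1 (Subtype.ext h2)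
  obtain ⟨v, hv, hv0, hvR⟩ := HE.exists_fixed h.amb.two h.a.R2 (cmK P (WW V H R))
    (fun r hr w hw => h.swap.cm_R hr hw) ⟨w, hw, hw0⟩
  apply hv0
  apply h.fix_zero
  · rw [← h.a.fx_inf hAH hAM]
    exact ⟨h2 (h1 hv), hvR⟩
  · rw [← h.a.fx_inf hAH hAM]
    exact ⟨h2 (h.t_cm hv), h.a.smul_V0 hvR⟩

/-- **(5)** -/
theorem five {A : Subgroup Y} (hA : A ∈ U) (hAH : A ≤ H) (hAM : ¬ A ≤ M) (hE : WW V H' R ≤ Ee V A)
    (hQQ : QQ H R ⊓ QQ H' R = ⊥) (hc : Nat.card A = c * c) : False := by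
  obtain ⟨x, hx, hxM, h1, h2, h3⟩ := h.exists_x hA hAH hAM
  have hc' : Nat.card ↥(MulAut.conj x • A) = c * c := by rw [conj_card]; exact hc
  have c1 := h.card_BQ h1 h2 h3 hc'
  exact h.no_common hAH hAM (h.five_le hQQ h1 h2 h3 (h.not_le_Q' hQQ c1) hc') (h.two_all hA hAH hAM hE).2.2.2.2


/-- `S = A ∩ Q = Q ∩ P'` is normalised by `H` -/
theorem S_norm (hQQ : QQ H R ⊓ QQ H' R = ⊥) {A : Subgroup Y} (hA : A ∈ U) (hAH : A ≤ H) (hAM : ¬ A ≤ M)
    (hP : A ⊓ QQ H R ≤ P') (hc : Nat.card ↥(A ⊓ QQ H R) = c) {x s : Y} (hx : x ∈ H) (hs : s ∈ A ⊓ QQ H R) :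
    x * s * x⁻¹ ∈ A ⊓ QQ H R := by
  have hm := h.amb.cls.mem A hA
  have h1 : A ⊓ QQ H R = P' ⊓ QQ H R := by
    apply eq_of_le_of_card_ge (le_inf hP inf_le_right)
    have h2 := card_le_of_index h.k'.QP (B := P' ⊓ QQ H R) inf_le_left h.k'.card_P
    have h3 : P' ⊓ QQ H R ⊓ QQ H' R = ⊥ := by
      rw [eq_bot_iff, ← hQQ]
      exact fun b hb => ⟨hb.1.2, hb.2⟩
    rw [h3, Subgroup.card_bot, mul_one] at h2
    rw [hc]
    exact h2
  let S : Subgroup Y :=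
    { carrier := {x | ∀ n ∈ A ⊓ QQ H R, x * n * x⁻¹ ∈ A ⊓ QQ H R ∧ x⁻¹ * n * x ∈ A ⊓ QQ H R}
      one_mem' := fun n hn => by simpa using hn
      mul_mem' := fun {x y} hx hy n hn => by
        constructor
        · have h1 := (hx _ (hy n hn).1).1
          have e : x * (y * n * y⁻¹) * x⁻¹ = x * y * n * (x * y)⁻¹ := by group
          rwa [e] at h1
        · have h1 := (hy _ (hx n hn).2).2
          have e : y⁻¹ * (x⁻¹ * n * x) * y = (x * y)⁻¹ * n * (x * y) := by group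
          rwa [e] at h1
      inv_mem' := fun {x} hx n hn => by
        rw [inv_inv]
        exact ⟨(hx n hn).2, (hx n hn).1⟩ }
  have h2 : H ≤ S := by
    apply h.gen_induct hAH hAM
    · intro r hr n hn
      rw [h1] at hn ⊢
      refine ⟨⟨h.k'.P_norm h.amb.two hr hn.1, conj_mem_QQ (h.a.RH hr) hn.2⟩, ?_⟩
      have h3 := h.k'.P_norm h.amb.two (R.inv_mem hr) hn.1
      have h4 := conj_mem_QQ (h.a.RH (R.inv_mem hr)) hn.2
      rw [inv_inv] at h3 h4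
      exact ⟨h3, h4⟩
    · intro a ha n hn
      have e1 : a * n * a⁻¹ = n := by rw [hm.comm a ha n hn.1]; group
      have e2 : a⁻¹ * n * a = n := by rw [mul_assoc, ← hm.comm a ha n hn.1]; group
      rw [e1, e2]
      exact ⟨hn, hn⟩
  exact (h2 hx s hs).1

/-- the case `[V, s] ∩ W ≰ D` : `I ∩ D = 0` -/
theorem cm_inf_of {A B : Subgroup Y} (hA : A ∈ U) (hAH : A ≤ H) (hAM : ¬ A ≤ M) (hB : B ∈ U) (hBR : B ≤ R)
    (hBQ : ¬ B ≤ QQ H R) (hc : Nat.card B = c * c) {x : Y} (hx : x ∈ H) (hxA : B = MulAut.conj x • A)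
    {s : Y} (hsA : s ∈ A ⊓ QQ H R) (hsB : s ∈ B ⊓ QQ H R) {v₁ : V} (h1 : s • v₁ + v₁ ∈ WW V H R)
    (h2 : s • v₁ + v₁ ∉ D) {v : V} (hv : v ∈ cmK P (WW V H R)) (hvD : v ∈ D) : v = 0 := by
  have hm := h.amb.cls.mem A hA
  have hmB := h.amb.cls.mem B hB
  have hWf : W₁ ≤ fx V B := h.W₁_fx hB hBR hBQ
  set X : AddSubgroup V := (bk s).range ⊔ D with hX
  -- commutators with `s`
  have comm : ∀ {b : Y}, b * s = s * b → ∀ u : V, b • (bk s u) + bk s u = bk s (b • u + u) := by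
    intro b hb u
    rw [bk_apply, bk_apply, smul_add, ← mul_smul, hb, mul_smul, smul_add]
    abel
  have hDA : D ≤ fx V A := h.D_fx hA hAH hAM
  have stepB : ∀ {b : Y}, b ∈ B → ∀ w ∈ X, b • w + w ∈ (bk s).range := by
    intro b hb w hw
    obtain ⟨_, ⟨u, rfl⟩, d, hd, rfl⟩ := AddSubgroup.mem_sup.1 hw
    have e : b • (bk s u + d) + (bk s u + d) = (b • bk s u + bk s u) + (b • d + d) := by rw [smul_add]; abel
    rw [e, comm (hmB.comm b hb s hsB.1), hWf (h.k.DW hd) b hb, h.vv0, add_zero]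
    exact ⟨_, rfl⟩
  have stepA : ∀ {b : Y}, b ∈ A → ∀ w ∈ X, b • w + w ∈ (bk s).range := by
    intro b hb w hw
    obtain ⟨_, ⟨u, rfl⟩, d, hd, rfl⟩ := AddSubgroup.mem_sup.1 hw
    have e : b • (bk s u + d) + (bk s u + d) = (b • bk s u + bk s u) + (b • d + d) := by rw [smul_add]; abel
    rw [e, comm (hm.comm b hb s hsA.1), hDA hd b hb, h.vv0, add_zero]
    exact ⟨_, rfl⟩
  have hDX : D ≤ X := le_sup_right
  have hRX : (bk s).range ≤ X := le_sup_left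
  have claimB : ∀ w ∈ WW V H R, w ∈ X → w ∉ W₁ → W₁ ≤ X := by
    intro w hw hwX hw1 x₁ hx₁
    obtain ⟨p, hp, h3⟩ := h.k.onto w hw hw1 x₁ hx₁
    obtain ⟨b, hb, q, hq, rfl⟩ := h.cover_R hB hBR hBQ hp
    rw [mul_smul, Amal.QQ_fix h.a h.amb hq hw] at h3
    have e : x₁ = (b • w + w) + (b • w + w + x₁) := by rw [← add_assoc, h.vv0, zero_add]
    rw [e]
    exact add_mem (hRX (stepB hb w hwX)) (hDX h3)
  have claimA : ∀ w ∈ WW V H R, w ∈ X → w ∉ fx V A → WW V H R ⊓ fx V A ≤ X := by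
    intro w hw hwX hwA x₂ hx₂
    have h3 : x • w ∉ W₁ := by
      intro h4
      apply hwA
      rw [← h.smul_mem_iff (x := x), ← hxA]
      exact hWf h4
    have h4 : x • x₂ ∈ W₁ := by
      apply h.fx_W₁ hB hBR hBQ (smul_mem_WW hx hx₂.1)
      rw [hxA, h.smul_mem_iff]
      exact hx₂.2
    obtain ⟨p, hp, h5⟩ := h.k.onto _ (smul_mem_WW hx hw) h3 _ h4
    obtain ⟨b, hb, q, hq, rfl⟩ := h.cover_R hB hBR hBQ hp
    rw [mul_smul, Amal.QQ_fix h.a h.amb hq (smul_mem_WW hx hw)] at h5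
    have hb' : x⁻¹ * b * x ∈ A := by rw [hxA, mem_conj] at hb; exact hb
    have h6 := h.k.D_H x⁻¹ (H.inv_mem hx) _ h5
    have e1 : x⁻¹ • (b • x • w + x • w + x • x₂) = (x⁻¹ * b * x) • w + w + x₂ := by
      rw [smul_add, smul_add, inv_smul_smul, inv_smul_smul, ← mul_smul, ← mul_smul]
    rw [e1] at h6
    have e : x₂ = ((x⁻¹ * b * x) • w + w) + ((x⁻¹ * b * x) • w + w + x₂) := by
      rw [← add_assoc, h.vv0, zero_add]
    rw [e]
    exact add_mem (hRX (stepA hb' w hwX)) (hDX h6)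
  have exW : ∃ w ∈ W₁, w ∉ D := by
    by_contra hcon
    push Not at hcon
    have h4 : W₁ = D := le_antisymm hcon h.k.DW
    have h5 := h.k.card_W₁
    rw [h4] at h5
    have h6 : 0 < Nat.card D := Nat.card_pos
    have h7 := h.k.two_le
    nlinarith
  have exF : ∃ w ∈ WW V H R ⊓ fx V A, w ∉ D := by
    by_contra hcon
    push Not at hcon
    have h4 : WW V H R ⊓ fx V A = D := le_antisymm hcon (le_inf (h.k.DW.trans h.k.W₁W) hDA)
    have h5 := h.k.card_W₁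
    rw [← h.card_fx hA hAH hAM, h4] at h5
    have h6 : 0 < Nat.card D := Nat.card_pos
    have h7 := h.k.two_le
    nlinarith
  have hWX : WW V H R ≤ X := by
    have h3 : W₁ ≤ X ∧ WW V H R ⊓ fx V A ≤ X := by
      have h4 : s • v₁ + v₁ ∈ X := hRX ⟨v₁, rfl⟩
      by_cases h5 : s • v₁ + v₁ ∈ W₁
      · have h6 := claimA _ h1 h4 (fun h7 => h2 (h.fix_D hA hAH hAM h5 h7))
        obtain ⟨w, hw, hwD⟩ := exF
        exact ⟨claimB w hw.1 (h6 hw) (fun h7 => hwD (h.fix_D hA hAH hAM h7 hw.2)), h6⟩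
      · have h6 := claimB _ h1 h4 h5
        obtain ⟨w, hw, hwD⟩ := exW
        exact ⟨h6, claimA w (h.k.W₁W hw) (h6 hw) (fun h7 => hwD (h.fix_D hA hAH hAM hw h7))⟩
    exact (h.W_le hA hAH hAM).trans (sup_le h3.1 h3.2)
  -- `I ≤ [E_B, s]`
  set ψ : Ee V B →+ V := (bk s).comp (Ee V B).subtype with hψ
  have hI : cmK P (WW V H R) ≤ ψ.range := by
    apply cm_le
    intro p hp w hw
    obtain ⟨b, hb, q, hq, rfl⟩ := h.cover_R hB hBR hBQ hp
    rw [mul_smul, Amal.QQ_fix h.a h.amb hq hw]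
    obtain ⟨_, ⟨u, rfl⟩, d, hd, rfl⟩ := AddSubgroup.mem_sup.1 (hWX hw)
    have e : b • (bk s u + d) + (bk s u + d) = (b • bk s u + bk s u) + (b • d + d) := by rw [smul_add]; abel
    rw [e, comm (hmB.comm b hb s hsB.1), hWf (h.k.DW hd) b hb, h.vv0, add_zero]
    exact ⟨⟨b • u + u, hmB.VB b hb u⟩, rfl⟩
  have hcI : Nat.card ↥(cmK P (WW V H R)) ≤ c := by
    refine (Nat.card_le_card_of_injective _ (AddSubgroup.inclusion_injective hI)).trans ?_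
    have c1 := AddSubgroup.card_mul_index ψ.ker
    rw [AddSubgroup.index_ker] at c1
    have hker : WW V H R ⊔ fx V B ≤ Ee V B := sup_le (h.we B hB hBR) hmB.FE
    have c2 : Nat.card ↥(WW V H R ⊔ fx V B) ≤ Nat.card ψ.ker := by
      let f : ↥(WW V H R ⊔ fx V B) → ψ.ker := fun w => ⟨⟨w, hker w.2⟩, by
        rw [AddMonoidHom.mem_ker]
        change s • (w : V) + (w : V) = 0
        obtain ⟨w₀, hw₀, f₀, hf₀, he⟩ := AddSubgroup.mem_sup.1 w.2
        rw [← he, smul_add, Amal.QQ_fix h.a h.amb hsB.2 hw₀, hf₀ s hsB.1, h.vv0]⟩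
      apply Nat.card_le_card_of_injective f
      intro w w' he
      apply Subtype.ext
      exact congrArg (fun z : ψ.ker => ((z : Ee V B) : V)) he
    have c3 := card_sup_as (WW V H R) (fx V B)
    rw [h.inf_fx hB hBR hBQ, h.k.card_W] at c3
    have c4 := hmB.card_E h.amb.two
    rw [hc] at c4
    have hW0 : 0 < Nat.card W₁ := Nat.card_pos
    have hF0 : 0 < Nat.card ↥(fx V B) := Nat.card_pos
    have c5 : Nat.card ↥(WW V H R ⊔ fx V B) = c * Nat.card ↥(fx V B) := by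
      apply Nat.eq_of_mul_eq_mul_right hW0
      rw [c3]; ring
    apply Nat.le_of_mul_le_mul_left _ (Nat.mul_pos h.c_pos hF0)
    calc c * Nat.card ↥(fx V B) * Nat.card ψ.range = Nat.card ↥(WW V H R ⊔ fx V B) * Nat.card ψ.range := by rw [c5]
      _ ≤ Nat.card ψ.ker * Nat.card ψ.range := Nat.mul_le_mul_right _ c2
      _ = Nat.card ↥(Ee V B) := c1
      _ = _ := by rw [c4]; ring
  have c1 := card_sup_as (cmK P (WW V H R)) D
  have c2 := Nat.card_le_card_of_injective _ (AddSubgroup.inclusion_injective h.W₁_le)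
  rw [h.k.card_W₁] at c2
  have hD0 : 0 < Nat.card D := Nat.card_pos
  have c3 : Nat.card ↥(cmK P (WW V H R) ⊓ D) ≤ 1 := by
    apply Nat.le_of_mul_le_mul_left _ (Nat.mul_pos h.c_pos hD0)
    calc c * Nat.card D * Nat.card ↥(cmK P (WW V H R) ⊓ D)
        ≤ Nat.card ↥(cmK P (WW V H R) ⊔ D) * Nat.card ↥(cmK P (WW V H R) ⊓ D) := Nat.mul_le_mul_right _ c2
      _ = Nat.card ↥(cmK P (WW V H R)) * Nat.card D := c1
      _ ≤ c * Nat.card D := Nat.mul_le_mul_right _ hcI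
      _ = _ := (mul_one _).symm
  have h4 : cmK P (WW V H R) ⊓ D = ⊥ := (AddSubgroup.card_le_one_iff_eq_bot _).1 c3
  have h5 : v ∈ cmK P (WW V H R) ⊓ D := ⟨hv, hvD⟩
  rw [h4, AddSubgroup.mem_bot] at h5
  exact h5


/-- the case `[V, s] ∩ W ≤ D` for all `s ∈ S` : `W' ≤ E_A` -/
theorem le_Ee_of {A B : Subgroup Y} (hA : A ∈ U) (hAH : A ≤ H) (hAM : ¬ A ≤ M) (hB : B ∈ U) (hBR : B ≤ R)
    (hBQ : ¬ B ≤ QQ H R) {x : Y} (hx : x ∈ H) (hxA : B = MulAut.conj x • A)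
    (hcA : Nat.card ↥(A ⊓ QQ H R) = c)
    (hSn : ∀ y ∈ H, ∀ s ∈ A ⊓ QQ H R, y * s * y⁻¹ ∈ A ⊓ QQ H R)
    (hcase : ∀ s ∈ A ⊓ QQ H R, ∀ v : V, s • v + v ∈ WW V H R → s • v + v ∈ D) : WW V H' R ≤ Ee V A := by
  have hm := h.amb.cls.mem A hA
  have hDA : D ≤ fx V A := h.D_fx hA hAH hAM
  have hcs : ∀ {s : Y}, s ∈ A ⊓ QQ H R → ∀ {r : Y}, r ∈ H → r⁻¹ * s * r ∈ A ⊓ QQ H R := by
    intro s hs r hr
    have := hSn r⁻¹ (H.inv_mem hr) s hs
    rwa [inv_inv] at this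
  -- the group `L`
  let L : Subgroup Y :=
    { carrier := {l | l ∈ H ∧ (∀ s ∈ A ⊓ QQ H R, l * s = s * l) ∧ (∀ d ∈ D, l • d = d) ∧
        ∀ s ∈ A ⊓ QQ H R, ∀ v : V, l • (s • v + v) + (s • v + v) ∈ D}
      one_mem' := ⟨H.one_mem, fun s _ => by rw [one_mul, mul_one], fun d _ => one_smul Y d, fun s _ v => by
        rw [one_smul, h.vv0]; exact zero_mem _⟩
      mul_mem' := by
        rintro l l' ⟨h1, h2, h3, h4⟩ ⟨h1', h2', h3', h4'⟩
        refine ⟨H.mul_mem h1 h1', fun s hs => ?_, fun d hd => ?_, fun s hs v => ?_⟩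
        · rw [mul_assoc, h2' s hs, ← mul_assoc, h2 s hs, mul_assoc]
        · rw [mul_smul, h3' d hd, h3 d hd]
        · have h5 := h4' s hs v
          have e : (l * l') • (s • v + v) + (s • v + v) =
              l • (l' • (s • v + v) + (s • v + v)) + (l • (s • v + v) + (s • v + v)) := by
            rw [mul_smul, smul_add l (l' • (s • v + v))]
            have : l • l' • (s • v + v) + l • (s • v + v) + (l • (s • v + v) + (s • v + v)) =
              l • l' • (s • v + v) + (l • (s • v + v) + l • (s • v + v)) + (s • v + v) := by abel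
            rw [this, h.vv0, add_zero]
          rw [e, h3 _ h5]
          exact add_mem h5 (h4 s hs v)
      inv_mem' := by
        rintro l ⟨h1, h2, h3, h4⟩
        refine ⟨H.inv_mem h1, fun s hs => ?_, fun d hd => ?_, fun s hs v => ?_⟩
        · have h5 := h2 s hs
          have e : l⁻¹ * (l * s) * l⁻¹ = l⁻¹ * (s * l) * l⁻¹ := by rw [h5]
          have e1 : l⁻¹ * (l * s) * l⁻¹ = s * l⁻¹ := by group
          have e2 : l⁻¹ * (s * l) * l⁻¹ = l⁻¹ * s := by group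
          rw [e1, e2] at e
          exact e.symm
        · rw [inv_smul_eq_iff, h3 d hd]
        · have h5 := h4 s hs v
          have e : l⁻¹ • (s • v + v) + (s • v + v) = l⁻¹ • (l • (s • v + v) + (s • v + v)) := by
            rw [smul_add l⁻¹ (l • (s • v + v)), inv_smul_smul, add_comm]
          rw [e]
          exact h.k.D_H _ (H.inv_mem h1) _ h5 }
  have hAL : A ≤ L := by
    intro a ha
    refine ⟨hAH ha, fun s hs => hm.comm a ha s hs.1, fun d hd => hDA hd a ha, fun s hs v => ?_⟩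
    have h1 := h.iso_A hA hAH hAM hcA v hs
    obtain ⟨w, hw, f, hf, he⟩ := AddSubgroup.mem_sup.1 h1
    have e : a • (s • v + v) + (s • v + v) = s • (a • v + v) + (a • v + v) := by
      rw [smul_add, smul_add, ← mul_smul, ← mul_smul, hm.comm a ha s hs.1]
      abel
    have h2 : a • (s • v + v) + (s • v + v) ∈ WW V H R := by
      rw [← he, smul_add, hf a ha]
      have : a • w + f + (w + f) = (a • w + w) + (f + f) := by abel
      rw [this, h.vv0, add_zero]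
      exact add_mem (smul_mem_WW (hAH ha) hw) hw
    rw [e] at h2 ⊢
    exact hcase s hs _ h2
  have hLR : ∀ r ∈ R, ∀ l ∈ L, r * l * r⁻¹ ∈ L := by
    rintro r hr l ⟨h1, h2, h3, h4⟩
    have hrH := h.a.RH hr
    refine ⟨H.mul_mem (H.mul_mem hrH h1) (H.inv_mem hrH), fun s hs => ?_, fun d hd => ?_, fun s hs v => ?_⟩
    · have h5 := h2 _ (hcs hs hrH)
      have e : r * (l * (r⁻¹ * s * r)) * r⁻¹ = r * (r⁻¹ * s * r * l) * r⁻¹ := by rw [h5]
      have e1 : r * (l * (r⁻¹ * s * r)) * r⁻¹ = r * l * r⁻¹ * s := by group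
      have e2 : r * (r⁻¹ * s * r * l) * r⁻¹ = s * (r * l * r⁻¹) := by group
      rwa [e1, e2] at e
    · rw [mul_smul, mul_smul, h3 _ (h.k.D_H _ (H.inv_mem hrH) d hd), smul_inv_smul]
    · have h5 := h4 _ (hcs hs hrH) (r⁻¹ • v)
      have e1 : (r⁻¹ * s * r) • r⁻¹ • v + r⁻¹ • v = r⁻¹ • (s • v + v) := by
        rw [smul_add, ← mul_smul, ← mul_smul]
        congr 2; group
      rw [e1] at h5
      have h6 := h.k.D_H r hrH _ h5
      have e2 : r • (l • r⁻¹ • (s • v + v) + r⁻¹ • (s • v + v)) =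
          (r * l * r⁻¹) • (s • v + v) + (s • v + v) := by
        rw [smul_add r (l • r⁻¹ • (s • v + v)), smul_inv_smul, ← mul_smul, ← mul_smul]
      rwa [e2] at h6
  have hHL : H ≤ R ⊔ L := by
    rw [← h.a.gen hAH hAM]
    exact sup_le le_sup_left (hAL.trans le_sup_right)
  obtain ⟨r, hr, l, hl, hxrl⟩ := exists_mul_of_sup hLR (hHL hx)
  -- `B₂ = B^{r⁻¹}`
  have hrH := h.a.RH hr
  have hB₂ : MulAut.conj r⁻¹ • B ∈ U := h.amb.cls.conj B hB r⁻¹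
  have hB₂R : MulAut.conj r⁻¹ • B ≤ R := by
    intro y hy
    rw [mem_conj, inv_inv] at hy
    have h1 := R.mul_mem (R.mul_mem (R.inv_mem hr) (hBR hy)) hr
    have e : r⁻¹ * (r * y * r⁻¹) * r = y := by group
    rwa [e] at h1
  have hB₂Q : ¬ MulAut.conj r⁻¹ • B ≤ QQ H R := by
    intro h1
    apply hBQ
    rw [conj_le_iff, inv_inv, h.conj_Q hrH] at h1
    exact h1
  have hmB₂ := h.amb.cls.mem _ hB₂
  have hAB₂ : ∀ a ∈ A, l * a * l⁻¹ ∈ MulAut.conj r⁻¹ • B := by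
    intro a ha
    rw [mem_conj, inv_inv, hxA, mem_conj, hxrl]
    have e : (r * l)⁻¹ * (r * (l * a * l⁻¹) * r⁻¹) * (r * l) = a := by group
    rwa [e]
  obtain ⟨s, hs, hs1⟩ : ∃ s ∈ A ⊓ QQ H R, s ≠ 1 := by
    by_contra hcon
    push Not at hcon
    have h1 : A ⊓ QQ H R = ⊥ := by
      rw [eq_bot_iff]
      intro s hs
      rw [mem_bot]
      exact hcon s hs
    rw [h1, Subgroup.card_bot] at hcA
    have := h.k.two_le
    omega
  have hsB₂ : s ∈ MulAut.conj r⁻¹ • B := by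
    have h1 : l⁻¹ * s * l = s := by
      rw [mul_assoc, ← hl.2.1 s hs]; group
    have h2 := hAB₂ s hs.1
    rw [hl.2.1 s hs] at h2
    have e : s * l * l⁻¹ = s := by group
    rwa [e] at h2
  intro v hv
  have hv2 : v ∈ Ee V (MulAut.conj r⁻¹ • B) := h.we' _ hB₂ hB₂R hv
  have hu : s • v + v ∈ fx V (MulAut.conj r⁻¹ • B) := hv2 s hsB₂
  have huA : s • v + v ∈ fx V A := by
    intro a ha
    have h1 := hAB₂ a ha
    have h2 := hl.2.2.2 s hs v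
    have e1 : l • (s • v + v) = (s • v + v) + (l • (s • v + v) + (s • v + v)) := by
      have : (s • v + v) + (l • (s • v + v) + (s • v + v)) =
        l • (s • v + v) + ((s • v + v) + (s • v + v)) := by abel
      rw [this, h.vv0, add_zero]
    have h3 : (l * a * l⁻¹) • (l • (s • v + v)) = l • (s • v + v) := by
      rw [e1, smul_add, hu _ h1, h.W₁_fx hB₂ hB₂R hB₂Q (h.k.DW h2) _ h1]
    have e2 : (l * a * l⁻¹) • (l • (s • v + v)) = l • a • (s • v + v) := by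
      rw [← mul_smul, ← mul_smul]
      congr 1; group
    rw [e2, smul_left_cancel_iff] at h3
    exact h3
  by_contra hvA
  exact hs1 (hm.inj v hvA s hs.1 huA)

/-- **(8a)** -/
theorem eight_a {A : Subgroup Y} (hA : A ∈ U) (hAH : A ≤ H) (hAM : ¬ A ≤ M) (hE : ¬ WW V H' R ≤ Ee V A)
    (hP : A ⊓ QQ H R ≤ P') (hP2 : P' ≤ (A ⊓ QQ H R) ⊔ QQ H' R) (hK : A ⊓ QQ H R ⊓ QQ H' R = ⊥)
    (hc : Nat.card ↥(A ⊓ QQ H R) = c) : WW V H' R ⊓ Ee V A ≤ W₁' := by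
  have hm := h.amb.cls.mem A hA
  rintro y ⟨hy, hyE⟩
  by_contra hy1
  have hcA : Nat.card A = c * c := by rw [h.card_opp hA hAH hAM, hc]
  have hmemK : ∀ s ∈ A, s ∈ QQ H R → s • y = y → s = 1 := by
    intro s hs hsQ hsy
    have h1 : s ∈ QQ H' R := by
      apply h.k'.free s (hP ⟨hs, hsQ⟩) y hy hy1
      rw [hsy, h.vv0]; exact zero_mem _
    have h2 : s ∈ A ⊓ QQ H R ⊓ QQ H' R := ⟨⟨hs, hsQ⟩, h1⟩
    rwa [hK, mem_bot] at h2
  obtain ⟨w₀, hw₀⟩ := hm.ne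
  obtain ⟨u, hu, h1⟩ := hm.surj w₀ hw₀ y hyE
  have huy : u • y = y := mem_self hm hu h1
  have hu1 : u ≠ 1 := by
    rintro rfl
    rw [one_smul, h.vv0, zero_add] at h1
    have h2 : A ⊓ QQ H R = ⊥ := by
      rw [eq_bot_iff]
      intro b hb
      rw [mem_bot]
      exact hmemK b hb.1 hb.2 (h1 b hb.1)
    rw [h2, Subgroup.card_bot] at hc
    have := h.k.two_le
    omega
  have huQ : u ∉ QQ H R := fun h2 => hu1 (hmemK u hu h2 huy)
  have hJ : ∀ x ∈ W₁', ∃ b ∈ A ⊓ QQ H R, b • y + y ∈ W₁' ∧ b • y + y + x ∈ D' := by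
    intro x hx
    obtain ⟨p, hp, h2, h3⟩ := h.exists_onto hy hy1 hx
    obtain ⟨b, hb, q, hq, rfl⟩ := h.cover_mul hA hAH hAM hP2 hp
    rw [mul_smul, Amal.QQ_fix h.a' h.amb hq hy] at h2 h3
    exact ⟨b, hb, h2, h3⟩
  have hQQ : QQ H R ⊓ QQ H' R = ⊥ := by
    apply h.four (hAH hu) (hm.sq u hu) (h.not_M hA hAH hAM hu huQ) hy hy1 huy
    intro x hx
    obtain ⟨b, hb, h2, h3⟩ := hJ x hx
    exact ⟨_, h2, h3, hyE b hb.1 u hu⟩
  obtain ⟨x, hx, hxM, h1', h2', h3'⟩ := h.exists_x hA hAH hAM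
  obtain ⟨B, hBeq⟩ : ∃ B, B = MulAut.conj x • A := ⟨_, rfl⟩
  rw [← hBeq] at h1' h2' h3'
  have hcB : Nat.card B = c * c := by rw [hBeq, conj_card]; exact hcA
  have c1 := h.card_BQ h1' h2' h3' hcB
  have hBQ' := h.not_le_Q' hQQ c1
  have hSn : ∀ z ∈ H, ∀ s ∈ A ⊓ QQ H R, z * s * z⁻¹ ∈ A ⊓ QQ H R := fun z hz s hs =>
    h.S_norm hQQ hA hAH hAM hP hc hz hs
  have le1 := h.five_le hQQ h1' h2' h3' hBQ' hcB
  have le2 := h.swap.five_le (by rw [inf_comm]; exact hQQ) h1' h2' hBQ' h3' hcB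
  -- `I ∩ D = 0`
  have hID : ∀ v ∈ cmK P (WW V H R), v ∈ D → v = 0 := by
    by_cases hcase : ∀ s ∈ A ⊓ QQ H R, ∀ v : V, s • v + v ∈ WW V H R → s • v + v ∈ D
    · exact absurd (h.le_Ee_of hA hAH hAM h1' h2' h3' hx hBeq hc hSn hcase) hE
    · push Not at hcase
      obtain ⟨s, hs, v₁, hv1, hv2⟩ := hcase
      have hsB' : s ∈ B := by
        rw [hBeq, mem_conj]
        have := hSn x⁻¹ (H.inv_mem hx) s hs
        rw [inv_inv] at this
        exact this.1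
      have hsB : s ∈ B ⊓ QQ H R := ⟨hsB', hs.2⟩
      exact fun v hv hvD => h.cm_inf_of hA hAH hAM h1' h2' h3' hcB hx hBeq hs hsB hv1 hv2 hv hvD
  apply h.no_common hAH hAM le1
  intro j hj
  obtain ⟨b, hb, h2, h3⟩ := hJ j (h.swap.cm_le_W₁ hj)
  have h4 : b • y + y ∈ cmK P' (WW V H' R) := mem_cm (hP hb) hy
  have h5 : t • (b • y + y + j) = 0 := hID _ (h.swap.t_cm (add_mem h4 hj)) (h.swap.t_D h3)
  rw [smul_eq_zero_iff_eq, HE.add_eq_zero' h.amb.two] at h5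
  rw [← h5]
  exact hyE b hb.1

end TwoK

end Cfsg.Agent.Omega.NO1.TH

end

section


/-!
# N1, the amalgam `(H, H^t)`, `k = 1` (bb OMEGA 20297, helper503): the theorem

`TwoK.main` : for every opposite member `A` : `W' ≰ E_A`, `A ∩ Q ∩ Q' = 1`, `|A ∩ Q| = c`, `|A| = c²`,
`P' = (A ∩ Q) Q'`, `W' ∩ E_A ≤ W₁'`; `TwoK.main_top` : with `|V : E_A|² ≤ |A|` also `|V : E_A| = c`, `V = W' + E_A`.
-/

set_option autoImplicit false
set_option linter.unusedSectionVars false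

namespace Cfsg.Agent.Omega.NO1.TH

open Subgroup Cfsg.Agent.Omega.NO1.AB
open scoped Pointwise

universe u

variable {Y : Type u} [Group Y] {V : Type u} [AddCommGroup V] [DistribMulAction Y V]

namespace TwoK

variable [Finite Y] [Finite V] {U : Set (Subgroup Y)} {T : Sylow 2 Y} {M H H' R P P' : Subgroup Y}
  {D D' W₁ W₁' : AddSubgroup V} {c : ℕ} {t : Y} (h : TwoK V U T M H H' R P P' D D' W₁ W₁' c t)
include h

theorem in15 {A : Subgroup Y} (hA : A ∈ U) (hAH : A ≤ H) (hAM : ¬ A ≤ M) (hE : WW V H' R ≤ Ee V A) :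
    In15 V H H' R P' W₁' c A where
  one_a := by
    rw [mul_comm, (h.one_aux hA hAH hAM hE).1, inf_comm (WW V H' R)]
  one_b := fun v hv hK => by
    rw [← h.one hA hAH hAM hE]
    exact ⟨fun k hk => hK k hk, hv⟩
  two_a := (h.two_all hA hAH hAM hE).1
  three := by
    refine ⟨cmK P (WW V H R), h.cm_le_W₁.trans h.k.W₁W, ?_, ?_⟩
    · intro x hx hxA
      have h1 : x ∈ cmK P (WW V H R) ⊓ fx V A := ⟨hx, hxA⟩
      rw [(h.two_inf hA hAH hAM hE hA hAH hAM).1, AddSubgroup.mem_bot] at h1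
      exact h1
    · intro v hv k hk
      apply h.three hA hAH hAM hE hk.1.2 hk.2
      exact hv
  four := by
    by_cases hQ : QQ H R ⊓ QQ H' R = ⊥
    · exact Or.inr hQ
    · refine Or.inl fun y hy hy1 u hu huy => ?_
      have huQ : u ∈ QQ H R := by
        by_contra huQ
        exact hQ (h.four_opp hA hAH hAM hE hu huQ hy hy1 huy)
      refine ⟨⟨hu, huQ⟩, ?_⟩
      apply h.k'.free u ((h.two_all hA hAH hAM hE).1 ⟨hu, huQ⟩) y hy hy1
      rw [huy, h.vv0]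
      exact zero_mem _
  five := fun hQQ hc => h.five hA hAH hAM hE hQQ hc

/-- **bb OMEGA 20297** -/
theorem main {A : Subgroup Y} (hA : A ∈ U) (hAH : A ≤ H) (hAM : ¬ A ≤ M) : Out8 V H H' R P' W₁' c A := by
  apply h.out (fun A hA hAH hAM hE => h.in15 hA hAH hAM hE) _ hA hAH hAM
  intro B hB hBH hBM hE hP y hy hyE
  obtain ⟨h1, h2, h3, -⟩ := h.eight hB hBH hBM hE
  refine h.eight_a hB hBH hBM hE hP ?_ h1 h2 ⟨hy, hyE⟩
  intro r hr
  obtain ⟨b, hb, q, hq, rfl⟩ := exists_mul_of_card h.k'.QP hP h.k'.card_P (by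
    rw [h1, Subgroup.card_bot, mul_one, h2]) hr
  exact mul_mem (mem_sup_left hb) (mem_sup_right hq)

/-- **bb OMEGA 20297**, `c = a`, `V = W' + E_A` -/
theorem main_top {A : Subgroup Y} (hA : A ∈ U) (hAH : A ≤ H) (hAM : ¬ A ≤ M) {a : ℕ}
    (hV : Nat.card V = a * Nat.card ↥(Ee V A)) (hpf : a * a ≤ Nat.card A) :
    a = c ∧ WW V H' R ⊔ Ee V A = ⊤ ∧ WW V H' R ⊓ Ee V A = W₁' := by
  have o := h.main hA hAH hAM
  have hm := h.amb.cls.mem A hA
  have h1 : a ≤ c := by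
    rw [o.cA] at hpf
    by_contra h2
    push Not at h2
    nlinarith [h.c_pos]
  have h2 := card_sup_as (WW V H' R) (Ee V A)
  have h3 : WW V H' R ⊓ Ee V A ≤ W₁' := fun y hy => o.cap y hy.1 hy.2
  have h4 := Nat.card_le_card_of_injective _ (AddSubgroup.inclusion_injective h3)
  have h5 : Nat.card ↥(WW V H' R ⊔ Ee V A) ≤ Nat.card V :=
    Nat.card_le_card_of_injective _ Subtype.val_injective
  have hE0 : 0 < Nat.card ↥(Ee V A) := Nat.card_pos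
  have hW0 : 0 < Nat.card W₁' := Nat.card_pos
  have hI0 : 0 < Nat.card ↥(WW V H' R ⊓ Ee V A) := Nat.card_pos
  rw [h.k'.card_W] at h2
  rw [hV] at h5
  have h6 : c ≤ a := by
    apply Nat.le_of_mul_le_mul_right _ (Nat.mul_pos hW0 hE0)
    calc c * (Nat.card W₁' * Nat.card ↥(Ee V A)) = c * Nat.card W₁' * Nat.card ↥(Ee V A) := by ring
      _ = Nat.card ↥(WW V H' R ⊔ Ee V A) * Nat.card ↥(WW V H' R ⊓ Ee V A) := h2.symm
      _ ≤ a * Nat.card ↥(Ee V A) * Nat.card W₁' := Nat.mul_le_mul h5 h4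
      _ = _ := by ring
  have h7 : a = c := le_antisymm h1 h6
  subst h7
  have h8 : Nat.card ↥(WW V H' R ⊔ Ee V A) = a * Nat.card ↥(Ee V A) ∧
      Nat.card ↥(WW V H' R ⊓ Ee V A) = Nat.card W₁' := by
    have h9 : a * Nat.card ↥(Ee V A) * Nat.card W₁' =
        Nat.card ↥(WW V H' R ⊔ Ee V A) * Nat.card ↥(WW V H' R ⊓ Ee V A) := by rw [h2]; ring
    have ha0 : 0 < a * Nat.card ↥(Ee V A) := Nat.mul_pos h.c_pos hE0
    constructor
    · apply le_antisymm h5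
      apply Nat.le_of_mul_le_mul_right _ hW0
      rw [h9]
      exact Nat.mul_le_mul_left _ h4
    · apply le_antisymm h4
      apply Nat.le_of_mul_le_mul_left _ ha0
      rw [h9]
      exact Nat.mul_le_mul_right _ h5
  refine ⟨rfl, ?_, ?_⟩
  · apply eq_of_le_as le_top
    have : Nat.card ↥(⊤ : AddSubgroup V) = Nat.card V := AddSubgroup.card_top
    rw [this, h8.1, hV]
  · exact eq_of_le_as h3 h8.2.ge

end TwoK

end Cfsg.Agent.Omega.NO1.TH

end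

section


/-!
# N1, the amalgam `(H, H^t)`, `k = 1`: THE END, (0'), (1') (bb OMEGA 20698, 21741)

`TwoE` : the input; (1') a member in `R` is in none or in both of `Q`, `Q'`.
-/

set_option autoImplicit false
set_option linter.unusedSectionVars false
set_option linter.unusedVariables false

namespace Cfsg.Agent.Omega.NO1.TH

open Subgroup Cfsg.Agent.Omega.NO1.AB
open scoped Pointwise

universe u

variable {Y : Type u} [Group Y] {V : Type u} [AddCommGroup V] [DistribMulAction Y V]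

/-- The input of THE END: `TwoK`, `c ≥ 4`, `|V : E_A| = c`, no offender. -/
structure TwoE (V : Type u) [AddCommGroup V] [DistribMulAction Y V] (U : Set (Subgroup Y)) (T : Sylow 2 Y)
    (M H H' R P P' : Subgroup Y) (D D' W₁ W₁' : AddSubgroup V) (c : ℕ) (t : Y) : Prop
    extends TwoK V U T M H H' R P P' D D' W₁ W₁' c t where
  four : 4 ≤ c
  ind : ∀ A ∈ U, Nat.card V = c * Nat.card ↥(Ee V A)
  noff : ∀ A : Subgroup Y, ElAb A → A ≠ ⊥ → Nat.card A < (fx V A).index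

theorem TwoE.swap {U : Set (Subgroup Y)} {T : Sylow 2 Y} {M H H' R P P' : Subgroup Y} {D D' W₁ W₁' : AddSubgroup V}
    {c : ℕ} {t : Y} (h : TwoE V U T M H H' R P P' D D' W₁ W₁' c t) :
    TwoE V U T M H' H R P' P D' D W₁' W₁ c t :=
  { h.toTwoK.swap with
    four := h.four
    ind := h.ind
    noff := h.noff }

theorem bk_comm {a b : Y} (hab : a * b = b * a) (v : V) : bk a (bk b v) = bk b (bk a v) := by
  simp only [bk_apply, smul_add, ← mul_smul, hab]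
  abel

namespace TwoK

variable [Finite Y] [Finite V] {U : Set (Subgroup Y)} {T : Sylow 2 Y} {M H H' R P P' : Subgroup Y}
  {D D' W₁ W₁' : AddSubgroup V} {c : ℕ} {t : Y} (h : TwoK V U T M H H' R P P' D D' W₁ W₁' c t)
include h

theorem exists_W₁ : ∃ w ∈ W₁, w ∉ D := by
  by_contra hcon
  push Not at hcon
  have h4 : W₁ = D := le_antisymm hcon h.k.DW
  have h5 := h.k.card_W₁
  rw [h4] at h5
  have h6 : 0 < Nat.card D := Nat.card_pos
  have h7 := h.k.two_le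
  nlinarith

theorem smul_W₁ {x : Y} (hx : x ∈ H) (hxM : x ∈ M) : x • W₁ = W₁ := smul_of_mem fun w hw => h.k.stab x hx hxM w hw

theorem conj_le_H {A : Subgroup Y} {x : Y} (hx : x ∈ H) (hAH : A ≤ H) : MulAut.conj x • A ≤ H := by
  intro y hy
  rw [mem_conj] at hy
  have h1 := H.mul_mem (H.mul_mem hx (hAH hy)) (H.inv_mem hx)
  have e : x * (x⁻¹ * y * x) * x⁻¹ = y := by group
  rwa [e] at h1

theorem conj_not_Q {A : Subgroup Y} {x : Y} (hx : x ∈ H) (hAQ : ¬ A ≤ QQ H R) : ¬ MulAut.conj x • A ≤ QQ H R := by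
  intro h1
  apply hAQ
  rw [conj_le_iff, h.conj_Q (H.inv_mem hx)] at h1
  exact h1

theorem WF_conj {A : Subgroup Y} {x : Y} (hx : x ∈ H) :
    WW V H R ⊓ fx V (MulAut.conj x • A) = x • (WW V H R ⊓ fx V A) := by
  rw [fx_conj, smul_inf_as, smul_WW hx]

/-- a member in `H ∩ M` fixes `W₁` -/
theorem WF_M {A : Subgroup Y} (hA : A ∈ U) (hAH : A ≤ H) (hAQ : ¬ A ≤ QQ H R) (hAM : A ≤ M) :
    WW V H R ⊓ fx V A = W₁ := by
  obtain ⟨m, hm, hmR⟩ := conj_into (X := H ⊓ M) (le_inf h.a.RH h.RM) h.a.R2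
    (fun R' h1 h2 => h.a.card_le h.a.bad.ne le_rfl (h1.trans inf_le_left) h2) (le_inf hAH hAM)
    (h.amb.cls.mem A hA).isPGroup
  have h1 := h.WF_conj (A := A) hm.1
  have h2 := h.conj_not_Q hm.1 hAQ
  have hU := h.amb.cls.conj A hA m
  have h3 : WW V H R ⊓ fx V (MulAut.conj m • A) = W₁ := by
    apply le_antisymm
    · rintro w ⟨hw, hwF⟩
      exact h.fx_W₁ hU hmR h2 hw hwF
    · exact le_inf h.k.W₁W (h.W₁_fx hU hmR h2)
  rw [h3] at h1
  have h4 : m⁻¹ • W₁ = m⁻¹ • m • (WW V H R ⊓ fx V A) := by rw [← h1]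
  rw [smul_smul_as, inv_mul_cancel, one_smul, h.smul_W₁ (H.inv_mem hm.1) (M.inv_mem hm.2)] at h4
  exact h4.symm

theorem exists_H : ∃ x ∈ H, x ∉ M := SetLike.not_le_iff_exists.1 (Amal.H_not_le h.a h.amb)

/-- a member in `H` which is not in `Q` has an opposite conjugate -/
theorem exists_opp {A : Subgroup Y} (hA : A ∈ U) (hAH : A ≤ H) (hAQ : ¬ A ≤ QQ H R) :
    ∃ x ∈ H, MulAut.conj x • A ∈ U ∧ MulAut.conj x • A ≤ H ∧ ¬ MulAut.conj x • A ≤ M := by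
  by_contra hcon
  have hcon' : ∀ x ∈ H, MulAut.conj x • A ≤ M := by
    intro x hx
    by_contra h1
    exact hcon ⟨x, hx, h.amb.cls.conj A hA x, h.conj_le_H hx hAH, h1⟩
  obtain ⟨x, hx, hxM⟩ := h.exists_H
  have h1 : A ≤ M := by
    have := hcon' 1 H.one_mem
    rwa [map_one, one_smul] at this
  have h2 := h.WF_conj (A := A) hx
  rw [h.WF_M hA hAH hAQ h1, h.WF_M (h.amb.cls.conj A hA x) (h.conj_le_H hx hAH) (h.conj_not_Q hx hAQ) (hcon' x hx)] at h2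
  obtain ⟨w, hw, hwD⟩ := h.exists_W₁
  apply hwD
  apply h.k.opp x hx hxM w hw
  rw [h2]
  exact smul_mem_smul_as hw

/-- an opposite member -/
theorem exists_A : ∃ A ∈ U, A ≤ H ∧ ¬ A ≤ M := by
  obtain ⟨B, hB, hBR, hBQ⟩ := Amal.exists_not_QQ h.a h.amb
  obtain ⟨x, -, h1, h2, h3⟩ := h.exists_opp hB (hBR.trans h.a.RH) hBQ
  exact ⟨_, h1, h2, h3⟩

theorem card_AQ {A : Subgroup Y} (hA : A ∈ U) (hAH : A ≤ H) (hAQ : ¬ A ≤ QQ H R) :
    Nat.card ↥(A ⊓ QQ H R) = c := by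
  obtain ⟨x, hx, h1, h2, h3⟩ := h.exists_opp hA hAH hAQ
  rw [← (h.main h1 h2 h3).cB, ← conj_card x (A ⊓ QQ H R), conj_inf, h.conj_Q hx]

theorem card_A' {A : Subgroup Y} (hA : A ∈ U) (hAH : A ≤ H) (hAQ : ¬ A ≤ QQ H R) :
    Nat.card A = c * c := by
  rw [h.card_mem hA hAH hAQ, h.card_AQ hA hAH hAQ]

theorem pre_eq {A : Subgroup Y} (hA : A ∈ U) (hAH : A ≤ H) (hAQ : ¬ A ≤ QQ H R) {w : V} (hw : w ∉ Ee V A) :
    pre A w (WW V H R ⊔ fx V A) = (A ⊓ QQ H R : Subgroup Y) := by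
  apply Set.eq_of_subset_of_ncard_le (h.pre_sub hA hAH hAQ hw) _ (Set.toFinite _)
  change Nat.card ↥(A ⊓ QQ H R) ≤ Nat.card (pre A w (WW V H R ⊔ fx V A))
  rw [h.card_pre' hA hAH hAQ hw, h.card_AQ hA hAH hAQ]

theorem mem_Q_of {A : Subgroup Y} (hA : A ∈ U) (hAH : A ≤ H) (hAQ : ¬ A ≤ QQ H R) {w : V} (hw : w ∉ Ee V A)
    {s : Y} (hs : s ∈ A) (h1 : s • w + w ∈ WW V H R ⊔ fx V A) : s ∈ QQ H R := by
  have h2 : s ∈ pre A w (WW V H R ⊔ fx V A) := ⟨hs, h1⟩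
  rw [h.pre_eq hA hAH hAQ hw] at h2
  exact h2.2

theorem comm_Q {A : Subgroup Y} (hA : A ∈ U) (hAH : A ≤ H) (hAQ : ¬ A ≤ QQ H R) (w : V)
    {s : Y} (hs : s ∈ A) (hsQ : s ∈ QQ H R) : s • w + w ∈ WW V H R ⊔ fx V A := by
  by_cases hw : w ∈ Ee V A
  · exact AddSubgroup.mem_sup_right (hw s hs)
  have h2 : s ∈ ((A ⊓ QQ H R : Subgroup Y) : Set Y) := ⟨hs, hsQ⟩
  rw [← h.pre_eq hA hAH hAQ hw] at h2
  exact h2.2

/-- `[E_A, A ∩ Q] ≤ W` -/
theorem comm_E {A : Subgroup Y} (hA : A ∈ U) (hAH : A ≤ H) (hAQ : ¬ A ≤ QQ H R) {e : V} (he : e ∈ Ee V A)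
    {b : Y} (hb : b ∈ A) (hbQ : b ∈ QQ H R) : b • e + e ∈ WW V H R := by
  have hm := h.amb.cls.mem A hA
  obtain ⟨w, hw⟩ := hm.ne
  obtain ⟨s, hs, h1⟩ := hm.surj w hw e he
  have e1 : e = bk s w + (s • w + w + e) := by
    rw [bk_apply, ← add_assoc, h.two, zero_add]
  obtain ⟨x, hx, f, hf, hxf⟩ := AddSubgroup.mem_sup.1 (h.comm_Q hA hAH hAQ w hb hbQ)
  have e2 : b • e + e = bk b (bk s w) := by
    change bk b e = _
    conv_lhs => rw [e1]
    rw [map_add, bk_apply b (s • w + w + e), h1 b hb, h.two, add_zero]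
  have e3 : bk b w = x + f := by rw [bk_apply, hxf]
  rw [e2, bk_comm (hm.comm b hb s hs), e3, map_add, bk_apply s f, hf s hs, h.two, add_zero, bk_apply]
  exact add_mem (smul_mem_WW (hAH hs) hx) hx

/-- `C_V(b) = W + F_A` for `1 ≠ b ∈ A ∩ Q` -/
theorem cent_b {A : Subgroup Y} (hA : A ∈ U) (hAH : A ≤ H) (hAQ : ¬ A ≤ QQ H R) {b : Y} (hb : b ∈ A)
    (hbQ : b ∈ QQ H R) (hb1 : b ≠ 1) {v : V} (hv : b • v = v) : v ∈ WW V H R ⊔ fx V A := by
  have hm := h.amb.cls.mem A hA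
  have hvE := mem_E_of_fix hm h.two hb hb1 hv
  obtain ⟨w, hw⟩ := hm.ne
  obtain ⟨s, hs, h1⟩ := hm.surj w hw v hvE
  obtain ⟨x, hx, f, hf, hxf⟩ := AddSubgroup.mem_sup.1 (h.comm_Q hA hAH hAQ w hb hbQ)
  have hxF : x ∉ fx V A := by
    intro h2
    exact hb1 (hm.inj w hw b hb (by rw [← hxf]; exact add_mem h2 hf))
  have e1 : v = bk s w + (s • w + w + v) := by
    rw [bk_apply, ← add_assoc, h.two, zero_add]
  -- `[x, s] = 0`
  have e2 : bk b v = bk s x := by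
    have e3 : bk b w = x + f := by rw [bk_apply, hxf]
    conv_lhs => rw [e1]
    rw [map_add, bk_apply b (s • w + w + v), h1 b hb, h.two, add_zero, bk_comm (hm.comm b hb s hs), e3, map_add,
      bk_apply s f, hf s hs, h.two, add_zero]
  have e4 : s • x = x := by
    rw [bk_apply, bk_apply, hv, h.two] at e2
    exact (HE.add_eq_zero' h.two).1 e2.symm
  have h3 := h.cent hA hAH hAQ hx hxF hs e4
  rw [e1]
  exact add_mem (h.comm_Q hA hAH hAQ w hs h3) (AddSubgroup.mem_sup_right h1)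

/-- members which are not in `Q'` and fix ... : `cmK P W = cmK B W` -/
theorem cm_eq {B : Subgroup Y} (hB : B ∈ U) (hBR : B ≤ R) (hBQ : ¬ B ≤ QQ H R) :
    cmK P (WW V H R) = cmK B (WW V H R) := by
  obtain ⟨h1, h2⟩ := h.k.cover B hB hBR hBQ
  apply le_antisymm
  · apply cm_le
    intro p hp w hw
    obtain ⟨b, hb, q, hq, rfl⟩ := exists_mul_of_sup
      (fun b hb q hq => conj_mem_QQ (h.a.RH (hBR hb)) hq) (h2 hp)
    rw [mul_smul, Amal.QQ_fix h.a h.amb hq hw]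
    exact mem_cm hb hw
  · apply cm_le
    intro p hp w hw
    exact mem_cm (h1 hp) hw

end TwoK

namespace TwoE

variable [Finite Y] [Finite V] {U : Set (Subgroup Y)} {T : Sylow 2 Y} {M H H' R P P' : Subgroup Y}
  {D D' W₁ W₁' : AddSubgroup V} {c : ℕ} {t : Y} (h : TwoE V U T M H H' R P P' D D' W₁ W₁' c t)
include h

theorem top {A : Subgroup Y} (hA : A ∈ U) (hAH : A ≤ H) (hAM : ¬ A ≤ M) : WW V H' R ⊔ Ee V A = ⊤ :=
  (h.main_top hA hAH hAM (h.ind A hA) (h.main hA hAH hAM).cA.ge).2.1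

/-- `[V, A ∩ Q] ≤ W + [W', P']` -/
theorem comm_opp {A : Subgroup Y} (hA : A ∈ U) (hAH : A ≤ H) (hAM : ¬ A ≤ M) {b : Y} (hb : b ∈ A)
    (hbQ : b ∈ QQ H R) (v : V) : b • v + v ∈ WW V H R ⊔ cmK P' (WW V H' R) := by
  have hv : v ∈ WW V H' R ⊔ Ee V A := by rw [h.top hA hAH hAM]; exact AddSubgroup.mem_top v
  obtain ⟨w, hw, e, he, rfl⟩ := AddSubgroup.mem_sup.1 hv
  have e1 : b • (w + e) + (w + e) = (b • e + e) + (b • w + w) := by rw [smul_add]; abel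
  rw [e1]
  exact AddSubgroup.add_mem_sup (h.comm_E hA hAH (h.not_Q hAM) he hb hbQ)
    (mem_cm ((h.main hA hAH hAM).BP ⟨hb, hbQ⟩) hw)

/-- `[[W', P'], A] ≤ W` -/
theorem cm_opp {A : Subgroup Y} (hA : A ∈ U) (hAH : A ≤ H) (hAM : ¬ A ≤ M) {a : Y} (ha : a ∈ A) {z : V}
    (hz : z ∈ cmK P' (WW V H' R)) : a • z + z ∈ WW V H R := by
  have hm := h.amb.cls.mem A hA
  have key : cmK P' (WW V H' R) ≤ (WW V H R).comap (bk a) := by
    apply cm_le
    intro p hp w hw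
    obtain ⟨b, hb, q, hq, rfl⟩ := (h.main hA hAH hAM).mul p hp
    rw [mul_smul, Amal.QQ_fix h.a' h.amb hq hw]
    change bk a (bk b w) ∈ WW V H R
    rw [bk_comm (hm.comm a ha b hb.1)]
    exact h.comm_E hA hAH (h.not_Q hAM) (hm.VB a ha w) hb.1 hb.2
  exact key hz

/-- `W + [W', P']` is `H`-invariant -/
theorem Wp_H {x : Y} (hx : x ∈ H) {v : V} (hv : v ∈ WW V H R ⊔ cmK P' (WW V H' R)) :
    x • v ∈ WW V H R ⊔ cmK P' (WW V H' R) := by
  obtain ⟨A, hA, hAH, hAM⟩ := h.exists_A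
  have h1 : ∀ u ∈ R, ∀ n ∈ WW V H R ⊔ cmK P' (WW V H' R), u • n ∈ WW V H R ⊔ cmK P' (WW V H' R) := by
    intro u hu n hn
    obtain ⟨w, hw, z, hz, rfl⟩ := AddSubgroup.mem_sup.1 hn
    rw [smul_add]
    exact AddSubgroup.add_mem_sup (smul_mem_WW (h.a.RH hu) hw) (h.cm_R hu hz)
  have h2 : ∀ u ∈ A, ∀ n ∈ WW V H R ⊔ cmK P' (WW V H' R), u • n ∈ WW V H R ⊔ cmK P' (WW V H' R) := by
    intro u hu n hn
    obtain ⟨w, hw, z, hz, rfl⟩ := AddSubgroup.mem_sup.1 hn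
    have e1 : u • (w + z) = (u • w + (u • z + z)) + z := by
      rw [smul_add, add_assoc, add_assoc, h.two, add_zero]
    rw [e1]
    exact AddSubgroup.add_mem_sup (add_mem (smul_mem_WW (hAH hu) hw) (h.cm_opp hA hAH hAM hu hz)) hz
  have h3 := inv_sup h1 h2
  rw [h.a.gen hAH hAM] at h3
  exact h3 x hx v hv

theorem smul_Wp {x : Y} (hx : x ∈ H) : x • (WW V H R ⊔ cmK P' (WW V H' R)) = WW V H R ⊔ cmK P' (WW V H' R) :=
  smul_of_mem fun _ hv => h.Wp_H hx hv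

theorem comm_Wp {A : Subgroup Y} (hA : A ∈ U) (hAH : A ≤ H) (hAQ : ¬ A ≤ QQ H R) {b : Y} (hb : b ∈ A)
    (hbQ : b ∈ QQ H R) (v : V) : b • v + v ∈ WW V H R ⊔ cmK P' (WW V H' R) := by
  obtain ⟨x, hx, h1, h2, h3⟩ := h.exists_opp hA hAH hAQ
  have h4 := h.comm_opp h1 h2 h3 (conj_mem_conj (g := x) hb) (conj_mem_QQ hx hbQ) (x • v)
  have e : (x * b * x⁻¹) • x • v + x • v = x • (b • v + v) := by
    rw [smul_add, ← mul_smul, ← mul_smul]
    congr 2; group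
  rw [e, ← h.smul_Wp hx, mem_smul_as, inv_smul_smul] at h4
  exact h4

/-- `A ∩ Q` centralises `W + [W', P']` -/
theorem fix_Wp {A : Subgroup Y} (hA : A ∈ U) (hAH : A ≤ H) (hAQ : ¬ A ≤ QQ H R) {b : Y} (hb : b ∈ A)
    (hbQ : b ∈ QQ H R) {v : V} (hv : v ∈ WW V H R ⊔ cmK P' (WW V H' R)) : b • v = v := by
  obtain ⟨x, hx, h1, h2, h3⟩ := h.exists_opp hA hAH hAQ
  have h5 := h.Wp_H hx hv
  obtain ⟨w, hw, z, hz, hwz⟩ := AddSubgroup.mem_sup.1 h5
  have h6 : x * b * x⁻¹ ∈ P' := (h.main h1 h2 h3).BP ⟨conj_mem_conj hb, conj_mem_QQ hx hbQ⟩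
  have h7 : (x * b * x⁻¹) • x • v = x • v := by
    rw [← hwz, smul_add, Amal.QQ_fix h.a h.amb (conj_mem_QQ hx hbQ) hw,
      h.k'.P_fix _ h6 z (h.swap.cm_le_W₁ hz)]
  have e : (x * b * x⁻¹) • x • v = x • b • v := by
    rw [← mul_smul, ← mul_smul]; congr 1; group
  rw [e] at h7
  exact smul_left_cancel x h7

/-- **(1')** a member in `R` which is not in `Q` is not in `Q'` -/
theorem not_Q' {B : Subgroup Y} (hB : B ∈ U) (hBR : B ≤ R) (hBQ : ¬ B ≤ QQ H R) : ¬ B ≤ QQ H' R := by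
  intro hBQ'
  have hm := h.amb.cls.mem B hB
  have hBH : B ≤ H := hBR.trans h.a.RH
  obtain ⟨hBP, -⟩ := h.k.cover B hB hBR hBQ
  obtain ⟨A, hA, hAH, hAM⟩ := h.swap.exists_A
  obtain ⟨a, ha, haQ⟩ := h.swap.star hA hAH hAM
  have haP : a ∈ P := (h.swap.main hA hAH hAM).BP ha
  have haa : a * a = 1 := (h.amb.cls.mem A hA).sq a ha.1
  -- `B` centralises `[V, a]`
  have hba : ∀ b ∈ B, ∀ v : V, bk b (bk a v) = 0 := by
    intro b hb v
    obtain ⟨w, hw, z, hz, hwz⟩ := AddSubgroup.mem_sup.1 (h.swap.comm_opp hA hAH hAM ha.1 ha.2 v)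
    rw [bk_apply a, ← hwz, bk_apply, smul_add, Amal.QQ_fix h.a' h.amb (hBQ' hb) hw,
      h.k.P_fix b (hBP hb) z (h.cm_le_W₁ hz), h.two]
  have hbb : ∀ b ∈ B ⊓ QQ H R, ∀ b' ∈ B ⊓ QQ H R, ∀ v : V, bk b (bk b' v) = 0 := by
    intro b hb b' hb' v
    rw [bk_apply b, bk_apply b', h.fix_Wp hB hBH hBQ hb.1 hb.2 (h.comm_Wp hB hBH hBQ hb'.1 hb'.2 v), h.two]
  have hy : ∀ b ∈ B, ∀ v : V, (a * b * a * b) • v = v + bk a (bk b v) := by
    intro b hb v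
    have h1 := hba b hb (b • v)
    rw [bk_apply b] at h1
    have h2 : b • bk a (b • v) = bk a (b • v) := (HE.add_eq_zero' h.two).1 h1
    have h3 : a • b • v = bk a (b • v) + b • v := by
      rw [bk_apply, add_assoc, h.two, add_zero]
    have h4 : b • b • v = v := by rw [← mul_smul, hm.sq b hb, one_smul]
    have h5 : a • a • b • v = b • v := by rw [← mul_smul, haa, one_smul]
    rw [mul_smul, mul_smul, mul_smul, h3, smul_add, h2, h4, bk_apply, bk_apply, bk_apply]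
    simp only [smul_add]
    rw [h5]
    have e : b • v + a • b • v + a • v = v + v + (b • v + a • b • v + a • v) := by rw [h.two, zero_add]
    rw [e]
    abel
  have hmul : ∀ b ∈ B ⊓ QQ H R, ∀ b' ∈ B ⊓ QQ H R, ∀ v : V, bk (b * b') v = bk b v + bk b' v := by
    intro b hb b' hb' v
    have h1 := hbb b hb b' hb' v
    have h2 : bk (b * b') v = bk b v + bk b' v + bk b (bk b' v) := by
      simp only [bk_apply, smul_add, mul_smul]
      have e : b • v + v + (b' • v + v) + (b • b' • v + b • v + (b' • v + v)) =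
        (b • v + b • v) + (v + v) + (b' • v + b' • v) + (b • b' • v + v) := by abel
      rw [e]
      simp only [h.two, zero_add]
    rw [h2, h1, add_zero]
  let f : ↥(B ⊓ QQ H R) →* Y := MonoidHom.mk' (fun b => a * b * a * b) (by
    intro b b'
    have key : ∀ v : V, ((a * (b * b' : Y) * a * (b * b' : Y)) * (a * b * a * b * (a * b' * a * b'))⁻¹) • v = v := by
      intro v
      obtain ⟨x, hx⟩ : ∃ x : V, v = (a * b * a * b * (a * b' * a * b')) • x :=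
        ⟨_, (smul_inv_smul _ v).symm⟩
      rw [hx, ← mul_smul, inv_mul_cancel_right, hy _ (B.mul_mem b.2.1 b'.2.1), hmul b b.2 b' b'.2,
        mul_smul (a * (b : Y) * a * b), hy b' b'.2.1, hy b b.2.1]
      simp only [map_add]
      rw [hba b b.2.1, map_zero, add_zero]
      abel
    have h1 := h.amb.faith _ key
    rw [mul_inv_eq_one] at h1
    exact h1)
  have hf : ∀ b : ↥(B ⊓ QQ H R), ∀ v : V, f b • v = v + bk a (bk (b : Y) v) := fun b v => hy b b.2.1 v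
  have hinj : Function.Injective f := by
    rw [injective_iff_map_eq_one]
    intro b hb
    by_contra hb1
    have hb1' : (b : Y) ≠ 1 := fun h1 => hb1 (Subtype.ext h1)
    obtain ⟨v, hv⟩ := hm.ne
    have h1 := hf b v
    rw [hb, one_smul] at h1
    have h2 : bk a (bk (b : Y) v) = 0 := by
      have := h1
      nth_rewrite 1 [← add_zero v] at this
      exact (add_left_cancel this).symm
    obtain ⟨x, hx, z, hz, hxz⟩ := AddSubgroup.mem_sup.1 (h.comm_Wp hB hBH hBQ b.2.1 b.2.2 v)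
    have hz' : z ∈ WW V H' R := h.k'.W₁W (h.swap.cm_le_W₁ hz)
    have hzF : z ∈ fx V B := fun y hy => Amal.QQ_fix h.a' h.amb (hBQ' hy) hz'
    have hxF : x ∉ fx V B := by
      intro h3
      exact hb1' (hm.inj v hv b b.2.1 (by rw [← hxz]; exact add_mem h3 hzF))
    have h3 : bk a x = 0 := by
      rw [bk_apply (b : Y), ← hxz, map_add, bk_apply a z, Amal.QQ_fix h.a' h.amb ha.2 hz', h.two, add_zero] at h2
      exact h2
    apply haQ
    apply h.k.free a haP x hx (fun h4 => hxF fun y hy => h.k.P_fix y (hBP hy) x h4)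
    rw [bk_apply] at h3
    rw [h3]
    exact zero_mem _
  have hE : Ee V B ≤ fx V f.range := by
    rintro e he _ ⟨b, rfl⟩
    have h1 : bk (b : Y) e ∈ W₁ := h.fx_W₁ hB hBR hBQ (h.comm_E hB hBH hBQ he b.2.1 b.2.2)
      (hm.EB b b.2.1 e he)
    rw [hf, bk_apply a, h.k.P_fix a haP _ h1, h.two, add_zero]
  have hel : ElAb f.range := by
    constructor
    · rintro _ ⟨b, rfl⟩ _ ⟨b', rfl⟩
      rw [← map_mul, ← map_mul]
      congr 1
      exact Subtype.ext (hm.comm b b.2.1 b' b'.2.1)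
    · rintro _ ⟨b, rfl⟩
      rw [← map_mul]
      have h1 : b * b = 1 := Subtype.ext (hm.sq b b.2.1)
      rw [h1, map_one]
  have hcard : Nat.card f.range = c := by
    rw [← h.card_AQ hB hBH hBQ]
    exact (Nat.card_congr (MonoidHom.ofInjective hinj).toEquiv).symm
  have hne : f.range ≠ ⊥ := by
    intro h1
    rw [h1, Subgroup.card_bot] at hcard
    have := h.four
    omega
  have h1 := h.noff f.range hel hne
  have h2 := (fx V f.range).index_mul_card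
  have h3 := Nat.card_le_card_of_injective _ (AddSubgroup.inclusion_injective hE)
  rw [h.ind B hB] at h2
  have h4 : (fx V f.range).index ≤ c := by
    apply Nat.le_of_mul_le_mul_right _ (Nat.card_pos (α := ↥(Ee V B)))
    rw [← h2]
    exact Nat.mul_le_mul_left _ h3
  omega

end TwoE

end Cfsg.Agent.Omega.NO1.TH

end

section


/-!
# N1, the amalgam `(H, H^t)`, `k = 1`: THE END, (2') (bb OMEGA 20698, 21741)

`I = [W, P] = [W', P']` has order `c`; `[V, b] = N` for all members `A ≤ H`, `A ≰ Q`, `1 ≠ b ∈ A ∩ Q`; `W = D ⊕ N`.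
-/

set_option autoImplicit false
set_option linter.unusedSectionVars false
set_option linter.unusedVariables false

namespace Cfsg.Agent.Omega.NO1.TH

open Subgroup Cfsg.Agent.Omega.NO1.AB
open scoped Pointwise

universe u

variable {Y : Type u} [Group Y] {V : Type u} [AddCommGroup V] [DistribMulAction Y V]

/-- `B = K K'` if `K ∩ K' = 1`, `|K| = |K'| = c`, `|B| = c²` -/
theorem exists_mul_card [Finite Y] {B K K' : Subgroup Y} {c : ℕ} (hK : K ≤ B) (hK' : K' ≤ B) (hi : K ⊓ K' = ⊥)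
    (h1 : Nat.card K = c) (h2 : Nat.card K' = c) (h3 : Nat.card B = c * c) {u : Y} (hu : u ∈ B) :
    ∃ q ∈ K, ∃ q' ∈ K', u = q * q' := by
  let f : K × K' → B := fun p => ⟨(p.1 : Y) * p.2, B.mul_mem (hK p.1.2) (hK' p.2.2)⟩
  have hf : Function.Injective f := by
    rintro ⟨a, b⟩ ⟨a', b'⟩ hab
    have h4 : (a : Y) * b = a' * b' := congrArg Subtype.val hab
    have h5 : (a' : Y)⁻¹ * a = b' * (b : Y)⁻¹ := by
      rw [eq_mul_inv_iff_mul_eq, mul_assoc, h4]; group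
    have h6 : (a' : Y)⁻¹ * a ∈ K ⊓ K' := ⟨K.mul_mem (K.inv_mem a'.2) a.2, by
      rw [h5]; exact K'.mul_mem b'.2 (K'.inv_mem b.2)⟩
    rw [hi, mem_bot] at h6
    have h7 : (a : Y) = a' := (inv_mul_eq_one.1 h6).symm
    rw [h6] at h5
    have h8 : (b : Y) = b' := (mul_inv_eq_one.1 h5.symm).symm
    exact Prod.ext (Subtype.ext h7) (Subtype.ext h8)
  have hs : Function.Surjective f := by
    have h4 : Nat.card (K × K') = Nat.card B := by rw [Nat.card_prod, h1, h2, h3]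
    exact ((Nat.bijective_iff_injective_and_card f).2 ⟨hf, h4⟩).2
  obtain ⟨⟨a, b⟩, hab⟩ := hs ⟨u, hu⟩
  exact ⟨a, a.2, b, b.2, (congrArg Subtype.val hab).symm⟩

/-- `|φ X| |X ∩ ker φ| = |X|` -/
theorem card_map_bk [Finite V] (b : Y) (X : AddSubgroup V) :
    Nat.card ↥(X.map (bk b)) * Nat.card ↥(X ⊓ (bk b : V →+ V).ker) = Nat.card X := by
  have h1 := ((bk b : V →+ V).comp X.subtype).ker.card_eq_card_quotient_mul_card_addSubgroup
  rw [Nat.card_congr (QuotientAddGroup.quotientKerEquivRange _).toEquiv] at h1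
  have h2 : ((bk b : V →+ V).comp X.subtype).range = X.map (bk b) := by
    ext v
    constructor
    · rintro ⟨x, rfl⟩
      exact ⟨x, x.2, rfl⟩
    · rintro ⟨x, hx, rfl⟩
      exact ⟨⟨x, hx⟩, rfl⟩
  have h3 : Nat.card ↥(X ⊓ (bk b : V →+ V).ker) = Nat.card ((bk b : V →+ V).comp X.subtype).ker := by
    apply Nat.card_congr
    exact
      { toFun := fun v => ⟨⟨v, v.2.1⟩, v.2.2⟩
        invFun := fun v => ⟨v.1, v.1.2, v.2⟩
        left_inv := fun v => rfl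
        right_inv := fun v => rfl }
  rw [h2, ← h3] at h1
  exact h1.symm

theorem map_bk_conj (x b : Y) (X : AddSubgroup V) : (x • X).map (bk (x * b * x⁻¹)) = x • X.map (bk b) := by
  ext v
  rw [mem_smul_as]
  constructor
  · rintro ⟨y, hy, rfl⟩
    rw [SetLike.mem_coe, mem_smul_as] at hy
    refine ⟨x⁻¹ • y, hy, ?_⟩
    simp only [bk_apply, smul_add, ← mul_smul]
    congr 2
    group
  · rintro ⟨y, hy, hyv⟩
    refine ⟨x • y, smul_mem_smul_as hy, ?_⟩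
    rw [eq_inv_smul_iff] at hyv
    rw [← hyv]
    simp only [bk_apply, smul_add, ← mul_smul]
    congr 2
    group

theorem cm_conj {P : Subgroup Y} {W : AddSubgroup V} (x : Y) : cmK (MulAut.conj x • P) (x • W) = x • cmK P W := by
  apply le_antisymm
  · apply cm_le
    intro p hp w hw
    rw [mem_conj] at hp
    rw [mem_smul_as] at hw ⊢
    have e : x⁻¹ • (p • w + w) = (x⁻¹ * p * x) • x⁻¹ • w + x⁻¹ • w := by
      rw [smul_add, ← mul_smul, ← mul_smul]; congr 2; group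
    rw [e]
    exact mem_cm hp hw
  · intro v hv
    rw [mem_smul_as] at hv
    have h1 := smul_mem_cm (x := x) (P₂ := MulAut.conj x • P) (W₂ := x • W) (fun p hp => conj_mem_conj hp)
      (fun w hw => smul_mem_smul_as hw) hv
    rwa [smul_inv_smul] at h1

theorem bot_of_card_le [Finite V] {X Z : AddSubgroup V} (h : Nat.card ↥(X ⊔ Z) * Nat.card ↥(X ⊓ Z) = Nat.card X * Nat.card Z)
    (h1 : X ⊓ Z = ⊥) : Nat.card ↥(X ⊔ Z) = Nat.card X * Nat.card Z := by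
  rw [← h, h1]
  have : Nat.card ↥(⊥ : AddSubgroup V) = 1 := AddSubgroup.card_bot
  rw [this, mul_one]

theorem card_sup_dis [Finite V] {X Z : AddSubgroup V} (h1 : X ⊓ Z = ⊥) :
    Nat.card ↥(X ⊔ Z) = Nat.card X * Nat.card Z := bot_of_card_le (card_sup_as X Z) h1

namespace TwoE

variable [Finite Y] [Finite V] {U : Set (Subgroup Y)} {T : Sylow 2 Y} {M H H' R P P' : Subgroup Y}
  {D D' W₁ W₁' : AddSubgroup V} {c : ℕ} {t : Y} (h : TwoE V U T M H H' R P P' D D' W₁ W₁' c t)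
include h

theorem mul_of_bot {B : Subgroup Y} (hB : B ∈ U) (hBR : B ≤ R) (hBQ : ¬ B ≤ QQ H R)
    (hi : B ⊓ QQ H R ⊓ (B ⊓ QQ H' R) = ⊥) {u : Y} (hu : u ∈ B) :
    ∃ q ∈ B ⊓ QQ H R, ∃ q' ∈ B ⊓ QQ H' R, u = q * q' :=
  exists_mul_card inf_le_left inf_le_left hi (h.card_AQ hB (hBR.trans h.a.RH) hBQ)
    (h.swap.card_AQ hB (hBR.trans h.a'.RH) (h.not_Q' hB hBR hBQ)) (h.card_A' hB (hBR.trans h.a.RH) hBQ) hu

/-- `[W, B] ≤ [W', B]` -/
theorem cm_le_B {B : Subgroup Y} (hB : B ∈ U) (hBR : B ≤ R) (hBQ : ¬ B ≤ QQ H R) :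
    cmK B (WW V H R) ≤ cmK B (WW V H' R) := by
  have hm := h.amb.cls.mem B hB
  have hBQ' := h.not_Q' hB hBR hBQ
  have hBH := hBR.trans h.a.RH
  have hBH' := hBR.trans h.a'.RH
  by_cases hi : B ⊓ QQ H R ⊓ (B ⊓ QQ H' R) = ⊥
  · apply cm_le
    intro u hu w hw
    obtain ⟨q, hq, q', hq', rfl⟩ := h.mul_of_bot hB hBR hBQ hi hu
    obtain ⟨w0, hw0⟩ := hm.ne
    obtain ⟨s, hs, h1⟩ := hm.surj w0 hw0 w (h.a.WW_le_Ee h.amb h.we hB hBH hw)
    have h2 : s • w0 + w0 ∈ WW V H R ⊔ fx V B := by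
      have e : s • w0 + w0 = w + (s • w0 + w0 + w) := by
        have e1 : w + (s • w0 + w0 + w) = s • w0 + w0 + (w + w) := by abel
        rw [e1, h.two, add_zero]
      rw [e]
      exact AddSubgroup.add_mem_sup hw h1
    have hsQ := h.mem_Q_of hB hBH hBQ hw0 hs h2
    have e1 : (q * q') • w + w = bk q' (bk s w0) := by
      rw [hm.comm q hq.1 q' hq'.1, mul_smul, Amal.QQ_fix h.a h.amb hq.2 hw, ← bk_apply]
      have e2 : w = bk s w0 + (s • w0 + w0 + w) := by rw [bk_apply, ← add_assoc, h.two, zero_add]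
      conv_lhs => rw [e2]
      rw [map_add, bk_apply q' (s • w0 + w0 + w), h1 q' hq'.1, h.two, add_zero]
    obtain ⟨x, hx, f, hf, hxf⟩ := AddSubgroup.mem_sup.1 (h.swap.comm_Q hB hBH' hBQ' w0 hq'.1 hq'.2)
    have e3 : bk q' w0 = x + f := by rw [bk_apply, hxf]
    rw [e1, bk_comm (hm.comm q' hq'.1 s hs), e3, map_add, bk_apply s f, hf s hs, h.two, add_zero]
    exact mem_cm hs hx
  · obtain ⟨⟨b, hb⟩, hb1'⟩ := ne_bot_iff_exists_ne_one.1 hi
    have hb1 : b ≠ 1 := fun h2 => hb1' (Subtype.ext h2)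
    apply cm_le
    intro u hu w hw
    obtain ⟨x, hx, f, hf, hxf⟩ := AddSubgroup.mem_sup.1 (h.swap.cent_b hB hBH' hBQ' hb.2.1 hb.2.2 hb1
      (Amal.QQ_fix h.a h.amb hb.1.2 hw))
    have e1 : u • w + w = u • x + x := by
      rw [← hxf, smul_add, hf u hu]
      have e : u • x + f + (x + f) = u • x + x + (f + f) := by abel
      rw [e, h.two, add_zero]
    rw [e1]
    exact mem_cm hu hx

/-- **`I = [W, P] = [W', P']`** -/
theorem cm_eq' : cmK P (WW V H R) = cmK P' (WW V H' R) := by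
  obtain ⟨B, hB, hBR, hBQ⟩ := Amal.exists_not_QQ h.a h.amb
  have hBQ' := h.not_Q' hB hBR hBQ
  rw [h.cm_eq hB hBR hBQ, h.swap.cm_eq hB hBR hBQ']
  exact le_antisymm (h.cm_le_B hB hBR hBQ) (h.swap.cm_le_B hB hBR hBQ')

theorem Wp_eq : WW V H R ⊔ cmK P' (WW V H' R) = WW V H R := by
  rw [← h.cm_eq']
  exact sup_eq_left.2 (h.cm_le_W₁.trans h.k.W₁W)

/-- `[V, A ∩ Q] ≤ W` -/
theorem comm_W {A : Subgroup Y} (hA : A ∈ U) (hAH : A ≤ H) (hAQ : ¬ A ≤ QQ H R) {b : Y} (hb : b ∈ A)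
    (hbQ : b ∈ QQ H R) (v : V) : b • v + v ∈ WW V H R := by
  rw [← h.Wp_eq]
  exact h.comm_Wp hA hAH hAQ hb hbQ v

section opp

variable {A : Subgroup Y} (hA : A ∈ U) (hAH : A ≤ H) (hAM : ¬ A ≤ M) {b : Y} (hb : b ∈ A) (hbQ : b ∈ QQ H R)
  (hb1 : b ≠ 1)
include hA hAH hAM hb hbQ hb1

/-- `[E_A, b]` -/
theorem J_le : (Ee V A).map (bk b) ≤ cmK A (WW V H R) := by
  have hm := h.amb.cls.mem A hA
  rintro _ ⟨e, he, rfl⟩
  obtain ⟨w, hw⟩ := hm.ne
  obtain ⟨s, hs, h1⟩ := hm.surj w hw e he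
  have e1 : e = bk s w + (s • w + w + e) := by
    rw [bk_apply, ← add_assoc, h.two, zero_add]
  obtain ⟨x, hx, f, hf, hxf⟩ := AddSubgroup.mem_sup.1 (h.comm_Q hA hAH (h.not_Q hAM) w hb hbQ)
  have e2 : bk b e = bk b (bk s w) := by
    conv_lhs => rw [e1]
    rw [map_add, bk_apply b (s • w + w + e), h1 b hb, h.two, add_zero]
  have e3 : bk b w = x + f := by rw [bk_apply, hxf]
  rw [e2, bk_comm (hm.comm b hb s hs), e3, map_add, bk_apply s f, hf s hs, h.two, add_zero, bk_apply]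
  exact mem_cm hs hx

theorem J_D : (Ee V A).map (bk b) ⊓ D = ⊥ := by
  have hm := h.amb.cls.mem A hA
  rw [eq_bot_iff]
  rintro _ ⟨⟨e, he, rfl⟩, hD⟩
  rw [AddSubgroup.mem_bot]
  obtain ⟨w, hw⟩ := hm.ne
  obtain ⟨s, hs, h1⟩ := hm.surj w hw e he
  have e1 : e = bk s w + (s • w + w + e) := by
    rw [bk_apply, ← add_assoc, h.two, zero_add]
  obtain ⟨x, hx, f, hf, hxf⟩ := AddSubgroup.mem_sup.1 (h.comm_Q hA hAH (h.not_Q hAM) w hb hbQ)
  have hxF : x ∉ fx V A := by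
    intro h2
    exact hb1 (hm.inj w hw b hb (by rw [← hxf]; exact add_mem h2 hf))
  have e2 : bk b e = bk s x := by
    have e3 : bk b w = x + f := by rw [bk_apply, hxf]
    conv_lhs => rw [e1]
    rw [map_add, bk_apply b (s • w + w + e), h1 b hb, h.two, add_zero, bk_comm (hm.comm b hb s hs), e3, map_add,
      bk_apply s f, hf s hs, h.two, add_zero]
  rw [e2] at hD ⊢
  have h3 := h.free_A' hA hAH hAM hx hxF hs hD
  rw [bk_apply, Amal.QQ_fix h.a h.amb h3 hx, h.two]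

theorem card_J : Nat.card ↥((Ee V A).map (bk b)) = c := by
  have hm := h.amb.cls.mem A hA
  have h1 := card_map_bk b (Ee V A)
  have h2 : Ee V A ⊓ (bk b : V →+ V).ker = WW V H R ⊔ fx V A := by
    apply le_antisymm
    · rintro v ⟨hv, hvb⟩
      apply h.cent_b hA hAH (h.not_Q hAM) hb hbQ hb1
      exact (HE.add_eq_zero' h.two).1 hvb
    · refine sup_le (le_inf (h.a.WW_le_Ee h.amb h.we hA hAH) ?_) (le_inf hm.FE ?_)
      · intro w hw
        change b • w + w = 0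
        rw [Amal.QQ_fix h.a h.amb hbQ hw, h.two]
      · intro w hw
        change b • w + w = 0
        rw [hw b hb, h.two]
  have h3 := card_sup_as (WW V H R) (fx V A)
  rw [h.card_WF hA hAH (h.not_Q hAM)] at h3
  have h4 : Nat.card ↥(WW V H R ⊔ fx V A) = c * Nat.card (fx V A) := by
    apply Nat.eq_of_mul_eq_mul_right (Nat.card_pos (α := ↥(WW V H R ⊓ fx V A)))
    rw [h3]; ring
  rw [h2, h4, hm.card_E h.two, h.card_A' hA hAH (h.not_Q hAM)] at h1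
  apply Nat.eq_of_mul_eq_mul_right (Nat.mul_pos h.c_pos (Nat.card_pos (α := ↥(fx V A))))
  rw [h1]; ring

theorem J'_le : (WW V H' R).map (bk b) ≤ cmK P (WW V H R) := by
  rw [h.cm_eq']
  rintro _ ⟨w, hw, rfl⟩
  exact mem_cm ((h.main hA hAH hAM).BP ⟨hb, hbQ⟩) hw

theorem not_Q'_b : b ∉ QQ H' R := by
  intro h1
  have h2 : b ∈ A ⊓ QQ H R ⊓ QQ H' R := ⟨⟨hb, hbQ⟩, h1⟩
  rw [(h.main hA hAH hAM).K, mem_bot] at h2
  exact hb1 h2

theorem card_J' : Nat.card ↥((WW V H' R).map (bk b)) = c := by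
  have h1 := card_map_bk b (WW V H' R)
  have hP := (h.main hA hAH hAM).BP ⟨hb, hbQ⟩
  have h2 : WW V H' R ⊓ (bk b : V →+ V).ker = W₁' := by
    apply le_antisymm
    · rintro v ⟨hv, hvb⟩
      exact h.fix_W₁' hP (h.not_Q'_b hA hAH hAM hb hbQ hb1) hv ((HE.add_eq_zero' h.two).1 hvb)
    · refine le_inf h.k'.W₁W fun w hw => ?_
      change b • w + w = 0
      rw [h.k'.P_fix b hP w hw, h.two]
  rw [h2, h.k'.card_W] at h1
  exact Nat.eq_of_mul_eq_mul_right Nat.card_pos h1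

theorem J'_F : (WW V H' R).map (bk b) ⊓ fx V A = ⊥ := by
  have hm := h.amb.cls.mem A hA
  rw [eq_bot_iff]
  rintro _ ⟨⟨w, hw, rfl⟩, hF⟩
  rw [AddSubgroup.mem_bot]
  by_cases hwE : w ∈ Ee V A
  · have h1 := (h.main hA hAH hAM).cap w hw hwE
    rw [bk_apply, h.k'.P_fix b ((h.main hA hAH hAM).BP ⟨hb, hbQ⟩) w h1, h.two]
  · exact absurd (hm.inj w hwE b hb hF) hb1

theorem range_eq : (bk b : V →+ V).range = (WW V H' R).map (bk b) ⊔ (Ee V A).map (bk b) := by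
  rw [← AddSubgroup.map_sup, h.top hA hAH hAM]
  ext v
  constructor
  · rintro ⟨x, rfl⟩
    exact ⟨x, AddSubgroup.mem_top x, rfl⟩
  · rintro ⟨x, -, rfl⟩
    exact ⟨x, rfl⟩

theorem J_F : (Ee V A).map (bk b) ≤ fx V A := by
  rintro _ ⟨e, he, rfl⟩
  exact he b hb

theorem J_J' : (WW V H' R).map (bk b) ⊓ (Ee V A).map (bk b) = ⊥ := by
  rw [eq_bot_iff, ← h.J'_F hA hAH hAM hb hbQ hb1]
  exact inf_le_inf_left _ (h.J_F hA hAH hAM hb hbQ hb1)

theorem card_X : Nat.card ↥(bk b : V →+ V).range = c * c := by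
  rw [h.range_eq hA hAH hAM hb hbQ hb1, card_sup_dis (h.J_J' hA hAH hAM hb hbQ hb1),
    h.card_J hA hAH hAM hb hbQ hb1, h.card_J' hA hAH hAM hb hbQ hb1]

theorem X_D : D ⊓ (bk b : V →+ V).range = ⊥ := by
  rw [h.range_eq hA hAH hAM hb hbQ hb1, eq_bot_iff]
  rintro v ⟨hvD, hv⟩
  obtain ⟨x, hx, y, hy, rfl⟩ := AddSubgroup.mem_sup.1 hv
  have h1 : x ∈ fx V A := by
    have h2 := h.D_fx hA hAH hAM hvD
    have e : x = (x + y) + y := by rw [add_assoc, h.two, add_zero]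
    rw [e]
    exact add_mem h2 (h.J_F hA hAH hAM hb hbQ hb1 hy)
  have h2 : x ∈ (WW V H' R).map (bk b) ⊓ fx V A := ⟨hx, h1⟩
  rw [h.J'_F hA hAH hAM hb hbQ hb1, AddSubgroup.mem_bot] at h2
  subst h2
  rw [zero_add] at hvD ⊢
  have h3 : y ∈ (Ee V A).map (bk b) ⊓ D := ⟨hy, hvD⟩
  rw [h.J_D hA hAH hAM hb hbQ hb1] at h3
  exact h3

theorem X_sup : D ⊔ (bk b : V →+ V).range = WW V H R := by
  apply eq_of_le_as
  · refine sup_le (h.k.DW.trans h.k.W₁W) ?_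
    rintro _ ⟨v, rfl⟩
    exact h.comm_W hA hAH (h.not_Q hAM) hb hbQ v
  · rw [card_sup_dis (h.X_D hA hAH hAM hb hbQ hb1), h.card_X hA hAH hAM hb hbQ hb1, h.k.card_W, h.k.card_W₁]
    apply le_of_eq; ring

theorem X_A {a : Y} (ha : a ∈ A) {v : V} (hv : v ∈ (bk b : V →+ V).range) : a • v ∈ (bk b : V →+ V).range := by
  obtain ⟨v, rfl⟩ := hv
  refine ⟨a • v, ?_⟩
  have hm := h.amb.cls.mem A hA
  simp only [bk_apply, smul_add, ← mul_smul, hm.comm a ha b hb]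

theorem cm_A_le : cmK A (WW V H R) ≤ (Ee V A).map (bk b) := by
  have hm := h.amb.cls.mem A hA
  have h1 : cmK A (WW V H R) ≤ fx V A :=
    cm_le fun a ha w hw => h.a.WW_le_Ee h.amb h.we hA hAH hw a ha
  have h2 : cmK A (WW V H R) ≤ (bk b : V →+ V).range := by
    apply cm_le
    intro a ha w hw
    rw [← h.X_sup hA hAH hAM hb hbQ hb1] at hw
    obtain ⟨d, hd, x, hx, rfl⟩ := AddSubgroup.mem_sup.1 hw
    have e : a • (d + x) + (d + x) = a • x + x := by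
      rw [smul_add, h.D_fx hA hAH hAM hd a ha]
      have e : d + a • x + (d + x) = (d + d) + (a • x + x) := by abel
      rw [e, h.two, zero_add]
    rw [e]
    exact add_mem (h.X_A hA hAH hAM hb hbQ hb1 ha hx) hx
  intro v hv
  have h3 := h2 hv
  have h4 := h1 hv
  rw [h.range_eq hA hAH hAM hb hbQ hb1] at h3
  obtain ⟨x, hx, y, hy, rfl⟩ := AddSubgroup.mem_sup.1 h3
  have h5 : x ∈ fx V A := by
    have e : x = (x + y) + y := by rw [add_assoc, h.two, add_zero]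
    rw [e]
    exact add_mem h4 (h.J_F hA hAH hAM hb hbQ hb1 hy)
  have h2 : x ∈ (WW V H' R).map (bk b) ⊓ fx V A := ⟨hx, h5⟩
  rw [h.J'_F hA hAH hAM hb hbQ hb1, AddSubgroup.mem_bot] at h2
  subst h2
  rw [zero_add]
  exact hy

theorem J_eq : (Ee V A).map (bk b) = cmK A (WW V H R) :=
  le_antisymm (h.J_le hA hAH hAM hb hbQ hb1) (h.cm_A_le hA hAH hAM hb hbQ hb1)

end opp

theorem exists_b {A : Subgroup Y} (hA : A ∈ U) (hAH : A ≤ H) (hAQ : ¬ A ≤ QQ H R) :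
    ∃ b ∈ A, b ∈ QQ H R ∧ b ≠ 1 := by
  by_contra hcon
  push Not at hcon
  have h1 : A ⊓ QQ H R = ⊥ := by
    rw [eq_bot_iff]
    rintro b ⟨hb, hbQ⟩
    exact hcon b hb hbQ
  have h2 := h.card_AQ hA hAH hAQ
  rw [h1, Subgroup.card_bot] at h2
  have := h.four
  omega

theorem cm_A {A : Subgroup Y} (hA : A ∈ U) (hAH : A ≤ H) (hAM : ¬ A ≤ M) :
    Nat.card ↥(cmK A (WW V H R)) = c ∧ cmK A (WW V H R) ⊓ D = ⊥ := by
  obtain ⟨b, hb, hbQ, hb1⟩ := h.exists_b hA hAH (h.not_Q hAM)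
  rw [← h.J_eq hA hAH hAM hb hbQ hb1]
  exact ⟨h.card_J hA hAH hAM hb hbQ hb1, h.J_D hA hAH hAM hb hbQ hb1⟩

/-- `|I| = c`, `I ∩ D = 0` -/
theorem I_aux : Nat.card ↥(cmK P (WW V H R)) = c ∧ cmK P (WW V H R) ⊓ D = ⊥ := by
  obtain ⟨B, hB, hBR, hBQ⟩ := Amal.exists_not_QQ h.a h.amb
  obtain ⟨x, hx, h1, h2, h3⟩ := h.exists_opp hB (hBR.trans h.a.RH) hBQ
  obtain ⟨h4, h5⟩ := h.cm_A h1 h2 h3
  have h6 : cmK (MulAut.conj x • B) (WW V H R) = x • cmK P (WW V H R) := by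
    rw [h.cm_eq hB hBR hBQ, ← cm_conj, smul_WW hx]
  rw [h6] at h4 h5
  rw [card_smul_as] at h4
  refine ⟨h4, ?_⟩
  rw [eq_bot_iff]
  rintro v ⟨hv, hvD⟩
  have h7 : x • v ∈ x • cmK P (WW V H R) ⊓ D := ⟨smul_mem_smul_as hv, h.k.D_H x hx v hvD⟩
  rw [h5, AddSubgroup.mem_bot, smul_eq_zero_iff_eq] at h7
  exact h7

theorem card_I : Nat.card ↥(cmK P (WW V H R)) = c := h.I_aux.1

theorem W₁_eq_sup : D ⊔ cmK P (WW V H R) = W₁ := by
  apply eq_of_le_as (sup_le h.k.DW h.cm_le_W₁)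
  rw [card_sup_dis (by rw [inf_comm]; exact h.I_aux.2), h.card_I, h.k.card_W₁, mul_comm]

theorem X_eq {A : Subgroup Y} (hA : A ∈ U) (hAH : A ≤ H) (hAM : ¬ A ≤ M) {b : Y} (hb : b ∈ A) (hbQ : b ∈ QQ H R)
    (hb1 : b ≠ 1) : (bk b : V →+ V).range = cmK P (WW V H R) ⊔ cmK A (WW V H R) := by
  rw [h.range_eq hA hAH hAM hb hbQ hb1, h.J_eq hA hAH hAM hb hbQ hb1]
  congr 1
  apply eq_of_le_as (h.J'_le hA hAH hAM hb hbQ hb1)
  rw [h.card_I, h.card_J' hA hAH hAM hb hbQ hb1]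

theorem range_conj (x b : Y) : (bk (x * b * x⁻¹) : V →+ V).range = x • (bk b : V →+ V).range := by
  rw [AddMonoidHom.range_eq_map, AddMonoidHom.range_eq_map, ← map_bk_conj]
  congr 1
  ext v
  rw [mem_smul_as]
  simp

theorem card_XA {A : Subgroup Y} (hA : A ∈ U) (hAH : A ≤ H) (hAM : ¬ A ≤ M) :
    Nat.card ↥(cmK P (WW V H R) ⊔ cmK A (WW V H R)) = c * c := by
  obtain ⟨b, hb, hbQ, hb1⟩ := h.exists_b hA hAH (h.not_Q hAM)
  rw [← h.X_eq hA hAH hAM hb hbQ hb1]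
  exact h.card_X hA hAH hAM hb hbQ hb1

/-- `x I ≤ X_{A₂}` if `A₂ ≰ M^x` -/
theorem smul_I_le {A₂ : Subgroup Y} (hA₂ : A₂ ∈ U) (hA₂H : A₂ ≤ H) (hA₂M : ¬ A₂ ≤ M) {x : Y} (hx : x ∈ H)
    (hx2 : ¬ MulAut.conj x⁻¹ • A₂ ≤ M) : x • cmK P (WW V H R) ≤ cmK P (WW V H R) ⊔ cmK A₂ (WW V H R) := by
  have h1 := h.amb.cls.conj A₂ hA₂ x⁻¹
  have h2 := h.conj_le_H (H.inv_mem hx) hA₂H
  obtain ⟨b, hb, hbQ, hb1⟩ := h.exists_b h1 h2 (h.not_Q hx2)
  have hb' := hb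
  rw [mem_conj, inv_inv] at hb'
  have h3 := h.X_eq h1 h2 hx2 hb hbQ hb1
  have h4 := h.X_eq hA₂ hA₂H hA₂M (b := x * b * x⁻¹) hb' (conj_mem_QQ hx hbQ) (by
    intro h5
    apply hb1
    have h6 : x⁻¹ * (x * b * x⁻¹) * x = 1 := by rw [h5]; group
    have e : x⁻¹ * (x * b * x⁻¹) * x = b := by group
    rwa [e] at h6)
  rw [← h4, h.range_conj, h3]
  exact smul_le_smul_as le_sup_left

theorem exists_a {A A₂ : Subgroup Y} (hA : A ∈ U) (hAH : A ≤ H) (hAM : ¬ A ≤ M) (hA₂ : A₂ ∈ U) (hA₂H : A₂ ≤ H)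
    (hA₂M : ¬ A₂ ≤ M) : ∃ a ∈ A, a ∉ QQ H R ∧ ¬ MulAut.conj a⁻¹ • A₂ ≤ M := by
  by_contra hcon
  push Not at hcon
  obtain ⟨a, ha, haQ⟩ := SetLike.not_le_iff_exists.1 (h.not_Q hAM)
  have h1 : ∃ a' ∈ A, a' ∉ QQ H R ∧ a⁻¹ * a' ∉ QQ H R := by
    by_contra hc
    push Not at hc
    have h2 : (A : Set Y) ⊆ ((A ⊓ QQ H R : Subgroup Y) : Set Y) ∪
        (fun y => a * y) '' ((A ⊓ QQ H R : Subgroup Y) : Set Y) := by
      intro y hy
      by_cases hyQ : y ∈ QQ H R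
      · exact Or.inl ⟨hy, hyQ⟩
      · exact Or.inr ⟨a⁻¹ * y, ⟨A.mul_mem (A.inv_mem ha) hy, hc y hy hyQ⟩, mul_inv_cancel_left a y⟩
    have h3 := Set.ncard_le_ncard h2 (Set.toFinite _)
    have h4 := Set.ncard_union_le ((A ⊓ QQ H R : Subgroup Y) : Set Y)
      ((fun y => a * y) '' ((A ⊓ QQ H R : Subgroup Y) : Set Y))
    have h5 := Set.ncard_image_le (f := fun y => a * y) (Set.toFinite ((A ⊓ QQ H R : Subgroup Y) : Set Y))
    have e1 : Set.ncard (A : Set Y) = c * c := h.card_A' hA hAH (h.not_Q hAM)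
    have e2 : Set.ncard ((A ⊓ QQ H R : Subgroup Y) : Set Y) = c := h.card_AQ hA hAH (h.not_Q hAM)
    have h6 := h.four
    rw [e1] at h3
    rw [e2] at h4 h5
    nlinarith
  obtain ⟨a', ha', ha'Q, h2⟩ := h1
  have key : ∀ y ∈ A, y ∉ QQ H R → y • W₁ = WW V H R ⊓ fx V A₂ := by
    intro y hy hyQ
    have h3 := h.WF_M (h.amb.cls.conj A₂ hA₂ y⁻¹) (h.conj_le_H (H.inv_mem (hAH hy)) hA₂H)
      (h.conj_not_Q (H.inv_mem (hAH hy)) (h.not_Q hA₂M)) (hcon y hy hyQ)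
    rw [h.WF_conj (H.inv_mem (hAH hy))] at h3
    rw [← h3, smul_smul_as, mul_inv_cancel, one_smul]
  have h3 : (a⁻¹ * a') • W₁ = W₁ := by
    rw [← smul_smul_as, key a' ha' ha'Q, ← key a ha haQ, smul_smul_as, inv_mul_cancel, one_smul]
  have h5 := h.not_M hA hAH hAM (A.mul_mem (A.inv_mem ha) ha') h2
  obtain ⟨w, hw, hwD⟩ := h.exists_W₁
  exact hwD (h.k.opp _ (hAH (A.mul_mem (A.inv_mem ha) ha')) h5 w hw (by
    have h6 : (a⁻¹ * a') • w ∈ (a⁻¹ * a') • W₁ := smul_mem_smul_as hw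
    rwa [h3] at h6))

theorem I_inf {x : Y} (hx : x ∈ H) (hxM : x ∉ M) : cmK P (WW V H R) ⊓ x • cmK P (WW V H R) = ⊥ := by
  rw [eq_bot_iff]
  rintro v ⟨hv, hvx'⟩
  have hvx : v ∈ x • cmK P (WW V H R) := hvx'
  rw [mem_smul_as] at hvx
  have h1 : x⁻¹ • v ∈ D := h.k.opp x hx hxM _ (h.cm_le_W₁ hvx) (by rw [smul_inv_smul]; exact h.cm_le_W₁ hv)
  have h2 : x⁻¹ • v ∈ cmK P (WW V H R) ⊓ D := ⟨hvx, h1⟩
  rw [h.I_aux.2, AddSubgroup.mem_bot, smul_eq_zero_iff_eq] at h2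
  rw [AddSubgroup.mem_bot]
  exact h2

theorem X_indep {A A₂ : Subgroup Y} (hA : A ∈ U) (hAH : A ≤ H) (hAM : ¬ A ≤ M) (hA₂ : A₂ ∈ U) (hA₂H : A₂ ≤ H)
    (hA₂M : ¬ A₂ ≤ M) : cmK P (WW V H R) ⊔ cmK A (WW V H R) = cmK P (WW V H R) ⊔ cmK A₂ (WW V H R) := by
  obtain ⟨a, ha, haQ, h1⟩ := h.exists_a hA hAH hAM hA₂ hA₂H hA₂M
  have haM := h.not_M hA hAH hAM ha haQ
  have h2 := h.smul_I_le hA₂ hA₂H hA₂M (hAH ha) h1
  have h3 : a • cmK P (WW V H R) ≤ cmK P (WW V H R) ⊔ cmK A (WW V H R) := by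
    obtain ⟨b, hb, hbQ, hb1⟩ := h.exists_b hA hAH (h.not_Q hAM)
    intro v hv
    rw [mem_smul_as] at hv
    have h4 : a⁻¹ • v ∈ cmK P (WW V H R) ⊔ cmK A (WW V H R) := AddSubgroup.mem_sup_left hv
    rw [← h.X_eq hA hAH hAM hb hbQ hb1] at h4 ⊢
    have h5 := h.X_A hA hAH hAM hb hbQ hb1 ha h4
    rwa [smul_inv_smul] at h5
  have h4 : Nat.card ↥(cmK P (WW V H R) ⊔ a • cmK P (WW V H R)) = c * c := by
    rw [card_sup_dis (h.I_inf (hAH ha) haM), card_smul_as, h.card_I]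
  have h5 := eq_of_le_as (sup_le le_sup_left h3) (by rw [h4, h.card_XA hA hAH hAM])
  have h6 := eq_of_le_as (sup_le le_sup_left h2) (by rw [h4, h.card_XA hA₂ hA₂H hA₂M])
  rw [← h5, h6]

end TwoE

/-- The module `N` of one side. -/
structure HasN (V : Type u) [AddCommGroup V] [DistribMulAction Y V] (U : Set (Subgroup Y)) (H R P : Subgroup Y)
    (D W₁ : AddSubgroup V) (c : ℕ) (N : AddSubgroup V) : Prop where
  inv : ∀ x ∈ H, ∀ n ∈ N, x • n ∈ N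
  card : Nat.card N = c * c
  le : N ≤ WW V H R
  inf : D ⊓ N = ⊥
  sup : D ⊔ N = WW V H R
  I_le : cmK P (WW V H R) ≤ N
  inf₁ : N ⊓ W₁ = cmK P (WW V H R)
  range : ∀ A ∈ U, A ≤ H → ¬ A ≤ QQ H R → ∀ b ∈ A, b ∈ QQ H R → b ≠ 1 → (bk b : V →+ V).range = N

namespace TwoE

variable [Finite Y] [Finite V] {U : Set (Subgroup Y)} {T : Sylow 2 Y} {M H H' R P P' : Subgroup Y}
  {D D' W₁ W₁' : AddSubgroup V} {c : ℕ} {t : Y} (h : TwoE V U T M H H' R P P' D D' W₁ W₁' c t)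
include h

theorem range_opp {A : Subgroup Y} (hA : A ∈ U) (hAH : A ≤ H) (hAM : ¬ A ≤ M) {b : Y} (hb : b ∈ A)
    (hbQ : b ∈ QQ H R) (hb1 : b ≠ 1) {A₂ : Subgroup Y} (hA₂ : A₂ ∈ U) (hA₂H : A₂ ≤ H)
    (hA₂M : ¬ A₂ ≤ M) : (bk b : V →+ V).range = cmK P (WW V H R) ⊔ cmK A₂ (WW V H R) := by
  rw [h.X_eq hA hAH hAM hb hbQ hb1]
  exact h.X_indep hA hAH hAM hA₂ hA₂H hA₂M

/-- **`N`** -/
theorem exists_N : ∃ N : AddSubgroup V, HasN V U H R P D W₁ c N := by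
  obtain ⟨A, hA, hAH, hAM⟩ := h.exists_A
  obtain ⟨b, hb, hbQ, hb1⟩ := h.exists_b hA hAH (h.not_Q hAM)
  have hX := h.X_eq hA hAH hAM hb hbQ hb1
  have hinv : ∀ x ∈ H, ∀ n ∈ (bk b : V →+ V).range, x • n ∈ (bk b : V →+ V).range := by
    have h1 : ∀ u ∈ R, ∀ n ∈ (bk b : V →+ V).range, u • n ∈ (bk b : V →+ V).range := by
      intro u hu n hn
      have huH := h.a.RH hu
      have h2 : ¬ MulAut.conj u • A ≤ M := by
        intro h3
        apply hAM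
        intro y hy
        have h4 := M.mul_mem (M.mul_mem (M.inv_mem (h.RM hu)) (h3 (conj_mem_conj (g := u) hy))) (h.RM hu)
        have e : u⁻¹ * (u * y * u⁻¹) * u = y := by group
        rwa [e] at h4
      have h3 := h.range_opp (h.amb.cls.conj A hA u) (h.conj_le_H huH hAH) h2 (conj_mem_conj (g := u) hb)
        (conj_mem_QQ huH hbQ) (by
          intro h5
          apply hb1
          have h6 : u⁻¹ * (u * b * u⁻¹) * u = 1 := by rw [h5]; group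
          have e : u⁻¹ * (u * b * u⁻¹) * u = b := by group
          rwa [e] at h6) hA hAH hAM
      rw [← hX, h.range_conj] at h3
      rw [← h3]
      exact smul_mem_smul_as hn
    have h2 := inv_sup h1 (fun u hu n hn => h.X_A hA hAH hAM hb hbQ hb1 hu hn)
    rwa [h.a.gen hAH hAM] at h2
  refine ⟨(bk b : V →+ V).range, ?_⟩
  have hinf := h.X_D hA hAH hAM hb hbQ hb1
  have hle : (bk b : V →+ V).range ≤ WW V H R := by
    rw [← h.X_sup hA hAH hAM hb hbQ hb1]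
    exact le_sup_right
  have hI : cmK P (WW V H R) ≤ (bk b : V →+ V).range := by rw [hX]; exact le_sup_left
  refine
    { inv := hinv
      card := h.card_X hA hAH hAM hb hbQ hb1
      le := hle
      inf := hinf
      sup := h.X_sup hA hAH hAM hb hbQ hb1
      I_le := hI
      inf₁ := ?_
      range := ?_ }
  · apply le_antisymm
    · rintro v ⟨hv, hv1⟩
      rw [SetLike.mem_coe, ← h.W₁_eq_sup] at hv1
      obtain ⟨d, hd, i, hi, rfl⟩ := AddSubgroup.mem_sup.1 hv1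
      have h1 : d ∈ D ⊓ (bk b : V →+ V).range := by
        refine ⟨hd, ?_⟩
        have e : d = (d + i) + i := by rw [add_assoc, h.two, add_zero]
        rw [e]
        exact add_mem hv (hI hi)
      rw [hinf, AddSubgroup.mem_bot] at h1
      subst h1
      rw [zero_add]
      exact hi
    · exact le_inf hI h.cm_le_W₁
  · intro A₂ hA₂ hA₂H hA₂Q b₂ hb₂ hb₂Q hb₂1
    obtain ⟨x, hx, h1, h2, h3⟩ := h.exists_opp hA₂ hA₂H hA₂Q
    have h4 := h.range_opp h1 h2 h3 (conj_mem_conj (g := x) hb₂) (conj_mem_QQ hx hb₂Q) (by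
      intro h5
      apply hb₂1
      have h6 : x⁻¹ * (x * b₂ * x⁻¹) * x = 1 := by rw [h5]; group
      have e : x⁻¹ * (x * b₂ * x⁻¹) * x = b₂ := by group
      rwa [e] at h6) hA hAH hAM
    rw [← hX, h.range_conj] at h4
    have h5 : x • (bk b : V →+ V).range = (bk b : V →+ V).range := smul_of_mem fun w hw => hinv x hx w hw
    rw [← h5] at h4
    have h6 : x⁻¹ • x • (bk b₂ : V →+ V).range = x⁻¹ • x • (bk b : V →+ V).range := by rw [h4]
    rwa [smul_smul_as, smul_smul_as, inv_mul_cancel, one_smul, one_smul] at h6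

end TwoE

end Cfsg.Agent.Omega.NO1.TH

end
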