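import Cfsg.Agent.Mrg.Omega.NO1.TH.KOneA
import Cfsg.Agent.LieRecognition.FieldSemilinear
import Cfsg.Agent.Mrg.Omega.NO1.TH.Fact

section


/-!
# N1, the amalgam, `k = 1`: elementary abelian subgroups of `R⟨φ⟩ ≤ ΓL₂(F)` (bb OMEGA 20297, fill-in (d))

`SemiL.ea` : `|A| ≤ c |A ∩ Q|`; `SemiL.fld` : in the case of equality and `A ≰ P` : `c = 4`, `A ∩ P ≰ Q`, `|R| ≤ 2 |P|`.
-/

set_option autoImplicit false
set_option linter.unusedSectionVars false

namespace Cfsg.Agent.Omega.NO1.TH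

open Subgroup Cfsg.Agent.Omega.NO1.AB
open scoped Pointwise

universe u

variable {Y : Type u} [Group Y] {V : Type u} [AddCommGroup V] [DistribMulAction Y V]

/-- `R` acts semilinearly on the line `W₁ / D`, with coordinate `f`. -/
structure SemiL (V : Type u) [AddCommGroup V] [DistribMulAction Y V] (R P Q : Subgroup Y) (W W₁ D : AddSubgroup V)
    (F : Type) [Field F] (f : V → F) : Prop where
  two : ∀ v : V, v + v = 0
  R2 : IsPGroup 2 R
  QP : Q ≤ P
  PR : P ≤ R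
  DW : D ≤ W₁
  W₁W : W₁ ≤ W
  W_R : ∀ r ∈ R, ∀ w ∈ W, r • w ∈ W
  W₁_R : ∀ r ∈ R, ∀ w ∈ W₁, r • w ∈ W₁
  D_R : ∀ r ∈ R, ∀ w ∈ D, r • w ∈ D
  add : ∀ v ∈ W₁, ∀ w ∈ W₁, f (v + w) = f v + f w
  surj : ∀ a : F, ∃ w ∈ W₁, f w = a
  ker : ∀ w ∈ W₁, f w = 0 ↔ w ∈ D
  semi : ∀ r ∈ R, ∀ μ : F, ∃ τ : F, ∀ w ∈ W₁, ∀ w' ∈ W₁, f w' = μ * f w → f (r • w') = τ * f (r • w)
  mem_P : ∀ x ∈ R, (∀ w ∈ W₁, x • w + w ∈ D) → x ∈ P
  P_fix : ∀ x ∈ P, ∀ w ∈ W₁, x • w + w ∈ D
  P_comm : ∀ x ∈ P, ∀ w ∈ W, x • w + w ∈ W₁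
  free : ∀ x ∈ P, ∀ w ∈ W, w ∉ W₁ → x • w + w ∈ D → x ∈ Q
  card_W : Nat.card W = Nat.card F * Nat.card W₁
  card_W₁ : Nat.card W₁ = Nat.card F * Nat.card D
  card_P : Nat.card P = Nat.card F * Nat.card Q

/-- a proper fixed subfield is small -/
theorem card_fixed_sq (F : Type) [Field F] [Finite F] (σ : F ≃+* F) (hσ : σ ≠ 1) :
    Nat.card {x : F // σ x = x} * Nat.card {x : F // σ x = x} ≤ Nat.card F := by
  obtain ⟨θ, hθ⟩ : ∃ θ, σ θ ≠ θ := by
    by_contra hcon
    push Not at hcon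
    exact hσ (RingEquiv.ext hcon)
  rw [← Nat.card_prod]
  apply Nat.card_le_card_of_injective (fun p : {x : F // σ x = x} × {x : F // σ x = x} => (p.1 : F) + (p.2 : F) * θ)
  rintro ⟨⟨x, hx⟩, ⟨y, hy⟩⟩ ⟨⟨x', hx'⟩, ⟨y', hy'⟩⟩ he
  have he' : x + y * θ = x' + y' * θ := he
  have h1 : y = y' := by
    by_contra hne
    have h2 : y - y' ≠ 0 := sub_ne_zero.2 hne
    have h3 : (y - y') * θ = x' - x := by
      have := he'
      linear_combination this
    have h4 : (y - y') * σ θ = x' - x := by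
      have h5 := congrArg σ h3
      rwa [map_mul, map_sub, map_sub, hy, hy', hx, hx'] at h5
    exact hθ (mul_left_cancel₀ h2 (h4.trans h3.symm))
  subst h1
  have h2 : x = x' := add_right_cancel he'
  subst h2
  rfl

/-- `|Aut(𝔽₄)| ≤ 2` -/
theorem card_aut_four (F : Type) [Field F] [Finite F] (hF : Nat.card F = 4) : Nat.card (F ≃+* F) ≤ 2 := by
  classical
  have : Fintype F := Fintype.ofFinite F
  -- `ω ≠ 0, 1`
  obtain ⟨ω, hω0, hω1⟩ : ∃ ω : F, ω ≠ 0 ∧ ω ≠ 1 := by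
    by_contra hcon
    push Not at hcon
    have h1 : (Finset.univ : Finset F) ⊆ {0, 1} := by
      intro x _
      rw [Finset.mem_insert, Finset.mem_singleton]
      by_cases hx : x = 0
      · exact Or.inl hx
      · exact Or.inr (hcon x hx)
    have h2 := Finset.card_le_card h1
    have h3 : (Finset.univ : Finset F).card = 4 := by rw [Finset.card_univ, ← Nat.card_eq_fintype_card, hF]
    have h4 : ({0, 1} : Finset F).card ≤ 2 := Finset.card_le_two
    omega
  have hω2 : ω + 1 ≠ ω := by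
    intro h1
    exact one_ne_zero (add_eq_left.1 h1)
  have h2F : (2 : F) = 0 := by
    have h1 : ((Nat.card F : ℕ) : F) = 0 := by
      rw [Nat.card_eq_fintype_card]
      exact Nat.cast_card_eq_zero F
    rw [hF] at h1
    have h2 : (2 : F) * 2 = 0 := by
      have : ((4 : ℕ) : F) = 2 * 2 := by norm_num
      rw [← this]; exact h1
    rcases mul_eq_zero.1 h2 with h3 | h3 <;> exact h3
  have h10 : ω + 1 ≠ 0 := by
    intro h1
    apply hω1
    have : ω = -1 := eq_neg_of_add_eq_zero_left h1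
    rw [this]
    have : (-1 : F) = 1 := by
      have h3 : (1 : F) + 1 = 0 := by
        have : (1 : F) + 1 = 2 := by norm_num
        rw [this, h2F]
      exact neg_eq_of_add_eq_zero_left h3
    exact this
  have h11 : ω + 1 ≠ 1 := by
    intro h1
    exact hω0 (add_eq_right.1 h1)
  have huniv : (Finset.univ : Finset F) = {0, 1, ω, ω + 1} := by
    symm
    apply Finset.eq_of_subset_of_card_le (Finset.subset_univ _)
    have h3 : (Finset.univ : Finset F).card = 4 := by rw [Finset.card_univ, ← Nat.card_eq_fintype_card, hF]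
    rw [h3]
    rw [Finset.card_insert_of_notMem, Finset.card_insert_of_notMem, Finset.card_insert_of_notMem,
      Finset.card_singleton]
    · rw [Finset.mem_singleton]; exact hω2.symm
    · rw [Finset.mem_insert, Finset.mem_singleton]; push Not; exact ⟨hω1.symm, h11.symm⟩
    · rw [Finset.mem_insert, Finset.mem_insert, Finset.mem_singleton]; push Not
      exact ⟨zero_ne_one, hω0.symm, h10.symm⟩
  -- `σ ↦ σ ω ∈ {ω, ω + 1}`
  have key : ∀ σ : F ≃+* F, σ ω = ω ∨ σ ω = ω + 1 := by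
    intro σ
    have h1 : σ ω ∈ (Finset.univ : Finset F) := Finset.mem_univ _
    rw [huniv, Finset.mem_insert, Finset.mem_insert, Finset.mem_insert, Finset.mem_singleton] at h1
    rcases h1 with h1 | h1 | h1 | h1
    · exact absurd ((map_eq_zero_iff σ σ.injective).1 h1) hω0
    · exact absurd ((map_eq_one_iff σ σ.injective).1 h1) hω1
    · exact Or.inl h1
    · exact Or.inr h1
  let g : (F ≃+* F) → Bool := fun σ => decide (σ ω = ω)
  have hg : Function.Injective g := by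
    intro σ τ he
    have h1 : σ ω = τ ω := by
      by_cases h2 : σ ω = ω
      · have h3 : g τ = true := by rw [← he]; exact decide_eq_true h2
        rw [h2, of_decide_eq_true h3]
      · have h3 : ¬ τ ω = ω := by
          intro h4
          apply h2
          have h5 : g σ = true := by rw [he]; exact decide_eq_true h4
          exact of_decide_eq_true h5
        rcases key σ with h5 | h5
        · exact absurd h5 h2
        · rcases key τ with h6 | h6
          · exact absurd h6 h3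
          · rw [h5, h6]
    apply RingEquiv.ext
    intro x
    have h2 : x ∈ (Finset.univ : Finset F) := Finset.mem_univ _
    rw [huniv, Finset.mem_insert, Finset.mem_insert, Finset.mem_insert, Finset.mem_singleton] at h2
    rcases h2 with h2 | h2 | h2 | h2
    · rw [h2, map_zero, map_zero]
    · rw [h2, map_one, map_one]
    · rw [h2, h1]
    · rw [h2, map_add, map_add, h1, map_one, map_one]
  have h1 := Nat.card_le_card_of_injective g hg
  have h2 : Nat.card Bool = 2 := by rw [Nat.card_eq_fintype_card]; rfl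
  omega

namespace SemiL

variable [Finite Y] [Finite V] {R P Q : Subgroup Y} {W W₁ D : AddSubgroup V} {F : Type} [Field F] [Finite F]
  {f : V → F} (h : SemiL V R P Q W W₁ D F f)
include h

theorem f_zero : f 0 = 0 := (h.ker 0 (zero_mem _)).2 (zero_mem _)

theorem ff (x : F) : x + x = 0 := by
  obtain ⟨w, hw, rfl⟩ := h.surj x
  rw [← h.add w hw w hw, h.two, h.f_zero]

/-- a section -/
noncomputable def sec (a : F) : V := (h.surj a).choose

theorem sec_mem (a : F) : h.sec a ∈ W₁ := (h.surj a).choose_spec.1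

theorem f_sec (a : F) : f (h.sec a) = a := (h.surj a).choose_spec.2

/-- the action of `r` on the line -/
noncomputable def ph (r : Y) (a : F) : F := f (r • h.sec a)

theorem f_eq_of_add {v w : V} (hv : v ∈ W₁) (hw : w ∈ W₁) (h1 : v + w ∈ D) : f v = f w := by
  have h2 := (h.ker _ (add_mem hv hw)).2 h1
  rw [h.add v hv w hw] at h2
  have h3 : f v = - f w := eq_neg_of_add_eq_zero_left h2
  have h4 : - f w = f w := neg_eq_of_add_eq_zero_left (h.ff (f w))
  rw [h3, h4]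

theorem ph_eq {r : Y} (hr : r ∈ R) {w : V} (hw : w ∈ W₁) : f (r • w) = h.ph r (f w) := by
  apply h.f_eq_of_add (h.W₁_R r hr w hw) (h.W₁_R r hr _ (h.sec_mem _))
  rw [← smul_add]
  apply h.D_R r hr
  rw [← h.ker _ (add_mem hw (h.sec_mem _)), h.add w hw _ (h.sec_mem _), h.f_sec, h.ff]

theorem ph_add {r : Y} (hr : r ∈ R) (a b : F) : h.ph r (a + b) = h.ph r a + h.ph r b := by
  have h1 := h.ph_eq hr (add_mem (h.sec_mem a) (h.sec_mem b))
  rw [h.add _ (h.sec_mem a) _ (h.sec_mem b), h.f_sec, h.f_sec, smul_add,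
    h.add _ (h.W₁_R r hr _ (h.sec_mem a)) _ (h.W₁_R r hr _ (h.sec_mem b))] at h1
  exact h1.symm

theorem ph_zero {r : Y} (hr : r ∈ R) : h.ph r 0 = 0 := by
  have h1 := h.ph_add hr 0 0
  rw [add_zero] at h1
  exact left_eq_add.1 h1

theorem ph_mul {r s : Y} (hr : r ∈ R) (hs : s ∈ R) (a : F) : h.ph (r * s) a = h.ph r (h.ph s a) := by
  change f ((r * s) • h.sec a) = _
  rw [mul_smul, h.ph_eq hr (h.W₁_R s hs _ (h.sec_mem a))]
  rfl

theorem ph_one (a : F) : h.ph 1 a = a := by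
  change f ((1 : Y) • h.sec a) = a
  rw [one_smul, h.f_sec]

theorem ph_ne {r : Y} (hr : r ∈ R) {a : F} (ha : a ≠ 0) : h.ph r a ≠ 0 := by
  intro h1
  apply ha
  have h2 := h.ph_mul (R.inv_mem hr) hr a
  rw [inv_mul_cancel, h.ph_one, h1, h.ph_zero (R.inv_mem hr)] at h2
  exact h2

theorem ph_semi {r : Y} (hr : r ∈ R) (μ : F) : h.ph r μ * h.ph r 1 = h.ph r 1 * h.ph r μ ∧
    ∀ a, h.ph r (μ * a) = h.ph r μ * (h.ph r 1)⁻¹ * h.ph r a := by
  refine ⟨mul_comm _ _, fun a => ?_⟩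
  obtain ⟨τ, hτ⟩ := h.semi r hr μ
  have key : ∀ a, h.ph r (μ * a) = τ * h.ph r a := fun a =>
    hτ _ (h.sec_mem a) _ (h.sec_mem (μ * a)) (by rw [h.f_sec, h.f_sec])
  have h1 := key 1
  rw [mul_one] at h1
  have h2 := h.ph_ne hr one_ne_zero
  rw [key a, h1, mul_assoc τ, mul_inv_cancel₀ h2, mul_one]

/-- the field automorphism -/
noncomputable def sg (r : R) : F →+* F where
  toFun a := (h.ph r 1)⁻¹ * h.ph r a
  map_one' := inv_mul_cancel₀ (h.ph_ne r.2 one_ne_zero)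
  map_zero' := by rw [h.ph_zero r.2, mul_zero]
  map_add' a b := by rw [h.ph_add r.2, mul_add]
  map_mul' a b := by
    rw [(h.ph_semi r.2 a).2 b]
    ring

theorem ph_sg (r : R) (a : F) : h.ph r a = h.ph r 1 * h.sg r a := by
  change _ = h.ph r 1 * ((h.ph r 1)⁻¹ * h.ph r a)
  rw [← mul_assoc, mul_inv_cancel₀ (h.ph_ne r.2 one_ne_zero), one_mul]

theorem sg_mul (r s : R) (a : F) : h.sg (r * s) a = h.sg r (h.sg s a) := by
  have h1 := h.ph_mul r.2 s.2 a
  have h2 := h.ph_mul r.2 s.2 1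
  change (h.ph ((r : Y) * (s : Y)) 1)⁻¹ * h.ph ((r : Y) * (s : Y)) a = _
  have hr := h.ph_ne r.2 (one_ne_zero (α := F))
  have hs := h.ph_ne s.2 (one_ne_zero (α := F))
  rw [h1, h2, h.ph_sg s a, h.ph_sg r (h.ph s 1 * h.sg s a), h.ph_sg r (h.ph s 1), map_mul]
  have h3 : h.sg r (h.ph s 1) ≠ 0 := by
    rw [Ne, map_eq_zero]
    exact hs
  field_simp

theorem sg_bij (r : R) : Function.Bijective (h.sg r) :=
  (Finite.injective_iff_bijective).1 (h.sg r).injective

/-- `R → Aut(F)` -/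
noncomputable def ch : R →* (F ≃+* F) where
  toFun r := RingEquiv.ofBijective (h.sg r) (h.sg_bij r)
  map_one' := by
    apply RingEquiv.ext
    intro a
    change (h.ph (1 : Y) 1)⁻¹ * h.ph (1 : Y) a = a
    rw [h.ph_one, h.ph_one, inv_one, one_mul]
  map_mul' r s := by
    apply RingEquiv.ext
    intro a
    exact h.sg_mul r s a

theorem ch_apply (r : R) (a : F) : h.ch r a = h.sg r a := rfl

theorem ph_pow {r : R} (hr : h.ch r = 1) (n : ℕ) (a : F) : h.ph ((r : Y) ^ n) a = (h.ph r 1) ^ n * a := by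
  induction n generalizing a with
  | zero => rw [pow_zero, pow_zero, h.ph_one, one_mul]
  | succ n ih =>
    rw [pow_succ, h.ph_mul (pow_mem r.2 n) r.2, ih, h.ph_sg r a, ← h.ch_apply, hr, pow_succ]
    change h.ph r 1 ^ n * (h.ph r 1 * a) = _
    ring

theorem ker_ch {r : R} (hr : h.ch r = 1) : (r : Y) ∈ P := by
  obtain ⟨n, hn⟩ := h.R2 r
  have hn' : (r : Y) ^ 2 ^ n = 1 := by
    have := congrArg Subtype.val hn
    simpa using this
  have h1 := h.ph_pow hr (2 ^ n) 1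
  rw [hn', h.ph_one, mul_one] at h1
  -- `κ = 1`
  have h2 : h.ph r 1 = 1 := by
    have hchar : CharP F 2 := by
      have h3 : (2 : F) = 0 := by
        have := h.ff (1 : F)
        rw [one_add_one_eq_two] at this
        exact this
      have : CharP F (ringChar F) := ringChar.charP F
      have h4 : ringChar F ∣ 2 := (ringChar.spec F 2).1 (by exact_mod_cast h3)
      have h5 : ringChar F ≠ 1 := by
        intro h6
        have h7 : ((1 : ℕ) : F) = 0 := (ringChar.spec F 1).2 (by rw [h6])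
        rw [Nat.cast_one] at h7
        exact one_ne_zero h7
      have h6 : ringChar F = 2 := by
        rcases (Nat.dvd_prime Nat.prime_two).1 h4 with h7 | h7
        · exact absurd h7 h5
        · exact h7
      rw [← h6]; exact this
    have : Fact (Nat.Prime 2) := ⟨Nat.prime_two⟩
    have h3 : (h.ph r 1 - 1) ^ 2 ^ n = 0 := by
      rw [sub_pow_char_pow, one_pow, ← h1, sub_self]
    have h4 := pow_eq_zero_iff (n := 2 ^ n) (by positivity) |>.1 h3
    exact sub_eq_zero.1 h4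
  apply h.mem_P _ r.2
  intro w hw
  rw [← h.ker _ (add_mem (h.W₁_R _ r.2 w hw) hw), h.add _ (h.W₁_R _ r.2 w hw) w hw, h.ph_eq r.2 hw,
    h.ph_sg r, ← h.ch_apply, hr, h2]
  change 1 * f w + f w = 0
  rw [one_mul, h.ff]

theorem ph_P {x : Y} (hx : x ∈ P) (a : F) : h.ph x a = a := by
  have h1 := h.P_fix x hx _ (h.sec_mem a)
  have h2 := h.f_eq_of_add (h.W₁_R x (h.PR hx) _ (h.sec_mem a)) (h.sec_mem a) h1
  change f (x • h.sec a) = a
  rw [h2, h.f_sec]

theorem ch_P {r : R} (hr : (r : Y) ∈ P) : h.ch r = 1 := by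
  apply RingEquiv.ext
  intro a
  change (h.ph r 1)⁻¹ * h.ph r a = a
  rw [h.ph_P hr, h.ph_P hr, inv_one, one_mul]

theorem ker_eq : h.ch.ker = P.subgroupOf R := by
  ext r
  rw [MonoidHom.mem_ker, mem_subgroupOf]
  exact ⟨fun h1 => h.ker_ch h1, fun h1 => h.ch_P h1⟩

/-- `|A| ≤ 2 |A ∩ P|` -/
theorem card_le_two {A : Subgroup Y} (hAR : A ≤ R) (hA : ElAb A) : Nat.card A ≤ 2 * Nat.card ↥(A ⊓ P) := by
  classical
  let ψ : A →* (F ≃+* F) := h.ch.comp (Subgroup.inclusion hAR)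
  have hcyc : IsCyclic (F ≃+* F) := Cfsg.Agent.LieRecognition.FieldSemilinear.isCyclic_ringAut F
  have : Finite (F ≃+* F) := Finite.of_injective (fun σ : F ≃+* F => (σ : F → F)) DFunLike.coe_injective
  have : Fintype (F ≃+* F) := Fintype.ofFinite _
  have h1 : Nat.card ψ.range ≤ 2 := by
    have h2 := IsCyclic.card_pow_eq_one_le (α := F ≃+* F) (n := 2) (by norm_num)
    refine le_trans ?_ h2
    rw [← Fintype.card_coe, ← Nat.card_eq_fintype_card]
    apply Nat.card_le_card_of_injective (fun σ : ψ.range =>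
      (⟨(σ : F ≃+* F), by
        rw [Finset.mem_filter]
        refine ⟨Finset.mem_univ _, ?_⟩
        obtain ⟨a, ha⟩ := σ.2
        rw [← ha, ← map_pow]
        have h3 : a ^ 2 = 1 := by
          apply Subtype.ext
          change (a : Y) ^ 2 = 1
          rw [pow_two]
          exact hA.2 a a.2
        rw [h3, map_one]⟩ : {x // x ∈ Finset.univ.filter (fun x : F ≃+* F => x ^ 2 = 1)}))
    intro σ τ he
    apply Subtype.ext
    exact congrArg (fun z : {x // x ∈ Finset.univ.filter (fun x : F ≃+* F => x ^ 2 = 1)} => (z : F ≃+* F)) he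
  have h2 := Subgroup.card_mul_index ψ.ker
  rw [Subgroup.index_ker] at h2
  have h3 : Nat.card ψ.ker = Nat.card ↥(A ⊓ P) := by
    apply Nat.card_congr
    exact
      { toFun := fun a => ⟨((a : A) : Y), (a : A).2, h.ker_ch (r := ⟨((a : A) : Y), hAR (a : A).2⟩) a.2⟩
        invFun := fun a => ⟨⟨(a : Y), a.2.1⟩, h.ch_P (r := ⟨(a : Y), hAR a.2.1⟩) a.2.2⟩
        left_inv := fun a => rfl
        right_inv := fun a => rfl }
  rw [h3] at h2
  rw [← h2, mul_comm]
  exact Nat.mul_le_mul_right _ h1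

/-- the fixed points of `a` on the line -/
theorem card_fix_sq {a : Y} (ha : a ∈ R) (haP : a ∉ P) :
    Nat.card {x : F // h.ph a x = x} * Nat.card {x : F // h.ph a x = x} ≤ Nat.card F ∧ 4 ≤ Nat.card F := by
  have h1 : h.ch ⟨a, ha⟩ ≠ 1 := fun h2 => haP (h.ker_ch (r := ⟨a, ha⟩) h2)
  have h2 := card_fixed_sq F (h.ch ⟨a, ha⟩) h1
  have h3 : Nat.card {x : F // h.ph a x = x} ≤ Nat.card {x : F // h.ch ⟨a, ha⟩ x = x} := by
    by_cases h4 : ∃ x₀ : F, x₀ ≠ 0 ∧ h.ph a x₀ = x₀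
    · obtain ⟨x₀, hx0, hx⟩ := h4
      have h5 : h.ph a x₀ = h.ph a 1 * h.ch ⟨a, ha⟩ x₀ := h.ph_sg ⟨a, ha⟩ x₀
      apply Nat.card_le_card_of_injective (fun y : {x : F // h.ph a x = x} =>
        (⟨(y : F) / x₀, by
          have h6 : h.ph a (y : F) = h.ph a 1 * h.ch ⟨a, ha⟩ (y : F) := h.ph_sg ⟨a, ha⟩ (y : F)
          rw [y.2] at h6
          rw [hx] at h5
          have h7 : h.ph a 1 ≠ 0 := h.ph_ne ha one_ne_zero
          have h8 : h.ch ⟨a, ha⟩ x₀ ≠ 0 := by
            intro h9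
            rw [h9, mul_zero] at h5
            exact hx0 h5
          rw [map_div₀]
          conv_rhs => rw [h6, h5]
          rw [mul_div_mul_left _ _ h7]⟩ : {x : F // h.ch ⟨a, ha⟩ x = x}))
      rintro ⟨y, hy⟩ ⟨z, hz⟩ he
      have h9 : y / x₀ = z / x₀ := congrArg Subtype.val he
      apply Subtype.ext
      exact (div_left_inj' hx0).1 h9
    · push Not at h4
      have h5 : Nat.card {x : F // h.ph a x = x} ≤ 1 := by
        rw [Finite.card_le_one_iff_subsingleton]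
        refine ⟨?_⟩
        rintro ⟨y, hy⟩ ⟨z, hz⟩
        have hy0 : y = 0 := by
          by_contra hne
          exact h4 y hne hy
        have hz0 : z = 0 := by
          by_contra hne
          exact h4 z hne hz
        apply Subtype.ext
        change y = z
        rw [hy0, hz0]
      have h6 : 0 < Nat.card {x : F // h.ch ⟨a, ha⟩ x = x} := by
        have : Nonempty {x : F // h.ch ⟨a, ha⟩ x = x} := ⟨⟨0, map_zero _⟩⟩
        exact Nat.card_pos
      omega
  have h4 : 2 ≤ Nat.card {x : F // h.ch ⟨a, ha⟩ x = x} := by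
    have h5 : Nat.card Bool ≤ Nat.card {x : F // h.ch ⟨a, ha⟩ x = x} := by
      apply Nat.card_le_card_of_injective (fun b : Bool =>
        if b then (⟨1, map_one _⟩ : {x : F // h.ch ⟨a, ha⟩ x = x}) else ⟨0, map_zero _⟩)
      intro b b' he
      cases b <;> cases b'
      · rfl
      · exfalso
        have h6 : (0 : F) = 1 := congrArg Subtype.val he
        exact zero_ne_one h6
      · exfalso
        have h6 : (1 : F) = 0 := congrArg Subtype.val he
        exact one_ne_zero h6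
      · rfl
    have h6 : Nat.card Bool = 2 := by rw [Nat.card_eq_fintype_card]; rfl
    omega
  constructor
  · exact (Nat.mul_le_mul h3 h3).trans h2
  · nlinarith

/-- `|W||D| ≤ |{w ∈ W : [w, a] ∈ D}|²` -/
theorem card_Kr {a : Y} (ha : a ∈ R) (haa : a * a = 1) :
    Nat.card W * Nat.card D ≤ Nat.card ↥(D.comap (bk a) ⊓ W) * Nat.card ↥(D.comap (bk a) ⊓ W) := by
  let θ : W →+ V := (bk a).comp W.subtype
  have h1 := AddSubgroup.card_mul_index (D.comap θ)
  rw [AddSubgroup.index_comap] at h1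
  have h2 : Nat.card ↥(D.comap θ) = Nat.card ↥(D.comap (bk a) ⊓ W) := by
    apply Nat.card_congr
    exact
      { toFun := fun w => ⟨((w : W) : V), w.2, (w : W).2⟩
        invFun := fun w => ⟨⟨(w : V), w.2.2⟩, w.2.1⟩
        left_inv := fun w => rfl
        right_inv := fun w => rfl }
  rw [h2] at h1
  -- `I₁ ⊔ D ≤ Kr`
  have h3 : θ.range ⊔ D ≤ D.comap (bk a) ⊓ W := by
    refine sup_le ?_ ?_
    · rintro _ ⟨w, rfl⟩
      change bk a (w : V) ∈ D.comap (bk a) ⊓ W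
      refine ⟨?_, ?_⟩
      · change a • (a • (w : V) + (w : V)) + (a • (w : V) + (w : V)) ∈ D
        rw [smul_add, ← mul_smul, haa, one_smul]
        have e : (w : V) + a • (w : V) + (a • (w : V) + (w : V)) = (w : V) + (w : V) + (a • (w : V) + a • (w : V)) := by
          abel
        rw [e, h.two, h.two, add_zero]
        exact zero_mem _
      · exact add_mem (h.W_R a ha w w.2) w.2
    · intro d hd
      exact ⟨add_mem (h.D_R a ha d hd) hd, h.W₁W (h.DW hd)⟩
  have h4 := Nat.card_le_card_of_injective _ (AddSubgroup.inclusion_injective h3)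
  have h5 := card_sup_as θ.range D
  have h6 := AddSubgroup.relIndex_mul_relIndex ⊥ (D ⊓ θ.range) θ.range bot_le inf_le_right
  rw [AddSubgroup.relIndex_bot_left, AddSubgroup.relIndex_bot_left, AddSubgroup.inf_relIndex_right] at h6
  rw [inf_comm] at h5
  have h7 : 0 < Nat.card ↥(D ⊓ θ.range) := Nat.card_pos
  have h8 : Nat.card ↥(θ.range ⊔ D) = D.relIndex θ.range * Nat.card D := by
    apply Nat.eq_of_mul_eq_mul_right h7
    rw [h5, ← h6]; ring
  rw [← h1, mul_assoc]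
  apply Nat.mul_le_mul_left
  rw [← h8]
  exact h4

theorem card_Kr_W₁ {a : Y} (ha : a ∈ R) :
    Nat.card ↥(D.comap (bk a) ⊓ W₁) ≤ Nat.card {x : F // h.ph a x = x} * Nat.card D := by
  let θ : ↥(D.comap (bk a) ⊓ W₁) →+ F :=
    { toFun := fun w => f (w : V)
      map_zero' := h.f_zero
      map_add' := fun v w => h.add _ v.2.2 _ w.2.2 }
  have h1 := AddSubgroup.card_mul_index θ.ker
  rw [AddSubgroup.index_ker] at h1
  rw [← h1, mul_comm]
  apply Nat.mul_le_mul
  · apply Nat.card_le_card_of_injective (fun x : θ.range => (⟨(x : F), by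
      obtain ⟨w, hw⟩ := x.2
      rw [← hw]
      change h.ph a (f (w : V)) = f (w : V)
      rw [← h.ph_eq ha w.2.2]
      exact h.f_eq_of_add (h.W₁_R a ha _ w.2.2) w.2.2 w.2.1⟩ : {x : F // h.ph a x = x}))
    intro x y he
    apply Subtype.ext
    exact congrArg (fun z : {x : F // h.ph a x = x} => (z : F)) he
  · apply Nat.card_le_card_of_injective (fun x : θ.ker => (⟨((x : ↥(D.comap (bk a) ⊓ W₁)) : V), by
      rw [← h.ker _ (x : ↥(D.comap (bk a) ⊓ W₁)).2.2]
      exact x.2⟩ : D))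
    intro x y he
    apply Subtype.ext
    apply Subtype.ext
    exact congrArg (fun z : D => (z : V)) he

theorem exists_Kr {a : Y} (ha : a ∈ R) (haa : a * a = 1) (haP : a ∉ P) :
    ∃ x ∈ W, x ∉ W₁ ∧ a • x + x ∈ D := by
  by_contra hcon
  push Not at hcon
  have h1 : D.comap (bk a) ⊓ W ≤ D.comap (bk a) ⊓ W₁ := by
    rintro w ⟨hw1, hw2⟩
    refine ⟨hw1, ?_⟩
    by_contra h2
    exact hcon w hw2 h2 hw1
  have h2 := Nat.card_le_card_of_injective _ (AddSubgroup.inclusion_injective h1)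
  have h3 := h.card_Kr ha haa
  have h4 := h.card_Kr_W₁ ha
  obtain ⟨h5, h6⟩ := h.card_fix_sq ha haP
  have hD : 0 < Nat.card D := Nat.card_pos
  set n := Nat.card {x : F // h.ph a x = x} with hn
  set d := Nat.card D with hd
  set q := Nat.card F with hq
  rw [h.card_W, h.card_W₁] at h3
  have h7 : q * (q * d) * d ≤ n * d * (n * d) :=
    h3.trans (Nat.mul_le_mul (h2.trans h4) (h2.trans h4))
  have h8 : q * q * (d * d) ≤ q * (d * d) := by
    calc q * q * (d * d) = q * (q * d) * d := by ring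
      _ ≤ n * d * (n * d) := h7
      _ = n * n * (d * d) := by ring
      _ ≤ q * (d * d) := Nat.mul_le_mul_right _ h5
  have h9 : q * q ≤ q := Nat.le_of_mul_le_mul_right h8 (Nat.mul_pos hD hD)
  nlinarith

/-- `|A ∩ P| ≤ n |A ∩ Q|` -/
theorem card_inf_P {A : Subgroup Y} (hAR : A ≤ R) (hA : ElAb A) {a : Y} (ha : a ∈ A) (haP : a ∉ P) :
    Nat.card ↥(A ⊓ P) ≤ Nat.card {x : F // h.ph a x = x} * Nat.card ↥(A ⊓ Q) := by
  obtain ⟨x, hx, hx1, hxa⟩ := h.exists_Kr (hAR ha) (hA.2 a ha) haP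
  let θ : ↥(A ⊓ P) →* Multiplicative F :=
    { toFun := fun p => Multiplicative.ofAdd (f ((p : Y) • x + x))
      map_one' := by
        change Multiplicative.ofAdd (f ((1 : Y) • x + x)) = 1
        rw [one_smul, h.two, h.f_zero]
        rfl
      map_mul' := fun p p' => by
        change Multiplicative.ofAdd (f (((p : Y) * (p' : Y)) • x + x)) = _
        rw [← ofAdd_add]
        congr 1
        have hp := h.P_comm _ p.2.2 x hx
        have hp' := h.P_comm _ p'.2.2 x hx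
        rw [← h.add _ hp _ hp']
        apply h.f_eq_of_add (h.P_comm _ (mul_mem p.2.2 p'.2.2) x hx) (add_mem hp hp')
        have e : ((p : Y) * (p' : Y)) • x + x + ((p : Y) • x + x + ((p' : Y) • x + x)) =
            (p : Y) • ((p' : Y) • x + x) + ((p' : Y) • x + x) := by
          rw [smul_add, ← mul_smul]
          have : ((p : Y) * (p' : Y)) • x + x + ((p : Y) • x + x + ((p' : Y) • x + x)) =
            ((p : Y) * (p' : Y)) • x + (p : Y) • x + ((p' : Y) • x + x) + (x + x) := by abel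
          rw [this, h.two, add_zero]
        rw [e]
        exact h.P_fix _ p.2.2 _ hp' }
  have h1 := Subgroup.card_mul_index θ.ker
  rw [Subgroup.index_ker] at h1
  rw [← h1, mul_comm]
  apply Nat.mul_le_mul
  · apply Nat.card_le_card_of_injective (fun z : θ.range => (⟨Multiplicative.toAdd (z : Multiplicative F), by
      obtain ⟨p, hp⟩ := z.2
      rw [← hp]
      change h.ph a (f ((p : Y) • x + x)) = f ((p : Y) • x + x)
      have hp' := h.P_comm _ p.2.2 x hx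
      rw [← h.ph_eq (hAR ha) hp']
      apply h.f_eq_of_add (h.W₁_R a (hAR ha) _ hp') hp'
      have e : a • ((p : Y) • x + x) + ((p : Y) • x + x) = (p : Y) • (a • x + x) + (a • x + x) := by
        rw [smul_add, smul_add, ← mul_smul, ← mul_smul, hA.1 a ha p p.2.1]
        abel
      rw [e]
      exact add_mem (h.D_R _ (hAR p.2.1) _ hxa) hxa⟩ : {x : F // h.ph a x = x}))
    intro z z' he
    apply Subtype.ext
    exact Multiplicative.toAdd.injective (congrArg (fun z : {x : F // h.ph a x = x} => (z : F)) he)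
  · apply Nat.card_le_card_of_injective (fun z : θ.ker => (⟨((z : ↥(A ⊓ P)) : Y), (z : ↥(A ⊓ P)).2.1, by
      apply h.free _ (z : ↥(A ⊓ P)).2.2 x hx hx1
      rw [← h.ker _ (h.P_comm _ (z : ↥(A ⊓ P)).2.2 x hx)]
      have h2 : θ (z : ↥(A ⊓ P)) = 1 := z.2
      exact Multiplicative.ofAdd.injective h2⟩ : ↥(A ⊓ Q)))
    intro z z' he
    apply Subtype.ext
    apply Subtype.ext
    exact congrArg (fun w : ↥(A ⊓ Q) => (w : Y)) he

theorem card_P_le {A : Subgroup Y} (hAP : A ≤ P) : Nat.card A ≤ Nat.card F * Nat.card ↥(A ⊓ Q) :=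
  card_le_of_index h.QP hAP h.card_P

theorem sq_le {A : Subgroup Y} (hAR : A ≤ R) (hA : ElAb A) (hAP : ¬ A ≤ P) :
    Nat.card A * Nat.card A ≤ 4 * Nat.card F * (Nat.card ↥(A ⊓ Q) * Nat.card ↥(A ⊓ Q)) ∧ 4 ≤ Nat.card F := by
  obtain ⟨a, ha, haP⟩ := SetLike.not_le_iff_exists.1 hAP
  have h1 := h.card_le_two hAR hA
  have h2 := h.card_inf_P hAR hA ha haP
  obtain ⟨h3, h4⟩ := h.card_fix_sq (hAR ha) haP
  refine ⟨?_, h4⟩
  set n := Nat.card {x : F // h.ph a x = x} with hn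
  have h5 : Nat.card A ≤ 2 * (n * Nat.card ↥(A ⊓ Q)) := h1.trans (Nat.mul_le_mul_left _ h2)
  calc Nat.card A * Nat.card A ≤ 2 * (n * Nat.card ↥(A ⊓ Q)) * (2 * (n * Nat.card ↥(A ⊓ Q))) := Nat.mul_le_mul h5 h5
    _ = 4 * (n * n) * (Nat.card ↥(A ⊓ Q) * Nat.card ↥(A ⊓ Q)) := by ring
    _ ≤ 4 * Nat.card F * (Nat.card ↥(A ⊓ Q) * Nat.card ↥(A ⊓ Q)) :=
      Nat.mul_le_mul_right _ (Nat.mul_le_mul_left _ h3)

/-- **`|A| ≤ c |A ∩ Q|`** -/
theorem ea {A : Subgroup Y} (hAR : A ≤ R) (hA : ElAb A) : Nat.card A ≤ Nat.card F * Nat.card ↥(A ⊓ Q) := by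
  by_cases hAP : A ≤ P
  · exact h.card_P_le hAP
  · obtain ⟨h1, h2⟩ := h.sq_le hAR hA hAP
    apply Nat.mul_self_le_mul_self_iff.1
    calc Nat.card A * Nat.card A ≤ 4 * Nat.card F * (Nat.card ↥(A ⊓ Q) * Nat.card ↥(A ⊓ Q)) := h1
      _ ≤ Nat.card F * Nat.card F * (Nat.card ↥(A ⊓ Q) * Nat.card ↥(A ⊓ Q)) :=
        Nat.mul_le_mul_right _ (Nat.mul_le_mul_right _ h2)
      _ = _ := by ring

/-- the exceptional case -/
theorem fld {A : Subgroup Y} (hAR : A ≤ R) (hA : ElAb A) (hAP : ¬ A ≤ P)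
    (hc : Nat.card A = Nat.card F * Nat.card ↥(A ⊓ Q)) :
    Nat.card F = 4 ∧ ¬ A ⊓ P ≤ Q ∧ Nat.card R ≤ 2 * Nat.card P := by
  obtain ⟨h1, h2⟩ := h.sq_le hAR hA hAP
  have hm : 0 < Nat.card ↥(A ⊓ Q) := Nat.card_pos
  have h3 : Nat.card F = 4 := by
    apply le_antisymm _ h2
    rw [hc] at h1
    have h4 : Nat.card F * Nat.card F * (Nat.card ↥(A ⊓ Q) * Nat.card ↥(A ⊓ Q)) ≤
        4 * Nat.card F * (Nat.card ↥(A ⊓ Q) * Nat.card ↥(A ⊓ Q)) := by
      calc _ = Nat.card F * Nat.card ↥(A ⊓ Q) * (Nat.card F * Nat.card ↥(A ⊓ Q)) := by ring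
        _ ≤ _ := h1
    have h5 := Nat.le_of_mul_le_mul_right h4 (Nat.mul_pos hm hm)
    exact Nat.le_of_mul_le_mul_right h5 (by omega)
  refine ⟨h3, fun h4 => ?_, ?_⟩
  · have h5 : A ⊓ P ≤ A ⊓ Q := le_inf inf_le_left h4
    have h6 := Nat.card_le_card_of_injective _ (Subgroup.inclusion_injective h5)
    have h7 := h.card_le_two hAR hA
    rw [hc, h3] at h7
    omega
  · have h4 := Subgroup.card_mul_index h.ch.ker
    rw [Subgroup.index_ker, h.ker_eq] at h4
    have h5 : Nat.card ↥(P.subgroupOf R) = Nat.card P := Nat.card_congr (subgroupOfEquivOfLe h.PR).toEquiv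
    rw [h5] at h4
    rw [← h4, mul_comm]
    apply Nat.mul_le_mul_right
    have : Finite (F ≃+* F) := Finite.of_injective (fun σ : F ≃+* F => (σ : F → F)) DFunLike.coe_injective
    exact (Nat.card_le_card_of_injective _ Subtype.val_injective).trans (card_aut_four F h3)

end SemiL

end Cfsg.Agent.Omega.NO1.TH

end

section


/-!
# N1, the amalgam: `KOne` from `KNat` with `k = 1` (field automorphisms allowed)
-/

set_option autoImplicit false
set_option linter.unusedSectionVars false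
set_option linter.unusedVariables false

namespace Cfsg.Agent.Omega.NO1.TH

open Subgroup Cfsg.Agent.Omega.NO1.AB Cfsg.Agent.Lib.SL2Mat
open Cfsg.Agent.Omega.NatPair (ap)
open Cfsg.Agent.Omega.NO1.TH.K (Acts KNat)
open scoped Pointwise

universe u

variable {Y : Type u} [Group Y] {V : Type u} [AddCommGroup V] [DistribMulAction Y V]

/-- The situation. -/
structure Nt (V : Type u) [AddCommGroup V] [DistribMulAction Y V] (U : Set (Subgroup Y)) (T : Sylow 2 Y)
    (M H R P : Subgroup Y) (F : Type) [Field F] (co : V → Fin 1 → Fin 2 → F) (t : Y) (D W₁ : AddSubgroup V) :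
    Prop where
  amb : Amb V U T M
  a : Amal U T M H R t
  we : WE V U H R
  K : KNat V H R F 1 co
  mem_D : ∀ w, w ∈ D ↔ w ∈ WW V H R ∧ co w = 0
  mem_W₁ : ∀ w, w ∈ W₁ ↔ w ∈ WW V H R ∧ co w 0 1 = 0
  mem_P : ∀ x, x ∈ P ↔ x ∈ R ∧ ∀ w ∈ W₁, x • w + w ∈ D

theorem exists_Nt {U : Set (Subgroup Y)} {T : Sylow 2 Y} {M H R : Subgroup Y} {F : Type} [Field F]
    {co : V → Fin 1 → Fin 2 → F} {t : Y} (amb : Amb V U T M) (a : Amal U T M H R t) (we : WE V U H R)
    (K : KNat V H R F 1 co) : ∃ (P : Subgroup Y) (D W₁ : AddSubgroup V), Nt V U T M H R P F co t D W₁ := by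
  have h0 : co 0 = 0 := by
    have h1 := K.add 0 (zero_mem _) 0 (zero_mem _)
    rw [add_zero] at h1
    exact left_eq_add.1 h1
  have hneg : ∀ v : V, -v = v := fun v => neg_eq_of_add_eq_zero_left (amb.two v)
  let D : AddSubgroup V :=
    { carrier := {w | w ∈ WW V H R ∧ co w = 0}
      zero_mem' := ⟨zero_mem _, h0⟩
      add_mem' := fun {v w} hv hw => ⟨add_mem hv.1 hw.1, by rw [K.add v hv.1 w hw.1, hv.2, hw.2, add_zero]⟩
      neg_mem' := fun {v} hv => by
        change -v ∈ WW V H R ∧ co (-v) = 0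
        rw [hneg]; exact hv }
  let W₁ : AddSubgroup V :=
    { carrier := {w | w ∈ WW V H R ∧ co w 0 1 = 0}
      zero_mem' := ⟨zero_mem _, by rw [h0]; rfl⟩
      add_mem' := fun {v w} hv hw => ⟨add_mem hv.1 hw.1, by
        rw [K.add v hv.1 w hw.1, Pi.add_apply, Pi.add_apply, hv.2, hw.2, add_zero]⟩
      neg_mem' := fun {v} hv => by
        change -v ∈ WW V H R ∧ co (-v) 0 1 = 0
        rw [hneg]; exact hv }
  have hD : ∀ x ∈ H, ∀ w ∈ D, x • w ∈ D := by
    rintro x hx w ⟨hw, hw0⟩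
    refine ⟨smul_mem_WW hx hw, ?_⟩
    obtain ⟨σ, hσ⟩ := K.perm x hx
    funext i
    have h1 := (hσ w hw 0).2 (by rw [hw0]; rfl)
    rw [Subsingleton.elim i (σ 0)]
    exact h1
  have hW : ∀ x ∈ R, ∀ w ∈ W₁, x • w ∈ W₁ := by
    rintro x hx w ⟨hw, hw0⟩
    refine ⟨smul_mem_WW (a.RH hx) hw, ?_⟩
    obtain ⟨σ, hσ⟩ := K.line x hx
    have h1 := (hσ w hw 0).2 hw0
    rw [Subsingleton.elim (σ 0) 0] at h1
    exact h1
  let P : Subgroup Y :=
    { carrier := {x | x ∈ R ∧ ∀ w ∈ W₁, x • w + w ∈ D}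
      one_mem' := ⟨R.one_mem, fun w _ => by rw [one_smul, amb.two]; exact zero_mem _⟩
      mul_mem' := fun {x y} hx hy => ⟨R.mul_mem hx.1 hy.1, fun w hw => by
        have e : (x * y) • w + w = (x • (y • w) + y • w) + (y • w + w) := by
          rw [mul_smul]
          have : x • y • w + y • w + (y • w + w) = x • y • w + (y • w + y • w) + w := by abel
          rw [this, amb.two, add_zero]
        rw [e]
        exact add_mem (hx.2 _ (hW y hy.1 w hw)) (hy.2 w hw)⟩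
      inv_mem' := fun {x} hx => ⟨R.inv_mem hx.1, fun w hw => by
        have e : x⁻¹ • w + w = x⁻¹ • (x • w + w) := by
          rw [smul_add, inv_smul_smul, add_comm]
        rw [e]
        exact hD _ (H.inv_mem (a.RH hx.1)) _ (hx.2 w hw)⟩ }
  exact ⟨P, D, W₁, amb, a, we, K, fun _ => Iff.rfl, fun _ => Iff.rfl, fun _ => Iff.rfl⟩

namespace Nt

variable [Finite Y] [Finite V] {U : Set (Subgroup Y)} {T : Sylow 2 Y} {M H R P : Subgroup Y} {F : Type} [Field F]
  [Finite F] {co : V → Fin 1 → Fin 2 → F} {t : Y} {D W₁ : AddSubgroup V}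
  (n : Nt V U T M H R P F co t D W₁)
include n

theorem co_zero : co 0 = 0 := by
  have h1 := n.K.add 0 (zero_mem _) 0 (zero_mem _)
  rw [add_zero] at h1
  exact left_eq_add.1 h1

theorem ff (x : F) : x + x = 0 := by
  obtain ⟨v, hv, h1⟩ := n.K.surj (fun _ _ => x)
  have h2 := n.K.add v hv v hv
  rw [n.amb.two, n.co_zero, h1] at h2
  exact (congrFun (congrFun h2 0) 0).symm

theorem co_add_eq {v w : V} (hv : v ∈ WW V H R) (hw : w ∈ WW V H R) : co (v + w) = 0 ↔ co v = co w := by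
  rw [n.K.add v hv w hw]
  constructor
  · intro h
    funext i j
    have h1 : co v i j + co w i j = 0 := congrFun (congrFun h i) j
    have h2 := eq_neg_of_add_eq_zero_left h1
    rw [h2]
    exact neg_eq_of_add_eq_zero_left (n.ff _)
  · intro h
    rw [h]
    funext i j
    exact n.ff _

theorem add_mem_D {v w : V} (hv : v ∈ WW V H R) (hw : w ∈ WW V H R) : v + w ∈ D ↔ co v = co w := by
  rw [n.mem_D, n.co_add_eq hv hw]
  exact ⟨fun h => h.2, fun h => ⟨add_mem hv hw, h⟩⟩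

omit [Finite Y] [Finite V] [Finite F] n in
theorem co_ext {x y : Fin 1 → Fin 2 → F} (h0 : x 0 0 = y 0 0) (h1 : x 0 1 = y 0 1) : x = y := by
  funext i j
  have hi : i = 0 := Subsingleton.elim _ _
  subst hi
  fin_cases j
  · exact h0
  · exact h1

theorem D_H {x : Y} (hx : x ∈ H) {w : V} (hw : w ∈ D) : x • w ∈ D := by
  rw [n.mem_D] at hw ⊢
  refine ⟨smul_mem_WW hx hw.1, ?_⟩
  obtain ⟨σ, hσ⟩ := n.K.perm x hx
  funext i
  have h1 := (hσ w hw.1 0).2 (by rw [hw.2]; rfl)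
  rw [Subsingleton.elim i (σ 0)]
  exact h1

theorem W₁_R {x : Y} (hx : x ∈ R) {w : V} (hw : w ∈ W₁) : x • w ∈ W₁ := by
  rw [n.mem_W₁] at hw ⊢
  refine ⟨smul_mem_WW (n.a.RH hx) hw.1, ?_⟩
  obtain ⟨σ, hσ⟩ := n.K.line x hx
  have h1 := (hσ w hw.1 0).2 hw.2
  rwa [Subsingleton.elim (σ 0) 0] at h1

theorem DW : D ≤ W₁ := fun w hw => by
  rw [n.mem_D] at hw
  rw [n.mem_W₁, hw.2]
  exact ⟨hw.1, rfl⟩

theorem W₁W : W₁ ≤ WW V H R := fun w hw => ((n.mem_W₁ w).1 hw).1

theorem mem_D_iff {w : V} (hw : w ∈ W₁) : w ∈ D ↔ co w 0 0 = 0 := by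
  rw [n.mem_W₁] at hw
  rw [n.mem_D]
  constructor
  · intro h; rw [h.2]; rfl
  · intro h; exact ⟨hw.1, co_ext h hw.2⟩

/-- a vector with given coordinates -/
theorem exists_co (x y : F) : ∃ v ∈ WW V H R, co v 0 0 = x ∧ co v 0 1 = y := by
  obtain ⟨v, hv, h1⟩ := n.K.surj (fun _ => ![x, y])
  exact ⟨v, hv, by rw [h1]; rfl, by rw [h1]; rfl⟩

/-- elements trivial in the coordinates are in `Q` -/
theorem mem_Q {x : Y} (hx : x ∈ R) (h1 : ∀ w ∈ WW V H R, co (x • w) = co w) : x ∈ QQ H R :=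
  n.K.triv x hx fun w hw => (n.co_add_eq (smul_mem_WW (n.a.RH hx) hw) hw).2 (h1 w hw)

end Nt

/-- `x` acts as `up b` on the coordinates -/
def CUp (V : Type u) [AddCommGroup V] [DistribMulAction Y V] (H R : Subgroup Y) {F : Type} [Field F]
    (co : V → Fin 1 → Fin 2 → F) (x : Y) (b : F) : Prop :=
  ∀ w ∈ WW V H R, co (x • w) 0 0 = co w 0 0 + b * co w 0 1 ∧ co (x • w) 0 1 = co w 0 1

theorem CUp.of_acts {H R : Subgroup Y} {F : Type} [Field F] {co : V → Fin 1 → Fin 2 → F} {x : Y} {b : F}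
    (h : Acts V H R co x fun _ => up b) : CUp V H R co x b := by
  intro w hw
  have h1 := h.1 w hw 0
  rw [h1]
  constructor
  · rw [NatPair.ap_zero', up_00, up_01, one_mul]
  · rw [NatPair.ap_one', up_10, up_11, zero_mul, zero_add, one_mul]

namespace Nt

variable [Finite Y] [Finite V] {U : Set (Subgroup Y)} {T : Sylow 2 Y} {M H R P : Subgroup Y} {F : Type} [Field F]
  [Finite F] {co : V → Fin 1 → Fin 2 → F} {t : Y} {D W₁ : AddSubgroup V}
  (n : Nt V U T M H R P F co t D W₁)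
include n

theorem up_Q {x : Y} (hx : x ∈ R) (h1 : CUp V H R co x 0) : x ∈ QQ H R := by
  apply n.mem_Q hx
  intro w hw
  obtain ⟨h2, h3⟩ := h1 w hw
  rw [zero_mul, add_zero] at h2
  exact co_ext h2 h3

theorem up_P {x : Y} (hx : x ∈ R) {b : F} (h1 : CUp V H R co x b) : x ∈ P := by
  rw [n.mem_P]
  refine ⟨hx, fun w hw => ?_⟩
  rw [n.mem_W₁] at hw
  rw [n.add_mem_D (smul_mem_WW (n.a.RH hx) hw.1) hw.1]
  obtain ⟨h2, h3⟩ := h1 w hw.1
  rw [hw.2, mul_zero, add_zero] at h2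
  exact co_ext h2 h3

theorem up_mul {x y : Y} (hx : x ∈ H) (hy : y ∈ H) {b c : F} (h1 : CUp V H R co x b) (h2 : CUp V H R co y c) :
    CUp V H R co (x * y) (b + c) := by
  intro w hw
  obtain ⟨h3, h4⟩ := h2 w hw
  obtain ⟨h5, h6⟩ := h1 (y • w) (smul_mem_WW hy hw)
  rw [mul_smul, h5, h6, h3, h4]
  exact ⟨by ring, rfl⟩

theorem up_inv {x : Y} (hx : x ∈ H) {b : F} (h1 : CUp V H R co x b) : CUp V H R co x⁻¹ b := by
  intro w hw
  obtain ⟨h3, h4⟩ := h1 (x⁻¹ • w) (smul_mem_WW (H.inv_mem hx) hw)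
  rw [smul_inv_smul] at h3 h4
  refine ⟨?_, h4.symm⟩
  rw [h3, h4, add_assoc, n.ff, add_zero]

/-- offenders act as the full root group -/
theorem off1 {A : Subgroup Y} (hAR : A ≤ R) (hA : ElAb A) (hAQ : ¬ A ≤ QQ H R)
    (hle : Nat.card ↥(A ⊓ QQ H R) * Nat.card ↥(WW V H R) ≤ Nat.card A * Nat.card ↥(fx V A ⊓ WW V H R)) :
    (∀ x ∈ A, ∃ b, CUp V H R co x b) ∧ ∀ b, ∃ x ∈ A, CUp V H R co x b := by
  obtain ⟨I, h1, h2⟩ := n.K.off A hAR hA hAQ hle
  have h0 : (0 : Fin 1) ∈ I := by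
    by_contra h3
    apply hAQ
    intro x hx
    obtain ⟨b, hb, hbx⟩ := h1 x hx
    have hb0 : b 0 = 0 := hb 0 h3
    have e : (fun i => up (b i)) = fun _ : Fin 1 => up (0 : F) := by
      funext i
      rw [Subsingleton.elim i 0, hb0]
    rw [e] at hbx
    exact n.up_Q (hAR hx) (CUp.of_acts hbx)
  refine ⟨fun x hx => ?_, fun b => ?_⟩
  · obtain ⟨b, hb, hbx⟩ := h1 x hx
    have e : (fun i => up (b i)) = fun _ : Fin 1 => up (b 0) := by
      funext i
      rw [Subsingleton.elim i 0]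
    rw [e] at hbx
    exact ⟨b 0, CUp.of_acts hbx⟩
  · obtain ⟨x, hx, hbx⟩ := h2 (fun _ => b) (fun i hi => absurd (by rwa [Subsingleton.elim i 0]) hi)
    exact ⟨x, hx, CUp.of_acts hbx⟩

theorem card_up {A : Subgroup Y} (hAR : A ≤ R) (h1 : ∀ x ∈ A, ∃ b, CUp V H R co x b)
    (h2 : ∀ b, ∃ x ∈ A, CUp V H R co x b) : Nat.card A = Nat.card F * Nat.card ↥(A ⊓ QQ H R) := by
  obtain ⟨v, hv, hv0, hv1⟩ := n.exists_co 0 1
  have key : ∀ {x : Y} {b : F}, CUp V H R co x b → co (x • v) 0 0 = b := by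
    intro x b hx
    rw [(hx v hv).1, hv0, hv1, zero_add, mul_one]
  let θ : A →* Multiplicative F :=
    { toFun := fun x => Multiplicative.ofAdd (co ((x : Y) • v) 0 0)
      map_one' := by
        change Multiplicative.ofAdd (co ((1 : Y) • v) 0 0) = 1
        rw [one_smul, hv0]; rfl
      map_mul' := fun x y => by
        change Multiplicative.ofAdd (co (((x : Y) * (y : Y)) • v) 0 0) = _
        obtain ⟨b, hb⟩ := h1 x x.2
        obtain ⟨c, hc⟩ := h1 y y.2
        rw [← ofAdd_add, key hb, key hc,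
          key (n.up_mul (n.a.RH (hAR x.2)) (n.a.RH (hAR y.2)) hb hc)] }
  have hs : Function.Surjective θ := by
    intro b
    obtain ⟨x, hx, hb⟩ := h2 (Multiplicative.toAdd b)
    refine ⟨⟨x, hx⟩, ?_⟩
    change Multiplicative.ofAdd (co (x • v) 0 0) = b
    rw [key hb]
    rfl
  have h3 := Subgroup.card_mul_index θ.ker
  rw [Subgroup.index_ker, MonoidHom.range_eq_top.2 hs, Subgroup.card_top] at h3
  have h4 : Nat.card θ.ker = Nat.card ↥(A ⊓ QQ H R) := by
    apply Nat.card_congr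
    exact
      { toFun := fun x => ⟨((x : A) : Y), (x : A).2, by
          obtain ⟨b, hb⟩ := h1 _ (x : A).2
          have h5 : Multiplicative.ofAdd (co (((x : A) : Y) • v) 0 0) = 1 := x.2
          have h6 : b = 0 := by
            rw [key hb] at h5
            exact Multiplicative.ofAdd.injective h5
          rw [h6] at hb
          exact n.up_Q (hAR (x : A).2) hb⟩
        invFun := fun x => ⟨⟨(x : Y), x.2.1⟩, by
          change Multiplicative.ofAdd (co ((x : Y) • v) 0 0) = 1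
          rw [Amal.QQ_fix n.a n.amb x.2.2 hv, hv0]; rfl⟩
        left_inv := fun x => rfl
        right_inv := fun x => rfl }
  rw [← h3, h4, mul_comm]
  rfl

theorem card_W : Nat.card ↥(WW V H R) = Nat.card F * Nat.card W₁ := by
  let θ : WW V H R →+ F :=
    { toFun := fun w => co (w : V) 0 1
      map_zero' := by
        change co (0 : V) 0 1 = 0
        rw [n.co_zero]; rfl
      map_add' := fun v w => by
        change co ((v : V) + (w : V)) 0 1 = _
        rw [n.K.add _ v.2 _ w.2]; rfl }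
  have hs : Function.Surjective θ := by
    intro y
    obtain ⟨v, hv, -, h1⟩ := n.exists_co 0 y
    exact ⟨⟨v, hv⟩, h1⟩
  have h3 := AddSubgroup.card_mul_index θ.ker
  rw [AddSubgroup.index_ker, AddMonoidHom.range_eq_top.2 hs, AddSubgroup.card_top] at h3
  have h4 : Nat.card θ.ker = Nat.card W₁ := by
    apply Nat.card_congr
    exact
      { toFun := fun x => ⟨((x : WW V H R) : V), (n.mem_W₁ _).2 ⟨(x : WW V H R).2, x.2⟩⟩
        invFun := fun x => ⟨⟨(x : V), n.W₁W x.2⟩, ((n.mem_W₁ _).1 x.2).2⟩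
        left_inv := fun x => rfl
        right_inv := fun x => rfl }
  rw [← h3, h4, mul_comm]

theorem card_W₁ : Nat.card W₁ = Nat.card F * Nat.card D := by
  let θ : W₁ →+ F :=
    { toFun := fun w => co (w : V) 0 0
      map_zero' := by
        change co (0 : V) 0 0 = 0
        rw [n.co_zero]; rfl
      map_add' := fun v w => by
        change co ((v : V) + (w : V)) 0 0 = _
        rw [n.K.add _ (n.W₁W v.2) _ (n.W₁W w.2)]; rfl }
  have hs : Function.Surjective θ := by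
    intro y
    obtain ⟨v, hv, h0, h1⟩ := n.exists_co y 0
    exact ⟨⟨v, (n.mem_W₁ _).2 ⟨hv, h1⟩⟩, h0⟩
  have h3 := AddSubgroup.card_mul_index θ.ker
  rw [AddSubgroup.index_ker, AddMonoidHom.range_eq_top.2 hs, AddSubgroup.card_top] at h3
  have h4 : Nat.card θ.ker = Nat.card D := by
    apply Nat.card_congr
    exact
      { toFun := fun x => ⟨((x : W₁) : V), (n.mem_D_iff (x : W₁).2).2 x.2⟩
        invFun := fun x => ⟨⟨(x : V), n.DW x.2⟩, (n.mem_D_iff (n.DW x.2)).1 x.2⟩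
        left_inv := fun x => rfl
        right_inv := fun x => rfl }
  rw [← h3, h4, mul_comm]

/-! ### The root group -/

/-- the coordinates of `x • w`, from `lo 1` -/
theorem P_cup {x : Y} (hx : x ∈ P) : ∃ b, CUp V H R co x b := by
  have hxR : x ∈ R := ((n.mem_P x).1 hx).1
  have hxH : x ∈ H := n.a.RH hxR
  have hW : ∀ w ∈ WW V H R, x • w ∈ WW V H R := fun w hw => smul_mem_WW hxH hw
  -- `x` fixes the coordinates of the elements of `W₁`
  have hfix : ∀ w ∈ W₁, co (x • w) = co w := fun w hw =>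
    (n.add_mem_D (hW w (n.W₁W hw)) (n.W₁W hw)).1 (((n.mem_P x).1 hx).2 w hw)
  -- step 1 : the second coordinate is multiplied by a constant
  obtain ⟨μ, hμ⟩ : ∃ μ : F, ∀ w ∈ WW V H R, co (x • w) 0 1 = μ * co w 0 1 := by
    obtain ⟨r, hr, hrA⟩ := n.K.unip (fun _ => 1)
    have hrU := CUp.of_acts hrA
    obtain ⟨B, hB⟩ := n.K.norm x hxH r (n.a.RH hr) _ hrA.1
    have hB' : ∀ w ∈ WW V H R, co (x • r • w) 0 = ap (B 0) (co (x • w) 0) := by
      intro w hw
      have h1 := hB (x • w) (hW w hw) 0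
      rw [mul_smul, mul_smul, inv_smul_smul] at h1
      exact h1
    -- the line
    obtain ⟨e, he, he0, he1⟩ := n.exists_co 1 0
    have heW₁ : e ∈ W₁ := (n.mem_W₁ e).2 ⟨he, he1⟩
    have h2 : co (x • r • e) = co (x • e) := by
      have h3 : r • e ∈ W₁ := n.W₁_R hr heW₁
      rw [hfix _ h3, hfix _ heW₁]
      apply co_ext
      · rw [(hrU e he).1, he1, mul_zero, add_zero]
      · exact (hrU e he).2
    have h3 := hB' e he
    rw [h2, hfix e heW₁] at h3
    have h30 := congrFun h3 0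
    have h31 := congrFun h3 1
    rw [NatPair.ap_zero', he0, he1, mul_zero, add_zero, mul_one] at h30
    rw [NatPair.ap_one', he0, he1, mul_zero, add_zero, mul_one] at h31
    -- a general vector
    have h4 : ∀ w ∈ WW V H R, co w 0 1 = ent (B 0) 0 1 * co (x • w) 0 1 := by
      intro w hw
      have hrw : r • w ∈ WW V H R := smul_mem_WW (n.a.RH hr) hw
      have h5 : r • w + w ∈ WW V H R := add_mem hrw hw
      have h6 : r • w + w ∈ W₁ := by
        refine (n.mem_W₁ _).2 ⟨h5, ?_⟩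
        rw [n.K.add _ hrw _ hw, Pi.add_apply, Pi.add_apply, (hrU w hw).2, n.ff]
      have h7 := hfix _ h6
      rw [smul_add, n.K.add _ (hW _ hrw) _ (hW _ hw), n.K.add _ hrw _ hw] at h7
      have h8 : co (x • r • w) 0 0 + co (x • w) 0 0 = co (r • w) 0 0 + co w 0 0 :=
        congrFun (congrFun h7 0) 0
      have h9 := congrFun (hB' w hw) 0
      rw [NatPair.ap_zero', ← h30, one_mul] at h9
      rw [h9, (hrU w hw).1, one_mul] at h8
      have e1 : co (x • w) 0 0 + ent (B 0) 0 1 * co (x • w) 0 1 + co (x • w) 0 0 =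
          ent (B 0) 0 1 * co (x • w) 0 1 + (co (x • w) 0 0 + co (x • w) 0 0) := by ring
      have e2 : co w 0 0 + co w 0 1 + co w 0 0 = co w 0 1 + (co w 0 0 + co w 0 0) := by ring
      rw [e1, e2, n.ff, n.ff, add_zero, add_zero] at h8
      exact h8.symm
    have hne : ent (B 0) 0 1 ≠ 0 := by
      intro h5
      obtain ⟨v, hv, -, hv1⟩ := n.exists_co 0 1
      have h6 := h4 v hv
      rw [h5, zero_mul, hv1] at h6
      exact one_ne_zero h6
    refine ⟨(ent (B 0) 0 1)⁻¹, fun w hw => ?_⟩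
    rw [h4 w hw, inv_mul_cancel_left₀ hne]
  -- `μ = 1`
  have hμ1 : μ = 1 := by
    have h1 : ∀ m : ℕ, ∀ w ∈ WW V H R, co (x ^ m • w) 0 1 = μ ^ m * co w 0 1 := by
      intro m
      induction m with
      | zero => intro w _; rw [pow_zero, pow_zero, one_smul, one_mul]
      | succ m ih =>
        intro w hw
        rw [pow_succ, mul_smul, ih _ (hW w hw), hμ w hw, pow_succ, mul_assoc]
    obtain ⟨m, hm⟩ := n.a.R2 ⟨x, hxR⟩
    have hm' : x ^ 2 ^ m = 1 := by
      have := congrArg Subtype.val hm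
      simpa using this
    obtain ⟨v, hv, -, hv1⟩ := n.exists_co 0 1
    have h2 := h1 (2 ^ m) v hv
    rw [hm', one_smul, hv1, mul_one] at h2
    have hchar : CharP F 2 := by
      have h3 : (2 : F) = 0 := by
        have := n.ff (1 : F)
        rw [one_add_one_eq_two] at this
        exact this
      have : CharP F (ringChar F) := ringChar.charP F
      have h4 : ringChar F ∣ 2 := (ringChar.spec F 2).1 (by exact_mod_cast h3)
      have h5 : ringChar F ≠ 1 := by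
        intro h6
        have h7 : ((1 : ℕ) : F) = 0 := (ringChar.spec F 1).2 (by rw [h6])
        rw [Nat.cast_one] at h7
        exact one_ne_zero h7
      have h6 : ringChar F = 2 := by
        rcases (Nat.dvd_prime Nat.prime_two).1 h4 with h7 | h7
        · exact absurd h7 h5
        · exact h7
      rw [← h6]; exact this
    have : Fact (Nat.Prime 2) := ⟨Nat.prime_two⟩
    have h3 : (μ - 1) ^ 2 ^ m = 0 := by
      rw [sub_pow_char_pow, one_pow, ← h2, sub_self]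
    have h4 := pow_eq_zero_iff (n := 2 ^ m) (by positivity) |>.1 h3
    exact sub_eq_zero.1 h4
  subst hμ1
  have h2nd : ∀ w ∈ WW V H R, co (x • w) 0 1 = co w 0 1 := fun w hw => by rw [hμ w hw, one_mul]
  -- step 2 : the first coordinate
  obtain ⟨g, hg, hgA⟩ := n.K.lift (fun _ => lo 1)
  obtain ⟨B, hB⟩ := n.K.norm x hxH g hg _ hgA.1
  have hB' : ∀ w ∈ WW V H R, co w 0 0 + co w 0 1 =
      ent (B 0) 1 0 * co (x • w) 0 0 + ent (B 0) 1 1 * co w 0 1 := by
    intro w hw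
    have h1 := hB (x • w) (hW w hw) 0
    rw [mul_smul, mul_smul, inv_smul_smul] at h1
    have h2 := congrFun h1 1
    rw [NatPair.ap_one', h2nd _ (smul_mem_WW hg hw), h2nd w hw] at h2
    have h3 := congrFun (hgA.1 w hw 0) 1
    rw [NatPair.ap_one', lo_10, lo_11, one_mul, one_mul] at h3
    rw [← h2, h3]
  have h10 : ent (B 0) 1 0 = 1 := by
    obtain ⟨e, he, he0, he1⟩ := n.exists_co 1 0
    have h1 := hB' e he
    rw [hfix e ((n.mem_W₁ e).2 ⟨he, he1⟩), he0, he1, mul_one, mul_zero, add_zero, add_zero] at h1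
    exact h1.symm
  refine ⟨1 - ent (B 0) 1 1, fun w hw => ⟨?_, h2nd w hw⟩⟩
  have h1 := hB' w hw
  rw [h10, one_mul] at h1
  linear_combination -h1

theorem QP : QQ H R ≤ P := by
  intro x hx
  rw [n.mem_P]
  refine ⟨QQ_le hx, fun w hw => ?_⟩
  rw [Amal.QQ_fix n.a n.amb hx (n.W₁W hw), n.amb.two]
  exact zero_mem _

theorem PR : P ≤ R := fun x hx => ((n.mem_P x).1 hx).1

theorem P_comm {x : Y} (hx : x ∈ P) {w : V} (hw : w ∈ WW V H R) : x • w + w ∈ W₁ := by
  obtain ⟨b, hb⟩ := n.P_cup hx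
  have hxw : x • w ∈ WW V H R := smul_mem_WW (n.a.RH (n.PR hx)) hw
  refine (n.mem_W₁ _).2 ⟨add_mem hxw hw, ?_⟩
  rw [n.K.add _ hxw _ hw, Pi.add_apply, Pi.add_apply, (hb w hw).2, n.ff]

theorem free {x : Y} (hx : x ∈ P) {w : V} (hw : w ∈ WW V H R) (hw1 : w ∉ W₁) (h1 : x • w + w ∈ D) :
    x ∈ QQ H R := by
  obtain ⟨b, hb⟩ := n.P_cup hx
  have hxw : x • w ∈ WW V H R := smul_mem_WW (n.a.RH (n.PR hx)) hw
  rw [n.add_mem_D hxw hw] at h1
  have h2 := (hb w hw).1
  rw [h1] at h2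
  have h3 : b * co w 0 1 = 0 := (left_eq_add.1 h2)
  have h4 : co w 0 1 ≠ 0 := fun h5 => hw1 ((n.mem_W₁ w).2 ⟨hw, h5⟩)
  have h5 : b = 0 := (mul_eq_zero.1 h3).resolve_right h4
  rw [h5] at hb
  exact n.up_Q (n.PR hx) hb

theorem exists_up (b : F) : ∃ x ∈ P, CUp V H R co x b := by
  obtain ⟨r, hr, hrA⟩ := n.K.unip (fun _ => b)
  exact ⟨r, n.up_P hr (CUp.of_acts hrA), CUp.of_acts hrA⟩

theorem onto {w : V} (hw : w ∈ WW V H R) (hw1 : w ∉ W₁) {v : V} (hv : v ∈ W₁) : ∃ x ∈ P, x • w + w + v ∈ D := by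
  have h4 : co w 0 1 ≠ 0 := fun h5 => hw1 ((n.mem_W₁ w).2 ⟨hw, h5⟩)
  obtain ⟨x, hx, hb⟩ := n.exists_up (co v 0 0 / co w 0 1)
  refine ⟨x, hx, ?_⟩
  have hxw : x • w ∈ WW V H R := smul_mem_WW (n.a.RH (n.PR hx)) hw
  rw [n.add_mem_D (add_mem hxw hw) (n.W₁W hv), n.K.add _ hxw _ hw]
  apply co_ext
  · rw [Pi.add_apply, Pi.add_apply, (hb w hw).1, div_mul_cancel₀ _ h4]
    have e : co w 0 0 + co v 0 0 + co w 0 0 = co v 0 0 + (co w 0 0 + co w 0 0) := by ring
    rw [e, n.ff, add_zero]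
  · rw [Pi.add_apply, Pi.add_apply, (hb w hw).2, n.ff, ((n.mem_W₁ v).1 hv).2]

theorem card_P : Nat.card P = Nat.card F * Nat.card ↥(QQ H R) := by
  have h1 := n.card_up n.PR (fun x hx => n.P_cup hx) n.exists_up
  rwa [inf_eq_right.2 n.QP] at h1

/-- `up b`-elements differ by elements of `Q` -/
theorem up_cancel {x y : Y} (hx : x ∈ R) (hy : y ∈ R) {b : F} (h1 : CUp V H R co x b) (h2 : CUp V H R co y b) :
    x⁻¹ * y ∈ QQ H R := by
  apply n.up_Q (R.mul_mem (R.inv_mem hx) hy)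
  have h3 := n.up_mul (H.inv_mem (n.a.RH hx)) (n.a.RH hy) (n.up_inv (n.a.RH hx) h1) h2
  rwa [n.ff] at h3

theorem le_of_up {A : Subgroup Y} (hAR : A ≤ R) (h1 : ∀ x ∈ A, ∃ b, CUp V H R co x b)
    (h2 : ∀ b, ∃ x ∈ A, CUp V H R co x b) : A ≤ P ∧ P ≤ A ⊔ QQ H R := by
  refine ⟨fun x hx => ?_, fun x hx => ?_⟩
  · obtain ⟨b, hb⟩ := h1 x hx
    exact n.up_P (hAR hx) hb
  · obtain ⟨b, hb⟩ := n.P_cup hx
    obtain ⟨y, hy, hyb⟩ := h2 b
    have h3 := n.up_cancel (hAR hy) (n.PR hx) hyb hb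
    have h4 := (A ⊔ QQ H R).mul_mem (mem_sup_left hy) (mem_sup_right h3)
    rwa [mul_inv_cancel_left] at h4

theorem exactOff {A : Subgroup Y} (hAR : A ≤ R) (hA : ElAb A) (hAQ : ¬ A ≤ QQ H R)
    (hle : Nat.card ↥(A ⊓ QQ H R) * Nat.card ↥(WW V H R) ≤ Nat.card A * Nat.card ↥(fx V A ⊓ WW V H R)) :
    A ≤ P ∧ P ≤ A ⊔ QQ H R := by
  obtain ⟨h1, h2⟩ := n.off1 hAR hA hAQ hle
  exact n.le_of_up hAR h1 h2

theorem mem_elab {B : Subgroup Y} (hB : B ∈ U) : ElAb B := ⟨(n.amb.cls.mem B hB).comm, (n.amb.cls.mem B hB).sq⟩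

theorem mem_up {B : Subgroup Y} (hB : B ∈ U) (hBR : B ≤ R) (hBQ : ¬ B ≤ QQ H R) :
    (∀ x ∈ B, ∃ b, CUp V H R co x b) ∧ ∀ b, ∃ x ∈ B, CUp V H R co x b := by
  apply n.off1 hBR (n.mem_elab hB) hBQ
  have h1 := Amal.exact' n.a n.amb n.we hB (hBR.trans n.a.RH)
  rw [inf_comm (fx V B), ← h1, mul_comm]

theorem cover {B : Subgroup Y} (hB : B ∈ U) (hBR : B ≤ R) (hBQ : ¬ B ≤ QQ H R) : B ≤ P ∧ P ≤ B ⊔ QQ H R := by
  obtain ⟨h1, h2⟩ := n.mem_up hB hBR hBQ
  exact n.le_of_up hBR h1 h2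

theorem P_fix {x : Y} (hx : x ∈ P) {w : V} (hw : w ∈ W₁) : x • w = w := by
  obtain ⟨B, hB, hBR, hBQ⟩ := n.a.exists_not_QQ n.amb
  obtain ⟨h1, h2⟩ := n.mem_up hB hBR hBQ
  -- `W ∩ F_B = W₁`
  have h3 : WW V H R ⊓ fx V B = W₁ := by
    have h4 : WW V H R ⊓ fx V B ≤ W₁ := by
      intro v hv
      obtain ⟨y, hy, hyb⟩ := h2 1
      refine (n.mem_W₁ v).2 ⟨hv.1, ?_⟩
      have h5 := (hyb v hv.1).1
      rw [(mem_fx.1 hv.2) y hy, one_mul] at h5
      exact left_eq_add.1 h5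
    have h5 := Amal.exact' n.a n.amb n.we hB (hBR.trans n.a.RH)
    rw [n.card_up hBR h1 h2, n.card_W] at h5
    have h6 : Nat.card W₁ = Nat.card ↥(WW V H R ⊓ fx V B) := by
      have hF : 0 < Nat.card F := Nat.card_pos
      have hBQ : 0 < Nat.card ↥(B ⊓ QQ H R) := Nat.card_pos
      apply Nat.eq_of_mul_eq_mul_left (Nat.mul_pos hF hBQ)
      rw [← h5]
      ring
    exact AddSubgroup.eq_of_le_of_card_ge h4 h6.le
  obtain ⟨b, hb⟩ := n.P_cup hx
  obtain ⟨y, hy, hyb⟩ := h2 b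
  have h4 := n.up_cancel (hBR hy) (n.PR hx) hyb hb
  have h5 : w ∈ WW V H R ⊓ fx V B := by rw [h3]; exact hw
  have e : x • w = y • (y⁻¹ * x) • w := by rw [← mul_smul, mul_inv_cancel_left]
  rw [e, Amal.QQ_fix n.a n.amb h4 h5.1, (mem_fx.1 h5.2) y hy]

theorem D_fix {w : V} (hw : w ∈ D) (hR : ∀ r ∈ R, r • w = w) {x : Y} (hx : x ∈ H) : x • w = w := by
  have h1 : H ⊓ MulAction.stabilizer Y w = H := by
    apply n.K.gen
    · exact le_inf n.a.RH fun r hr => MulAction.mem_stabilizer_iff.2 (hR r hr)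
    · exact inf_le_left
    · intro h hh A hA
      exact ⟨hh, MulAction.mem_stabilizer_iff.2 (hA.2 w ((n.mem_D w).1 hw).1 ((n.mem_D w).1 hw).2)⟩
  rw [← h1] at hx
  exact MulAction.mem_stabilizer_iff.1 hx.2

/-! ### The points -/

/-- one vector of `W₁ ∖ D` decides -/
theorem line_all {x : Y} (hx : x ∈ H) {w : V} (hw : w ∈ W₁) (hwD : w ∉ D) (hxw : x • w ∈ W₁) {v : V} (hv : v ∈ W₁) :
    x • v ∈ W₁ := by
  by_contra hcon
  have hW : ∀ w ∈ WW V H R, x • w ∈ WW V H R := fun w hw => smul_mem_WW hx hw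
  have hxwD : x • w ∉ D := by
    intro h1
    apply hwD
    have h2 := n.D_H (H.inv_mem hx) h1
    rwa [inv_smul_smul] at h2
  have hlam : co (x • w) 0 0 ≠ 0 := fun h1 => hxwD ((n.mem_D_iff hxw).2 h1)
  have hlam1 : co (x • w) 0 1 = 0 := ((n.mem_W₁ _).1 hxw).2
  have hb : co (x • v) 0 1 ≠ 0 := fun h1 => hcon ((n.mem_W₁ _).2 ⟨hW v (n.W₁W hv), h1⟩)
  obtain ⟨r, hr, hrA⟩ := n.K.unip (fun _ => 1)
  have hrU := CUp.of_acts hrA
  obtain ⟨B, hB⟩ := n.K.norm x hx r (n.a.RH hr) _ hrA.1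
  have hB' : ∀ w ∈ WW V H R, co (x • r • w) 0 = ap (B 0) (co (x • w) 0) := by
    intro w hw
    have h1 := hB (x • w) (hW w hw) 0
    rw [mul_smul, mul_smul, inv_smul_smul] at h1
    exact h1
  -- `x r w ≡ x w` for `w ∈ W₁`
  have hfix : ∀ u ∈ W₁, co (x • r • u) = co (x • u) := by
    intro u hu
    have hru : r • u ∈ WW V H R := smul_mem_WW (n.a.RH hr) (n.W₁W hu)
    rw [← n.add_mem_D (hW _ hru) (hW _ (n.W₁W hu)), ← smul_add]
    apply n.D_H hx
    rw [n.add_mem_D hru (n.W₁W hu)]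
    apply co_ext
    · rw [(hrU u (n.W₁W hu)).1, ((n.mem_W₁ u).1 hu).2, mul_zero, add_zero]
    · exact (hrU u (n.W₁W hu)).2
  have h1 := hB' w (n.W₁W hw)
  rw [hfix w hw] at h1
  have h10 := congrFun h1 0
  have h11 := congrFun h1 1
  rw [NatPair.ap_zero', hlam1, mul_zero, add_zero] at h10
  rw [NatPair.ap_one', hlam1, mul_zero, add_zero] at h11
  have e00 : ent (B 0) 0 0 = 1 := by
    have h2 : ent (B 0) 0 0 * co (x • w) 0 0 = 1 * co (x • w) 0 0 := by rw [one_mul]; exact h10.symm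
    exact mul_right_cancel₀ hlam h2
  have e10 : ent (B 0) 1 0 = 0 := (mul_eq_zero.1 h11.symm).resolve_right hlam
  have e11 : ent (B 0) 1 1 = 1 := by
    have h2 := det_eq (B 0)
    rw [e00, e10, one_mul, mul_zero, sub_zero] at h2
    exact h2
  have h2 := hB' v (n.W₁W hv)
  rw [hfix v hv] at h2
  have h20 := congrFun h2 0
  rw [NatPair.ap_zero', e00, one_mul] at h20
  have e01 : ent (B 0) 0 1 = 0 := (mul_eq_zero.1 (left_eq_add.1 h20)).resolve_right hb
  -- `B = 1`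
  obtain ⟨u, hu, hu0, hu1⟩ := n.exists_co 0 1
  have hru : r • u ∈ WW V H R := smul_mem_WW (n.a.RH hr) hu
  have h3 : co (x • r • u) = co (x • u) := by
    have h4 := hB' u hu
    apply co_ext
    · rw [h4, NatPair.ap_zero', e00, e01, one_mul, zero_mul, add_zero]
    · rw [h4, NatPair.ap_one', e10, e11, one_mul, zero_mul, zero_add]
  rw [← n.add_mem_D (hW _ hru) (hW _ hu), ← smul_add] at h3
  have h4 := n.D_H (H.inv_mem hx) h3
  rw [inv_smul_smul, n.add_mem_D hru hu] at h4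
  have h5 := (hrU u hu).1
  rw [h4, hu1, mul_one] at h5
  exact one_ne_zero (left_eq_add.1 h5)

/-- the stabilizer of `W₁` in `H` -/
theorem exists_stab : ∃ S : Subgroup Y, (∀ x, x ∈ S ↔ x ∈ H ∧ ∀ w ∈ W₁, x • w ∈ W₁) ∧ S ≤ M := by
  have hinv : ∀ x : Y, (∀ w ∈ W₁, x • w ∈ W₁) → ∀ w ∈ W₁, x⁻¹ • w ∈ W₁ := by
    intro x hx w hw
    let f : W₁ → W₁ := fun v => ⟨x • (v : V), hx v v.2⟩
    have hf : Function.Injective f := by
      intro u v he
      have h1 : x • (u : V) = x • (v : V) := congrArg Subtype.val he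
      exact Subtype.ext (smul_left_cancel x h1)
    obtain ⟨v, hv⟩ := (Finite.injective_iff_surjective.1 hf) ⟨w, hw⟩
    have h1 : x • (v : V) = w := congrArg Subtype.val hv
    rw [← h1, inv_smul_smul]
    exact v.2
  let S : Subgroup Y :=
    { carrier := {x | x ∈ H ∧ ∀ w ∈ W₁, x • w ∈ W₁}
      one_mem' := ⟨H.one_mem, fun w hw => by rwa [one_smul]⟩
      mul_mem' := fun {x y} hx hy => ⟨H.mul_mem hx.1 hy.1, fun w hw => by
        rw [mul_smul]; exact hx.2 _ (hy.2 w hw)⟩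
      inv_mem' := fun {x} hx => ⟨H.inv_mem hx.1, hinv x hx.2⟩ }
  refine ⟨S, fun x => Iff.rfl, ?_⟩
  apply n.a.uniq S
  · intro r hr
    exact ⟨n.a.RH hr, fun w hw => n.W₁_R hr hw⟩
  · refine lt_of_le_of_ne (fun x hx => hx.1) ?_
    intro h1
    obtain ⟨g, hg, hgA⟩ := n.K.lift (fun _ => lo 1)
    obtain ⟨e, he, he0, he1⟩ := n.exists_co 1 0
    rw [← h1] at hg
    have h2 := hg.2 e ((n.mem_W₁ e).2 ⟨he, he1⟩)
    have h3 := ((n.mem_W₁ _).1 h2).2
    have h4 := congrFun (hgA.1 e he 0) 1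
    rw [h3, NatPair.ap_one', lo_10, lo_11, he0, he1, one_mul, mul_zero, add_zero] at h4
    exact zero_ne_one h4

theorem opp {x : Y} (hx : x ∈ H) (hxM : x ∉ M) {w : V} (hw : w ∈ W₁) (hxw : x • w ∈ W₁) : w ∈ D := by
  by_contra hwD
  obtain ⟨S, hS, hSM⟩ := n.exists_stab
  exact hxM (hSM ((hS x).2 ⟨hx, fun v hv => n.line_all hx hw hwD hxw hv⟩))

theorem RM : R ≤ M := n.a.RT.trans n.amb.TM

theorem stab {x : Y} (hx : x ∈ H) (hxM : x ∈ M) {w : V} (hw : w ∈ W₁) : x • w ∈ W₁ := by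
  by_contra hcon
  obtain ⟨S, hS, hSM⟩ := n.exists_stab
  apply n.a.bad.not_le 1
  rw [map_one, one_smul]
  have hwD : w ∉ D := fun h1 => hcon (n.DW (n.D_H hx h1))
  have hxW : x • w ∈ WW V H R := smul_mem_WW hx (n.W₁W hw)
  have hb : co (x • w) 0 1 ≠ 0 := fun h1 => hcon ((n.mem_W₁ _).2 ⟨hxW, h1⟩)
  have hw0 : co w 0 1 = 0 := ((n.mem_W₁ w).1 hw).2
  have h1 : H ⊓ M = H := by
    apply n.K.gen
    · exact le_inf n.a.RH n.RM
    · exact inf_le_left
    · intro h hh A hA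
      refine ⟨hh, ?_⟩
      by_cases hhS : h • w ∈ W₁
      · exact hSM ((hS h).2 ⟨hh, fun v hv => n.line_all hh hw hwD hhS hv⟩)
      have hhW : h • w ∈ WW V H R := smul_mem_WW hh (n.W₁W hw)
      have hb' : co (h • w) 0 1 ≠ 0 := fun h1 => hhS ((n.mem_W₁ _).2 ⟨hhW, h1⟩)
      obtain ⟨p, hp, hpb⟩ := n.exists_up (co (h • w) 0 0 / co (h • w) 0 1 + co (x • w) 0 0 / co (x • w) 0 1)
      have hpR := n.PR hp
      have hpW : p • x • w ∈ WW V H R := smul_mem_WW (n.a.RH hpR) hxW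
      -- `co (p x w) = (b / b') co (h w)`
      have e0 : co (p • x • w) 0 0 = co (x • w) 0 1 / co (h • w) 0 1 * co (h • w) 0 0 := by
        rw [(hpb _ hxW).1, add_mul, div_mul_cancel₀ _ hb]
        have e : co (x • w) 0 0 + (co (h • w) 0 0 / co (h • w) 0 1 * co (x • w) 0 1 + co (x • w) 0 0) =
          co (x • w) 0 1 / co (h • w) 0 1 * co (h • w) 0 0 + (co (x • w) 0 0 + co (x • w) 0 0) := by
          field_simp
          ring
        rw [e, n.ff, add_zero]
      have e1 : co (p • x • w) 0 1 = co (x • w) 0 1 / co (h • w) 0 1 * co (h • w) 0 1 := by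
        rw [(hpb _ hxW).2, div_mul_cancel₀ _ hb']
      -- `h⁻¹ p x w`
      have hu : h⁻¹ • p • x • w ∈ WW V H R := smul_mem_WW (H.inv_mem hh) hpW
      have h2 : ap (A 0) (co (h⁻¹ • p • x • w) 0) =
          ap (A 0) ((co (x • w) 0 1 / co (h • w) 0 1) • co w 0) := by
        rw [← hA.1 _ hu 0, smul_inv_smul, NatPair.ap_smul, ← hA.1 _ (n.W₁W hw) 0]
        apply NatPair.ext2
        · rw [Pi.smul_apply, smul_eq_mul, e0]
        · rw [Pi.smul_apply, smul_eq_mul, e1]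
      have h3 : co (h⁻¹ • p • x • w) 0 = (co (x • w) 0 1 / co (h • w) 0 1) • co w 0 := by
        have h4 := congrArg (ap (A 0)⁻¹) h2
        rwa [NatPair.ap_inv_ap, NatPair.ap_inv_ap] at h4
      have h4 : (h⁻¹ * p * x) • w ∈ W₁ := by
        rw [mul_smul, mul_smul]
        refine (n.mem_W₁ _).2 ⟨hu, ?_⟩
        rw [h3, Pi.smul_apply, hw0, smul_zero]
      have hmem : h⁻¹ * p * x ∈ H := H.mul_mem (H.mul_mem (H.inv_mem hh) (n.a.RH hpR)) hx
      have h5 := hSM ((hS _).2 ⟨hmem, fun v hv => n.line_all hmem hw hwD h4 hv⟩)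
      have h6 := M.mul_mem (M.mul_mem (n.RM hpR) hxM) (M.inv_mem h5)
      have e : p * x * (h⁻¹ * p * x)⁻¹ = h := by group
      rwa [e] at h6
  rw [← h1]
  exact inf_le_right

/-! ### The line is semilinear -/

theorem semiL : SemiL V R P (QQ H R) (WW V H R) W₁ D F (fun v => co v 0 0) where
  two := n.amb.two
  R2 := n.a.R2
  QP := n.QP
  PR := n.PR
  DW := n.DW
  W₁W := n.W₁W
  W_R := fun r hr w hw => smul_mem_WW (n.a.RH hr) hw
  W₁_R := fun r hr w hw => n.W₁_R hr hw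
  D_R := fun r hr w hw => n.D_H (n.a.RH hr) hw
  add := fun v hv w hw => by
    rw [n.K.add _ (n.W₁W hv) _ (n.W₁W hw)]
    rfl
  surj := fun a => by
    obtain ⟨v, hv, h0, h1⟩ := n.exists_co a 0
    exact ⟨v, (n.mem_W₁ v).2 ⟨hv, h1⟩, h0⟩
  ker := fun w hw => (n.mem_D_iff hw).symm
  semi := by
    intro r hr μ
    have hrH := n.a.RH hr
    have hW : ∀ w ∈ WW V H R, r • w ∈ WW V H R := fun w hw => smul_mem_WW hrH hw
    by_cases hμ : μ = 0
    · refine ⟨0, fun w hw w' hw' h1 => ?_⟩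
      rw [zero_mul]
      rw [hμ, zero_mul] at h1
      have h2 := n.D_H hrH ((n.mem_D_iff hw').2 h1)
      exact (n.mem_D_iff (n.W₁_R hr hw')).1 h2
    · obtain ⟨g, hg, hgA⟩ := n.K.lift (fun _ => dg μ hμ)
      obtain ⟨B, hB⟩ := n.K.norm r hrH g hg _ hgA.1
      refine ⟨ent (B 0) 0 0, fun w hw w' hw' h1 => ?_⟩
      have hgw : g • w ∈ WW V H R := smul_mem_WW hg (n.W₁W hw)
      have h2 : co w' = co (g • w) := by
        have h3 := hgA.1 w (n.W₁W hw) 0
        apply co_ext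
        · rw [h3, NatPair.ap_zero', dg_00, dg_01, zero_mul, add_zero]
          exact h1
        · rw [h3, NatPair.ap_one', dg_10, dg_11, zero_mul, zero_add, ((n.mem_W₁ w).1 hw).2, mul_zero]
          exact ((n.mem_W₁ w').1 hw').2
      rw [← n.add_mem_D (n.W₁W hw') hgw] at h2
      have h3 := n.D_H hrH h2
      rw [smul_add, n.add_mem_D (hW _ (n.W₁W hw')) (hW _ hgw)] at h3
      change co (r • w') 0 0 = ent (B 0) 0 0 * co (r • w) 0 0
      rw [h3]
      have h4 := hB (r • w) (hW w (n.W₁W hw)) 0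
      rw [mul_smul, mul_smul, inv_smul_smul] at h4
      rw [h4, NatPair.ap_zero', ((n.mem_W₁ _).1 (n.W₁_R hr hw)).2, mul_zero, add_zero]
  mem_P := fun x hx h1 => (n.mem_P x).2 ⟨hx, h1⟩
  P_fix := fun x hx w hw => ((n.mem_P x).1 hx).2 w hw
  P_comm := fun x hx w hw => n.P_comm hx hw
  free := fun x hx w hw hw1 h1 => n.free hx hw hw1 h1
  card_W := n.card_W
  card_W₁ := n.card_W₁
  card_P := n.card_P

/-- **`KOne`** -/
theorem kone : KOne V U M H R P D W₁ (Nat.card F) where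
  two_le := Finite.one_lt_card
  DW := n.DW
  W₁W := n.W₁W
  D_H := fun x hx w hw => n.D_H hx hw
  W₁_R := fun x hx w hw => n.W₁_R hx hw
  QP := n.QP
  PR := n.PR
  mem_P := fun x hx h1 => (n.mem_P x).2 ⟨hx, h1⟩
  P_fix := fun x hx w hw => n.P_fix hx hw
  P_comm := fun x hx w hw => n.P_comm hx hw
  free := fun x hx w hw hw1 h1 => n.free hx hw hw1 h1
  onto := fun w hw hw1 v hv => n.onto hw hw1 hv
  card_W := n.card_W
  card_W₁ := n.card_W₁
  card_P := n.card_P
  D_fix := fun w hw hR x hx => n.D_fix hw hR hx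
  opp := fun x hx hxM w hw hxw => n.opp hx hxM hw hxw
  stab := fun x hx hxM w hw => n.stab hx hxM hw
  cover := fun B hB hBR hBQ => n.cover hB hBR hBQ
  noOver := n.K.noOver
  exactOff := fun A hAR hA hAQ hle => n.exactOff hAR hA hAQ hle
  ea := fun A hAR hA => n.semiL.ea hAR hA
  fld := fun A hAR hA hAP hc => n.semiL.fld hAR hA hAP hc

end Nt

/-- **`KOne` from `KNat` with `k = 1`** -/
theorem KOne.of_KNat [Finite Y] [Finite V] {U : Set (Subgroup Y)} {T : Sylow 2 Y} {M H R : Subgroup Y} {F : Type}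
    [Field F] [Finite F] {co : V → Fin 1 → Fin 2 → F} {t : Y} (amb : Amb V U T M) (a : Amal U T M H R t)
    (we : WE V U H R) (K : KNat V H R F 1 co) :
    ∃ (P : Subgroup Y) (D W₁ : AddSubgroup V), KOne V U M H R P D W₁ (Nat.card F) := by
  obtain ⟨P, D, W₁, n⟩ := exists_Nt amb a we K
  exact ⟨P, D, W₁, n.kone⟩

/-- the same, with the coordinates: `D = {co = 0}`, `W₁ = {co w 0 1 = 0}` -/
theorem KOne.of_KNat' [Finite Y] [Finite V] {U : Set (Subgroup Y)} {T : Sylow 2 Y} {M H R : Subgroup Y} {F : Type}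
    [Field F] [Finite F] {co : V → Fin 1 → Fin 2 → F} {t : Y} (amb : Amb V U T M) (a : Amal U T M H R t)
    (we : WE V U H R) (K : KNat V H R F 1 co) :
    ∃ (P : Subgroup Y) (D W₁ : AddSubgroup V), KOne V U M H R P D W₁ (Nat.card F) ∧
      (∀ w, w ∈ D ↔ w ∈ WW V H R ∧ co w = 0) ∧ (∀ w, w ∈ W₁ ↔ w ∈ WW V H R ∧ co w 0 1 = 0) ∧
        ∀ x, x ∈ P ↔ x ∈ R ∧ ∀ w ∈ W₁, x • w + w ∈ D := by
  obtain ⟨P, D, W₁, n⟩ := exists_Nt amb a we K
  exact ⟨P, D, W₁, n.kone, n.mem_D, n.mem_W₁, n.mem_P⟩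

end Cfsg.Agent.Omega.NO1.TH

end
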